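import Groth.Agent.Lib.CurveSerre11.Scalar
import Groth.Agent.Lib.Euler.Basic
import Groth.Agent.Lib.Equidim6.Basic

/-!
# `h⁰(ω) = h¹(O)` and, on Cohen-Macaulay curves, `h¹(ω) = h⁰(O)`
-/

set_option autoImplicit false
set_option linter.all false
set_option backward.isDefEq.respectTransparency false
set_option maxHeartbeats 1000000

universe u

open CategoryTheory CategoryTheory.Limits AlgebraicGeometry Opposite TopologicalSpace
attribute [local instance] HasDerivedCategory.standard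

noncomputable section

namespace GrothLib.CurveSerre11

variable {k : Type u} [Field k] {X : Scheme.{u}} [X.Over (Spec (CommRingCat.of k))]
  [IsProper (X ↘ Spec (CommRingCat.of k))]
  [DCoh.HasRpush (X ↘ Spec (CommRingCat.of k))] (h : DCoh.RpushPreservesQCoh (X ↘ Spec (CommRingCat.of k)))
  [DCoh.HasShriek (X ↘ Spec (CommRingCat.of k)) h]
  (OY : DCoh.DQCoh (Spec (CommRingCat.of k)))
  (hOY : Nonempty (OY.obj ≅ DCoh.inD (Spec (CommRingCat.of k)) (Coh.structureModule (Spec (CommRingCat.of k)))))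

local notation "π" => (X ↘ Spec (CommRingCat.of k))
local notation "ω" => DCoh.dualizingMod π h OY 1

theorem hmap_add {M N : X.Modules} (φ φ' : M ⟶ N) (n : ℕ) (x : Coh.HH X M n) :
    Cohom.hhMap k (φ + φ') n x = Cohom.hhMap k φ n x + Cohom.hhMap k φ' n x := by
  show Sheaf.H.map ((SheafOfModules.toSheaf X.ringCatSheaf).map (φ + φ')) n x = _
  rw [Functor.map_add]
  exact Sheaf.H.map_add_apply _ _ x

theorem hmap_smulMod (M : X.Modules) (c : k) (n : ℕ) (x : Coh.HH X M n) :
    Cohom.hhMap k (Euler.smulMod M (Coh.toGlobal π c)) n x = c • x := rfl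

theorem hmap_comp {M N P : X.Modules} (φ : M ⟶ N) (ψ : N ⟶ P) (n : ℕ) (x : Coh.HH X M n) :
    Cohom.hhMap k (φ ≫ ψ) n x = Cohom.hhMap k ψ n (Cohom.hhMap k φ n x) := by
  show Sheaf.H.map ((SheafOfModules.toSheaf X.ringCatSheaf).map (φ ≫ ψ)) n x = _
  rw [Functor.map_comp]
  exact Sheaf.H.map_comp_apply _ _ x

variable {h OY}

/-- The map classified by a functional. -/
def homOf {t : Coh.HH X ω 1 →ₗ[k] k} (ht : IsTrace h OY t) {F : X.Modules} (hF : Coh.IsQCoh F)
    (ψ : Coh.HH X F 1 →ₗ[k] k) : F ⟶ ω := (ht F hF ψ).exists.choose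

theorem homOf_spec {t : Coh.HH X ω 1 →ₗ[k] k} (ht : IsTrace h OY t) {F : X.Modules} (hF : Coh.IsQCoh F)
    (ψ : Coh.HH X F 1 →ₗ[k] k) (x : Coh.HH X F 1) : ψ x = t (Cohom.hhMap k (homOf ht hF ψ) 1 x) :=
  (ht F hF ψ).exists.choose_spec x

theorem homOf_eq {t : Coh.HH X ω 1 →ₗ[k] k} (ht : IsTrace h OY t) {F : X.Modules} (hF : Coh.IsQCoh F)
    (ψ : Coh.HH X F 1 →ₗ[k] k) {φ : F ⟶ ω} (hφ : ∀ x, ψ x = t (Cohom.hhMap k φ 1 x)) : homOf ht hF ψ = φ :=
  (ht F hF ψ).unique (homOf_spec ht hF ψ) hφ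

theorem homOf_add {t : Coh.HH X ω 1 →ₗ[k] k} (ht : IsTrace h OY t) {F : X.Modules} (hF : Coh.IsQCoh F)
    (ψ ψ' : Coh.HH X F 1 →ₗ[k] k) : homOf ht hF (ψ + ψ') = homOf ht hF ψ + homOf ht hF ψ' :=
  homOf_eq ht hF _ fun x => by rw [LinearMap.add_apply, hmap_add, map_add, homOf_spec ht hF ψ x, homOf_spec ht hF ψ' x]

theorem homOf_smul {t : Coh.HH X ω 1 →ₗ[k] k} (ht : IsTrace h OY t) {F : X.Modules} (hF : Coh.IsQCoh F)
    (c : k) (ψ : Coh.HH X F 1 →ₗ[k] k) :
    homOf ht hF (c • ψ) = homOf ht hF ψ ≫ Euler.smulMod ω (Coh.toGlobal π c) :=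
  homOf_eq ht hF _ fun x => by
    rw [LinearMap.smul_apply, hmap_comp, hmap_smulMod, map_smul, homOf_spec ht hF ψ x]

variable (h OY)

include hOY in
/-- `h⁰(ω) = h¹(O)`. -/
theorem finrank_HH_zero_omega (hdim : topologicalKrullDim X ≤ 1) :
    Module.finrank k (Coh.HH X ω 0) = Module.finrank k (Coh.HH X (Coh.structureModule X) 1) := by
  haveI := Euler.isNoetherian_of_proper (X := X) k
  obtain ⟨t, ht⟩ := exists_trace h OY hOY hdim
  have hq : Coh.IsQCoh (Coh.structureModule X) := (HomSh.isCoh_structureModule X).1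
  let one : Γ(Coh.structureModule X, ⊤) := (show Γ(Coh.structureModule X, ⊤) from (1 : Γ(X, ⊤)))
  let ev : Module.Dual k (Coh.HH X (Coh.structureModule X) 1) →ₗ[k] Coh.HH X ω 0 :=
    { toFun := fun ψ => (ProjCoh.H0top ω).symm ((homOf ht hq ψ).app ⊤ one)
      map_add' := fun ψ ψ' => by rw [homOf_add, ← map_add]; rfl
      map_smul' := fun c ψ => by
        apply (ProjCoh.H0top ω).injective
        rw [RingHom.id_apply, ProjCoh.H0top_smul, AddEquiv.apply_symm_apply, AddEquiv.apply_symm_apply, homOf_smul]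
        refine (Euler.smulMod_app ω _ ⊤ ((homOf ht hq ψ).app ⊤ one)).trans ?_
        congr 1
        exact (congrArg (fun φ ↦ (CommRingCat.Hom.hom φ) _) (X.presheaf.map_id (op ⊤)) : _) }
  have hval : ∀ φ : Coh.structureModule X ⟶ ω, φ.app ⊤ one = (SheafOfModules.unitHomEquiv ω φ).val (op ⊤) :=
    fun φ => rfl
  have hev : Function.Bijective ev := by
    refine ⟨fun ψ ψ' he => LinearMap.ext fun x => ?_, fun s => ?_⟩
    · have he' : (homOf ht hq ψ).app ⊤ one = (homOf ht hq ψ').app ⊤ one := (ProjCoh.H0top ω).symm.injective he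
      have hφ : homOf ht hq ψ = homOf ht hq ψ' := (SheafOfModules.unitHomEquiv ω).injective (by
        refine Subtype.ext (funext fun U => ?_)
        rw [← (SheafOfModules.unitHomEquiv ω (homOf ht hq ψ)).property (homOfLE le_top : U.unop ⟶ ⊤).op,
          ← (SheafOfModules.unitHomEquiv ω (homOf ht hq ψ')).property (homOfLE le_top : U.unop ⟶ ⊤).op]
        exact congrArg _ he')
      rw [homOf_spec ht hq ψ x, homOf_spec ht hq ψ' x, hφ]
    · let φ := (SheafOfModules.unitHomEquiv ω).symm (FreeRetract9.secOf ω (ProjCoh.H0top ω s))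
      refine ⟨t ∘ₗ Cohom.hhMap k φ 1, ?_⟩
      show (ProjCoh.H0top ω).symm ((homOf ht hq _).app ⊤ one) = s
      rw [homOf_eq ht hq _ (φ := φ) (fun x => rfl), AddEquiv.symm_apply_eq, hval, Equiv.apply_symm_apply]
      exact (congrArg (fun p ↦ (AddCommGrpCat.Hom.hom p) _) ((ω).presheaf.map_id (op ⊤)) : _)
  haveI := Euler.finiteDimensional_HH k (HomSh.isCoh_structureModule X) 1
  rw [← (LinearEquiv.ofBijective ev hev).finrank_eq, Subspace.dual_finrank_eq]

include hOY in
theorem smulMod_injective (hdim : topologicalKrullDim X ≤ 1) (hbad : badSet h OY = ∅) (a : Coh.Γtop X)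
    (ha : Euler.smulMod ω a = 0) : a = 0 := by
  refine TopCat.Presheaf.section_ext (C := CommRingCat) (X := X.carrier) ⟨X.presheaf, X.IsSheaf⟩ ⊤ _ _ fun x hx => ?_
  obtain ⟨U, hU, hxU, -⟩ := exists_isAffineOpen_mem_and_subset (x := x) (U := ⊤) trivial
  have hb := (end_affine h OY hOY hdim hU).2 (X.presheaf.map (homOfLE (le_top : U ≤ ⊤)).op a) x hxU
    (hbad ▸ Set.notMem_empty x) fun m => (Euler.smulMod_app ω a U m).symm.trans (by rw [ha]; rfl)
  rw [TopCat.Presheaf.germ_res_apply] at hb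
  exact hb.trans (map_zero _).symm

include hOY in
/-- `h¹(ω) = h⁰(O)` when the dualizing complex is a sheaf. -/
theorem finrank_HH_one_omega (hdim : topologicalKrullDim X ≤ 1) (hbad : badSet h OY = ∅) :
    Module.finrank k (Coh.HH X ω 1) = Module.finrank k (Coh.HH X (Coh.structureModule X) 0) := by
  haveI := Euler.isNoetherian_of_proper (X := X) k
  obtain ⟨t, ht⟩ := exists_trace h OY hOY hdim
  have hq : Coh.IsQCoh ω := isQCoh_omega h OY hOY
  choose a ha using exists_eq_smulMod h OY hOY hdim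
  let e := ProjCoh.H0top (Coh.structureModule X)
  let av : (ω ⟶ ω) → Γ(Coh.structureModule X, ⊤) := fun φ => a φ
  have huniq : ∀ (φ : ω ⟶ ω) (b : Coh.Γtop X), φ = Euler.smulMod ω b → a φ = b := fun φ b hb => by
    refine sub_eq_zero.1 (smulMod_injective h OY hOY hdim hbad _ ?_)
    refine Scheme.Modules.hom_ext _ _ fun V => AddCommGrpCat.ext fun m => ?_
    refine (Euler.smulMod_app ω _ V m).trans ?_
    show (X.presheaf.map (homOfLE (le_top : V ≤ ⊤)).op (a φ - b)) • m = 0
    rw [map_sub, sub_smul, sub_eq_zero]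
    exact (Euler.smulMod_app ω (a φ) V m).symm.trans ((by rw [← ha φ, hb] : _ = (Euler.smulMod ω b).app V m).trans
      (Euler.smulMod_app ω b V m))
  let L : Module.Dual k (Coh.HH X ω 1) →ₗ[k] Coh.HH X (Coh.structureModule X) 0 :=
    { toFun := fun ψ => e.symm (av (homOf ht hq ψ))
      map_add' := fun ψ ψ' => by
        rw [← map_add]
        congr 1
        refine huniq _ _ ?_
        rw [homOf_add]
        refine Eq.trans (congrArg₂ (· + ·) (ha (homOf ht hq ψ)) (ha (homOf ht hq ψ'))) ?_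
        refine Scheme.Modules.hom_ext _ _ fun V => AddCommGrpCat.ext fun m => ?_
        refine Eq.trans ?_ (Euler.smulMod_app ω _ V m).symm
        show _ = (X.presheaf.map (homOfLE (le_top : V ≤ ⊤)).op (a (homOf ht hq ψ) + a (homOf ht hq ψ'))) • m
        rw [map_add, add_smul]
        rfl
      map_smul' := fun c ψ => by
        apply e.injective
        rw [RingHom.id_apply, ProjCoh.H0top_smul, AddEquiv.apply_symm_apply, AddEquiv.apply_symm_apply]
        refine huniq _ ((Coh.toGlobal π c : Γ(X, ⊤)) * a (homOf ht hq ψ)) ?_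
        rw [homOf_smul, ← smulMod_mul, ← ha] }
  have hL : Function.Bijective L := by
    refine ⟨fun ψ ψ' he => LinearMap.ext fun x => ?_, fun y => ?_⟩
    · have he' : a (homOf ht hq ψ) = a (homOf ht hq ψ') := e.symm.injective he
      rw [homOf_spec ht hq ψ x, homOf_spec ht hq ψ' x, ha (homOf ht hq ψ), he', ← ha]
    · refine ⟨t ∘ₗ Cohom.hhMap k (Euler.smulMod ω (show Γ(X, ⊤) from e y)) 1, ?_⟩
      show e.symm (av (homOf ht hq _)) = y
      rw [homOf_eq ht hq _ (φ := Euler.smulMod ω (show Γ(X, ⊤) from e y)) (fun x => rfl), AddEquiv.symm_apply_eq]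
      exact huniq _ _ rfl
  haveI := Euler.finiteDimensional_HH k (isCoh_omega h OY hOY) 1
  rw [← (LinearEquiv.ofBijective L hL).finrank_eq, Subspace.dual_finrank_eq]

include hOY in
/-- A Cohen-Macaulay curve of pure dimension one has dualizing complex in one degree. -/
theorem badSet_eq_empty (hCM : ∀ x : X, LocCoh.IsCohenMacaulayLocalRing (X.presheaf.stalk x))
    (hequi : ∀ Z ∈ irreducibleComponents (X : Type u), topologicalKrullDim Z = 1) : badSet h OY = ∅ := by
  haveI : ∀ R : CommRingCat.{u}, PreservesFiniteLimits (tilde.functor R) := fun R => inferInstance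
  refine Set.eq_empty_iff_forall_notMem.2 fun x hx => ?_
  have hl : FlatMor.localDim X x = ((1 : ℕ) : WithBot ℕ∞) :=
    (GrothLib.Equidim6.equidim_iff π 1).1 (by simpa using hequi) x
  have := ((ShriekBridge22.stalk_field_of_isCM π h (DCoh.shriekAdj π h) OY hOY x (hCM x) 1 hl).1 0).1
    (not_subsingleton_iff_nontrivial.1 hx)
  omega

end GrothLib.CurveSerre11
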