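import Groth.Agent.Lib.SubCurve16.Subcurve
import Groth.Agent.Lib.SubCurve16.Gen
import Groth.Agent.Lib.CurveSerre11.Numbers
import Groth.Agent.Lib.CurveSerre11.HomDim
import Groth.Agent.Lib.LocFreeHom.IsoNear
import Groth.Agent.Lib.SchImage.Reduced

/-!
# Adjunction for subcurves of a reduced curve with invertible dualizing module

With `Y` a union of components and `Y'` the union of the other components, the two pairings
`H⁰(I_{Y'} ⊗ ω) × H¹(O_Y) → k` and `H⁰(O_Y) × H¹(I_{Y'} ⊗ ω) → k` are non-degenerate on the left;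
adding the inequalities for `Y` and `Y'` gives `χ(ω|Y) = -χ(O_Y) + deg(Y ∩ Y')`.
-/

set_option autoImplicit false
set_option backward.isDefEq.respectTransparency false
set_option linter.all false
set_option maxHeartbeats 1000000

universe u

open CategoryTheory CategoryTheory.Limits AlgebraicGeometry TopologicalSpace Opposite
attribute [local instance] HasDerivedCategory.standard

noncomputable section

namespace GrothLib.CurveSerre11

open GrothLib.QCoh (stalkLin)
open GrothLib.Euler (tF smulMod)
open GrothLib.SubCurve16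

variable {X : Scheme.{u}}

/-- The components off `S`. -/
abbrev compS (S : Set X) : Set X := genericPoints (X : Type u) \ S

theorem compS_subset (S : Set X) : compS S ⊆ genericPoints (X : Type u) := Set.sdiff_subset

theorem compS_compS {S : Set X} (hS : S ⊆ genericPoints (X : Type u)) : compS (compS S) = S :=
  Set.diff_diff_cancel_left hS

theorem notMem_support_compS [NoetherianSpace X] {S : Set X} (hS : S ⊆ genericPoints (X : Type u)) {η : X}
    (hη : η ∈ S) : η ∉ ((JJ (compS S)).support : Set X) := fun h =>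
  (mem_of_mem_closure (compS_subset S) (hS hη) ((support_JJ (compS S)) ▸ h)).2 hη

theorem detect_structure [IsReduced X] [NoetherianSpace X] :
    Detect (Coh.structureModule X) (genericPoints (X : Type u)) := by
  haveI := mono_toSubscheme_of_dense (I := JJ (genericPoints (X : Type u)))
    (by rw [support_JJ, genericPoints.closure])
  exact (detect_quot (S := genericPoints (X : Type u))).of_mono (ClSub.toSubscheme _)

theorem isIso_gam_compS [IsReduced X] [NoetherianSpace X] {S : Set X} (hS : S ⊆ genericPoints (X : Type u)) :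
    IsIso (gam (JJ (compS S)) S) := by
  haveI : Mono (ClSub.idealModι (JJ (compS S))) := inferInstanceAs (Mono (kernel.ι _))
  haveI : Mono (gam (JJ (compS S)) S) := Preadditive.mono_of_kernel_zero (by
    rw [← cancel_mono (ClSub.idealModι (JJ (compS S))), zero_comp]
    refine detect_structure.hom_eq_zero _ fun η hη v => ?_
    by_cases hηS : η ∈ S
    · refine (bijective_toSubscheme hη (S := S) (subset_closure hηS)).1 ?_
      rw [map_zero, ← QCoh.stalkLin_comp, Category.assoc, ← gam_ι, ← Category.assoc, kernel.condition, zero_comp]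
      exact stalkLin_zero _ _
    · refine (bijective_toSubscheme hη (S := compS S) (subset_closure ⟨hη, hηS⟩)).1 ?_
      rw [map_zero, ← QCoh.stalkLin_comp, Category.assoc]
      erw [kernel.condition]
      rw [comp_zero]
      exact stalkLin_zero _ _)
  exact isIso_of_mono_of_epi _

section jj

variable [IsReduced X] [NoetherianSpace X] {L : X.Modules} (hL : PicF.IsInvertible L)
  {S : Set X} (hS : S ⊆ genericPoints (X : Type u))

/-- `I_{Y'} O_Y ⊗ L` inside `L`. -/
def jj : GG (JJ (compS S)) L S ⟶ L :=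
  haveI := isIso_gam_compS hS
  inv ((tF L).map (gam (JJ (compS S)) S)) ≫ (tF L).map (ClSub.idealModι (JJ (compS S))) ≫
    (OX.tensorUnitLeftIso L).hom

include hL in
theorem mono_jj : Mono (jj (L := L) hS) := by
  haveI := isIso_gam_compS hS
  haveI := mono_ii (JJ (compS S)) hL S
  haveI : Mono ((tF L).map (ClSub.idealModι (JJ (compS S)))) := by
    haveI : Mono ((tF L).map (ClSub.idealModι (JJ (compS S))) ≫ (tF L).map (ClSub.toSubscheme (JJ S))) := by
      rw [← Functor.map_comp, ← gam_ι, Functor.map_comp]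
      exact mono_comp _ _
    exact mono_of_mono _ ((tF L).map (ClSub.toSubscheme (JJ S)))
  unfold jj
  exact mono_comp _ _

include hL hS in
theorem surjective_nuG {t : Γ(ClSub.quotMod (JJ S), ⊤)} {η : X} (hηS : η ∈ S)
    (hη : (ClSub.quotMod (JJ S)).presheaf.germ ⊤ η trivial t ≠ 0) :
    Function.Surjective (stalkLin (nuG (JJ (compS S)) L S t) η) := by
  refine stalkLin_tF_surjective hL (nuK _ S t) fun v => ?_
  obtain ⟨e⟩ := nonempty_quot_equiv (hS hηS) (subset_closure hηS)
  have hμ : Function.Surjective (stalkLin (mu (JJ S) t) η) :=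
    surjective_of_ne_zero (isField_stalk (hS hηS)) e _
      (a := stalkLin (ClSub.toSubscheme (JJ S)) η
        ((Coh.structureModule X).presheaf.germ ⊤ η trivial (FinCov.one X ⊤))) (by
        rw [← QCoh.stalkLin_comp, toSubscheme_mu, stalkLin_homOfSection]; exact hη)
  have hb := bijective_kerι (JJ (compS S)) (S := S) (notMem_support_compS hS hηS)
  obtain ⟨w, hw⟩ := hμ (stalkLin (kernel.ι (q0 (JJ (compS S)) S)) η v)
  obtain ⟨w', rfl⟩ := hb.2 w
  refine ⟨w', hb.1 ?_⟩
  rw [← QCoh.stalkLin_comp, nuK_ι, QCoh.stalkLin_comp]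
  exact hw

end jj

variable {k : Type u} [Field k] [X.Over (Spec (CommRingCat.of k))] [IsProper (X ↘ Spec (CommRingCat.of k))]
  [DCoh.HasRpush (X ↘ Spec (CommRingCat.of k))] (h : DCoh.RpushPreservesQCoh (X ↘ Spec (CommRingCat.of k)))
  [DCoh.HasShriek (X ↘ Spec (CommRingCat.of k)) h]
  (OY : DCoh.DQCoh (Spec (CommRingCat.of k)))
  (hOY : Nonempty (OY.obj ≅ DCoh.inD (Spec (CommRingCat.of k)) (Coh.structureModule (Spec (CommRingCat.of k)))))

local notation "π" => (X ↘ Spec (CommRingCat.of k))
local notation "ω" => DCoh.dualizingMod π h OY 1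

/-- A map into `ω` killed by the trace is zero. -/
theorem eq_zero_of_trace {t : Coh.HH X ω 1 →ₗ[k] k} (ht : IsTrace h OY t) {F : X.Modules} (hF : Coh.IsQCoh F)
    (φ : F ⟶ ω) (hφ : t.comp (Cohom.hhMap k φ 1) = 0) : φ = 0 :=
  (homOf_eq ht hF 0 (φ := φ) fun x => (LinearMap.congr_fun hφ x).symm).symm.trans
    (homOf_eq ht hF 0 fun x => (IsTrace.map_zero' F x).symm)

variable [IsReduced X] (hd : topologicalKrullDim X ≤ 1)
  (hω : PicF.IsInvertible (DCoh.dualizingMod (X ↘ Spec (CommRingCat.of k)) h OY 1))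
  {S : Set X} (hS : S ⊆ genericPoints (X : Type u))

include hOY hd hω hS in
theorem finrank_H0_GG_le : Module.finrank k (Coh.HH X (GG (JJ (compS S)) ω S) 0) ≤
    Module.finrank k (Coh.HH X (ClSub.quotMod (JJ S)) 1) := by
  have := Euler.isNoetherian_of_proper (X := X) k
  obtain ⟨t, ht⟩ := exists_trace h OY hOY hd
  haveI := mono_jj hω hS
  haveI := Euler.finiteDimensional_HH k (Snapper.isCoh_quotMod k (JJ S)) 1
  let P : Coh.HH X (GG (JJ (compS S)) ω S) 0 →ₗ[k] Module.Dual k (Coh.HH X (ClSub.quotMod (JJ S)) 1) :=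
    (LinearMap.compRight k (t.comp (Cohom.hhMap k (jj hS) 1))).comp (sigmaLin (JJ (compS S)) hω hS k)
  have hinj : Function.Injective P := by
    refine (injective_iff_map_eq_zero P).2 fun z hz => ?_
    have h0 : sigma (JJ (compS S)) hω hS (ProjCoh.H0top _ z) ≫ jj hS = 0 :=
      eq_zero_of_trace h OY ht (Snapper.isCoh_quotMod k (JJ S)).1 _ (LinearMap.ext fun x => by
        refine Eq.trans ?_ (LinearMap.congr_fun hz x)
        exact congrArg t (hmap_comp (k := k) _ _ 1 x))
    have h1 : sigma (JJ (compS S)) hω hS (ProjCoh.H0top _ z) = 0 := (cancel_mono (jj hS)).1 (h0.trans zero_comp.symm)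
    apply (ProjCoh.H0top _).injective
    rw [map_zero]
    refine QCoh.section_eq_zero_of_germ _ _ fun x _ => ?_
    rw [← stalkLin_homOfSection, ← toSubscheme_sigma (JJ (compS S)) hω hS, h1, comp_zero]
    exact stalkLin_zero _ _
  have h := LinearMap.finrank_le_finrank_of_injective hinj
  rwa [Subspace.dual_finrank_eq] at h

include hOY hd hω hS in
theorem finrank_H1_GG_ge : Module.finrank k (Coh.HH X (ClSub.quotMod (JJ S)) 0) ≤
    Module.finrank k (Coh.HH X (GG (JJ (compS S)) ω S) 1) := by
  have := Euler.isNoetherian_of_proper (X := X) k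
  obtain ⟨t, ht⟩ := exists_trace h OY hOY hd
  haveI := mono_jj hω hS
  haveI := Euler.finiteDimensional_HH k (isCoh_GG (JJ (compS S)) hω k S) 1
  let P : Coh.HH X (ClSub.quotMod (JJ S)) 0 →ₗ[k] Module.Dual k (Coh.HH X (GG (JJ (compS S)) ω S) 1) :=
    (LinearMap.compRight k (t.comp (Cohom.hhMap k (jj hS) 1))).comp (nuLin (JJ (compS S)) k (S := S) (L := ω))
  have hinj : Function.Injective P := by
    refine (injective_iff_map_eq_zero P).2 fun z hz => ?_
    have h0 : nuG (JJ (compS S)) ω S (ProjCoh.H0top _ z) ≫ jj hS = 0 :=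
      eq_zero_of_trace h OY ht (isCoh_GG (JJ (compS S)) hω k S).1 _ (LinearMap.ext fun x => by
        refine Eq.trans ?_ (LinearMap.congr_fun hz x)
        exact congrArg t (hmap_comp (k := k) _ _ 1 x))
    have h1 : nuG (JJ (compS S)) ω S (ProjCoh.H0top _ z) = 0 := (cancel_mono (jj hS)).1 (h0.trans zero_comp.symm)
    apply (ProjCoh.H0top _).injective
    rw [map_zero]
    refine detect_quot ⊤ _ fun η _ hηS => ?_
    by_contra hne
    have hs := surjective_nuG hω hS hηS hne
    obtain ⟨e⟩ := nonempty_GG_equiv (JJ (compS S)) hω (hS hηS) (notMem_support_compS hS hηS) (subset_closure hηS)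
    haveI : Nontrivial ((GG (JJ (compS S)) ω S).presheaf.stalk η) := e.toEquiv.nontrivial
    obtain ⟨v, hv⟩ := exists_ne (0 : (GG (JJ (compS S)) ω S).presheaf.stalk η)
    obtain ⟨w, rfl⟩ := hs v
    exact hv (by rw [h1]; exact stalkLin_zero _ _)
  have h := LinearMap.finrank_le_finrank_of_injective hinj
  rwa [Subspace.dual_finrank_eq] at h

omit [DCoh.HasRpush (X ↘ Spec (CommRingCat.of k))] [IsReduced X] in
theorem euler_tF_add {A B C L : X.Modules} (f : A ⟶ B) (g : B ⟶ C) (w : f ≫ g = 0)
    (hs : (ShortComplex.mk f g w).ShortExact) (hflat : FlatMod.IsFlat L) (hA : Coh.IsCoh ((tF L).obj A))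
    (hB : Coh.IsCoh ((tF L).obj B)) (hC : Coh.IsCoh ((tF L).obj C)) :
    Curv2.euler k X ((tF L).obj B) = Curv2.euler k X ((tF L).obj A) + Curv2.euler k X ((tF L).obj C) :=
  Euler.euler_additive k (S := (ShortComplex.mk f g w).map (tF L))
    (OX.tensor_map_shortExact (X := X) (F := L) hflat (S := ShortComplex.mk f g w) hs) hA hB hC

omit [DCoh.HasRpush (X ↘ Spec (CommRingCat.of k))] in
include hd hS in
/-- `χ` of the restriction of `L` to `Y` splits off the points of `Y ∩ Y'`. -/
theorem euler_PP_split {L : X.Modules} (hL : PicF.IsInvertible L) :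
    Curv2.euler k X (PP L S) = Curv2.euler k X (GG (JJ (compS S)) L S) +
      Module.finrank k (Coh.HH X (ClSub.quotMod (JJ (compS S) ⊔ JJ S)) 0) ∧
    Curv2.euler k X (ClSub.quotMod (JJ S)) = Curv2.euler k X (KK (JJ (compS S)) S) +
      Module.finrank k (Coh.HH X (ClSub.quotMod (JJ (compS S) ⊔ JJ S)) 0) ∧
    Curv2.euler k X L = Curv2.euler k X (GG (JJ (compS S)) L S) + Curv2.euler k X (PP L (compS S)) ∧
    Curv2.euler k X (Coh.structureModule X) =
      Curv2.euler k X (KK (JJ (compS S)) S) + Curv2.euler k X (ClSub.quotMod (JJ (compS S))) := by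
  have := Euler.isNoetherian_of_proper (X := X) k
  let Z := JJ (compS S)
  have hK := isCoh_KK Z k S
  have hG := isCoh_GG Z hL k S
  have hQ0 := Snapper.isCoh_quotMod k (Z ⊔ JJ S)
  obtain ⟨hfin, hcl⟩ := finite_of_notMem_genericPoints k hd (QCoh.isClosed_support_of_isCoh hQ0)
    fun η hη h => by
      have h' := Snapper.support_quotMod (Z ⊔ JJ S) h
      rw [Scheme.IdealSheafData.support_sup] at h'
      exact notMem_support_compS hS (mem_of_mem_closure hS hη ((support_JJ S) ▸ h'.2)) h'.1
  have hq := Euler.euler_eq_of_finite_support k _ hfin hcl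
  haveI := isIso_gam_compS hS
  haveI := Euler.epi_toSubscheme Z
  have hseq : (ShortComplex.mk (ClSub.idealModι Z) (ClSub.toSubscheme Z) (kernel.condition _)).ShortExact :=
    { exact := ShortComplex.exact_of_f_is_kernel _ (kernelIsKernel _)
      mono_f := inferInstanceAs (Mono (kernel.ι _)) }
  have hI : Coh.IsCoh (ClSub.idealMod Z) := QCoh.isCoh_of_iso (asIso (gam Z S)).symm hK
  have hflat : FlatMod.IsFlat L := OX.flat_of_isFinLocFree (Euler.isFinLocFree_of_isInvertible hL)
  have hlf := Euler.isFinLocFree_of_isInvertible hL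
  refine ⟨?_, ?_, ?_, ?_⟩
  · rw [Euler.euler_additive k (S := twistSeq Z L S) (twistSeq_shortExact Z hL S) hG (isCoh_tF_quotMod hL k (JJ S))
        (isCoh_tF_quotMod hL k (Z ⊔ JJ S))]
    show _ + Curv2.euler k X (QQ Z L S) = _
    rw [Euler.euler_tF_of_finite_support k (Euler.isFinLocFreeOfRank_one' hL) hQ0 hfin hcl, Nat.cast_one,
      one_mul, hq]
  · rw [Euler.euler_additive k (baseSeq Z S) hK (Snapper.isCoh_quotMod k _) hQ0]
    show _ + Curv2.euler k X (ClSub.quotMod (Z ⊔ JJ S)) = _
    rw [hq]
  · have e := euler_tF_add (k := k) _ _ _ hseq hflat (Euler.isCoh_tF hI hlf)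
      (Euler.isCoh_tF (HomSh.isCoh_structureModule X) hlf) (isCoh_tF_quotMod hL k Z)
    refine ((Euler.euler_of_iso k (OX.tensorUnitLeftIso L).symm).trans e).trans ?_
    show Curv2.euler k X ((tF L).obj (ClSub.idealMod Z)) + _ = _
    rw [Euler.euler_of_iso k ((tF L).mapIso (asIso (gam Z S)))]
  · have e := Euler.euler_additive k hseq hI (HomSh.isCoh_structureModule X) (Snapper.isCoh_quotMod k Z)
    refine e.trans ?_
    show Curv2.euler k X (ClSub.idealMod Z) + _ = _
    rw [Euler.euler_of_iso k (asIso (gam Z S))]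

include hOY hd hω in
/-- `χ(ω) = -χ(O)`. -/
theorem euler_omega_eq_neg : Curv2.euler k X ω = - Curv2.euler k X (Coh.structureModule X) := by
  have := Euler.isNoetherian_of_proper (X := X) k
  haveI := (isCoh_omega h OY hOY).1
  haveI := (HomSh.isCoh_structureModule X).1
  rw [Euler.euler_eq_sub k hd, Euler.euler_eq_sub k hd, finrank_HH_zero_omega h OY hOY hd]
  have hc := Euler.isCoh_of_isFinLocFree (LocFreeHom.isFinLocFree_of_isInvertible hω)
  haveI := LocFreeHom.hasSheafHom ω
  obtain ⟨a⟩ := LM28.nonempty_homSh_iso_coh ω ω hc hc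
  obtain ⟨b⟩ := LocFreeHom.nonempty_iHom_self_iso (LocFreeHom.isFinLocFree_of_isInvertible hω) fun x =>
    (hω x).imp fun U hU => ⟨hU.1, hU.2.map fun e => ((Scheme.Modules.restrictFunctorIsoPullback U.ι).app ω).symm ≪≫ e⟩
  have h1 := finrank_H0_homSh h OY hOY hd ω hc
  rw [(Euler.hhEquiv (A := k) (a ≪≫ b.symm) 0).finrank_eq] at h1
  omega

include hOY hd hω hS in
/-- **Adjunction**: `χ(ω|Y) = -χ(O_Y) + deg(Y ∩ Y')`. -/
theorem euler_PP_omega : Curv2.euler k X (PP ω S) = - Curv2.euler k X (ClSub.quotMod (JJ S)) +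
    Module.finrank k (Coh.HH X (ClSub.quotMod (JJ S ⊔ JJ (compS S))) 0) := by
  have := Euler.isNoetherian_of_proper (X := X) k
  have key : ∀ T : Set X, T ⊆ genericPoints (X : Type u) → Curv2.euler k X (PP ω T) ≤
      - Curv2.euler k X (ClSub.quotMod (JJ T)) +
        Module.finrank k (Coh.HH X (ClSub.quotMod (JJ (compS T) ⊔ JJ T)) 0) := fun T hT => by
    have h1 := (euler_PP_split (k := k) hd hT hω).1
    haveI := (isCoh_GG (JJ (compS T)) hω k T).1
    haveI := (Snapper.isCoh_quotMod k (JJ T)).1
    have h3 := Euler.euler_eq_sub k hd (GG (JJ (compS T)) ω T)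
    have h4 := Euler.euler_eq_sub k hd (ClSub.quotMod (JJ T))
    have h5 := finrank_H0_GG_le h OY hOY hd hω hT
    have h6 := finrank_H1_GG_ge h OY hOY hd hω hT
    omega
  have hA := key S hS
  have hB := key (compS S) (compS_subset S)
  rw [compS_compS hS] at hB
  obtain ⟨h1, h2, h3, h4⟩ := euler_PP_split (k := k) hd hS hω
  have hχ := euler_omega_eq_neg h OY hOY hd hω
  rw [sup_comm (JJ (compS S))] at hA h1 h2
  omega

omit [DCoh.HasRpush (X ↘ Spec (CommRingCat.of k))] [IsReduced X] in
theorem eq_vanishingIdeal_support (J : X.IdealSheafData) [IsReduced J.subscheme] :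
    J = Scheme.IdealSheafData.vanishingIdeal J.support := by
  conv_lhs => rw [← J.ker_subschemeι]
  rw [SchImage.ker_eq_vanishingIdeal]
  congr 1
  apply Closeds.ext
  show closure (Set.range J.subschemeι) = (J.support : Set X)
  rw [J.range_subschemeι, J.support.isClosed.closure_eq]

omit [DCoh.HasRpush (X ↘ Spec (CommRingCat.of k))] in
include k hd in
/-- A connected one-dimensional reduced subscheme is a union of components. -/
theorem eq_JJ (J : X.IdealSheafData) [IsReduced J.subscheme] [ConnectedSpace J.subscheme]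
    (hJ1 : topologicalKrullDim J.subscheme = 1) :
    J = JJ (genericPoints (X : Type u) ∩ J.support) ∧
      Scheme.IdealSheafData.vanishingIdeal (X := X) ⟨closure ((J.support : Set X)ᶜ), isClosed_closure⟩ =
        JJ (compS (genericPoints (X : Type u) ∩ J.support)) := by
  have := Euler.isNoetherian_of_proper (X := X) k
  have hemb := Scheme.Hom.isClosedEmbedding J.subschemeι
  haveI : NoetherianSpace J.subscheme := hemb.isInducing.noetherianSpace
  have hcl : closure (genericPoints (X : Type u) ∩ J.support) = (J.support : Set X) := by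
    refine ((closure_mono Set.inter_subset_right).trans J.support.isClosed.closure_eq.le).antisymm ?_
    have h1 : J.subschemeι '' genericPoints (J.subscheme : Type u) ⊆ genericPoints (X : Type u) ∩ J.support := by
      rintro _ ⟨y, hy, rfl⟩
      refine ⟨?_, J.range_subschemeι.le ⟨y, rfl⟩⟩
      by_contra hng
      refine not_isClosed_generic hJ1 hy ?_
      rw [← hemb.injective.preimage_image {y}, Set.image_singleton]
      exact (Euler.isClosed_singleton_of_notMem_genericPoints hd hng).preimage J.subschemeι.continuous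
    intro x hx
    obtain ⟨y, rfl⟩ := J.range_subschemeι.ge hx
    exact closure_mono h1 (image_closure_subset_closure_image J.subschemeι.continuous
      ⟨y, (genericPoints.closure (α := J.subscheme)).ge (Set.mem_univ y), rfl⟩)
  refine ⟨?_, ?_⟩
  · conv_lhs => rw [eq_vanishingIdeal_support J]
    exact congrArg _ (Closeds.ext hcl.symm)
  · refine congrArg _ (Closeds.ext ?_)
    refine Set.Subset.antisymm (closure_minimal (fun x hx => ?_) isClosed_closure)
      (closure_mono fun η hη => fun hJ => hη.2 ⟨hη.1, hJ⟩)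
    have hx' : x ∈ closure (genericPoints (X : Type u)) := by rw [genericPoints.closure]; trivial
    rw [← Set.inter_union_sdiff (genericPoints (X : Type u)) (J.support : Set X), closure_union] at hx'
    rcases hx' with h' | h'
    · exact absurd (hcl.le h') hx
    · exact (closure_mono (s := genericPoints (X : Type u) \ (J.support : Set X))
        (t := compS (genericPoints (X : Type u) ∩ J.support)) fun η hη => ⟨hη.1, fun h => hη.2 h.2⟩) h'

include hOY hd hω in
/-- **Adjunction**: `deg(ω|J) = -2 χ(O_J) + deg(J ∩ J')`. -/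
theorem deg_omega_restrict (J : X.IdealSheafData) [IsReduced J.subscheme] [ConnectedSpace J.subscheme]
    (hJ1 : topologicalKrullDim J.subscheme = 1) :
    @Curv2.deg k _ J.subscheme ⟨J.subschemeι ≫ π⟩ ((Scheme.Modules.pullback J.subschemeι).obj ω) 1 =
      -2 * @Curv2.euler k _ J.subscheme ⟨J.subschemeι ≫ π⟩ (Coh.structureModule J.subscheme) +
        Module.finrank k (Coh.HH X (ClSub.quotMod (J ⊔ Scheme.IdealSheafData.vanishingIdeal
          ⟨closure ((J.support : Set X)ᶜ), isClosed_closure⟩)) 0) := by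
  obtain ⟨h1, h2⟩ := eq_JJ (k := k) hd J hJ1
  rw [h2]
  revert h1
  generalize hS : genericPoints (X : Type u) ∩ (J.support : Set X) = S
  intro h1
  have hS' : S ⊆ genericPoints (X : Type u) := hS ▸ Set.inter_subset_left
  subst h1
  have e := euler_PP_omega h OY hOY hd hω hS'
  rw [Snapper.euler_tF_quotMod k (JJ S) (Euler.isFinLocFree_of_isInvertible hω), Snapper.euler_quotMod k (JJ S)] at e
  rw [Curv2.deg, Nat.cast_one, one_mul]
  omega

end GrothLib.CurveSerre11
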