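import Groth.Agent.Lib.CurveSerre11.Adjunction
import Groth.Agent.Lib.SubCurve16.Base
import Groth.Agent.Lib.ConnH0.Basic
import Groth.Agent.Lib.Euler.GenericCompare
import Groth.Agent.Lib.Euler.AmpleComponents
import Groth.Agent.Lib.EulerLin16.Main
import Groth.Agent.Lib.OX.PullbackTensor

/-!
# Degrees on subcurves
-/

set_option autoImplicit false
set_option backward.isDefEq.respectTransparency false
set_option linter.all false
set_option maxHeartbeats 1000000

universe u

open CategoryTheory CategoryTheory.Limits AlgebraicGeometry TopologicalSpace Opposite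
attribute [local instance] HasDerivedCategory.standard

noncomputable section

namespace GrothLib.CurveSerre11

open GrothLib.QCoh (stalkLin)
open GrothLib.Euler (tF smulMod)
open GrothLib.SubCurve16

variable {X : Scheme.{u}} (k : Type u) [Field k] [X.Over (Spec (CommRingCat.of k))]
  [IsProper (X ↘ Spec (CommRingCat.of k))]

omit [X.Over (Spec (CommRingCat.of k))] [IsProper (X ↘ Spec (CommRingCat.of k))] in
theorem isIso_kernelι_of_eq_zero {A B : X.Modules} (f : A ⟶ B) (h : f = 0) : IsIso (kernel.ι f) := by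
  subst h; infer_instance

/-- `χ(L|Y) - χ(O_Y)` for the union `Y` of the components through `S`. -/
def degS (L : X.Modules) (S : Set X) : ℤ :=
  Curv2.euler k X (PP L S) - Curv2.euler k X (ClSub.quotMod (JJ S))

theorem deg_eq_degS {L : X.Modules} (hL : PicF.IsInvertible L) (S : Set X) :
    @Curv2.deg k _ (JJ S).subscheme ⟨(JJ S).subschemeι ≫ (X ↘ Spec (CommRingCat.of k))⟩
      ((Scheme.Modules.pullback (JJ S).subschemeι).obj L) 1 = degS k L S := by
  rw [degS, Snapper.euler_tF_quotMod k (JJ S) (Euler.isFinLocFree_of_isInvertible hL),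
    Snapper.euler_quotMod k (JJ S), Curv2.deg, Nat.cast_one, one_mul]

variable (hd : topologicalKrullDim X ≤ 1)

include hd in
theorem degS_empty {L : X.Modules} (hL : PicF.IsInvertible L) : degS k L (∅ : Set X) = 0 := by
  have := Euler.isNoetherian_of_proper (X := X) k
  have hsupp : CohB1.support (ClSub.quotMod (JJ (∅ : Set X))) = ∅ :=
    Set.eq_empty_of_subset_empty ((Snapper.support_quotMod _).trans (by simp [support_JJ]))
  rw [degS]
  show Curv2.euler k X ((tF L).obj (ClSub.quotMod (JJ (∅ : Set X)))) - _ = 0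
  rw [Euler.euler_tF_of_finite_support k (Euler.isFinLocFreeOfRank_one' hL) (Snapper.isCoh_quotMod k _)
    (by rw [hsupp]; exact Set.finite_empty) (fun x hx => absurd hx (by rw [hsupp]; exact Set.notMem_empty x))]
  simp

variable [IsReduced X]

theorem quotMod_univ_iso [NoetherianSpace X] :
    Nonempty (Coh.structureModule X ≅ ClSub.quotMod (JJ (genericPoints (X : Type u)))) := by
  haveI := mono_toSubscheme_of_dense (I := JJ (genericPoints (X : Type u)))
    (by rw [support_JJ, genericPoints.closure])
  haveI := Euler.epi_toSubscheme (JJ (genericPoints (X : Type u)))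
  haveI : IsIso (ClSub.toSubscheme (JJ (genericPoints (X : Type u)))) := isIso_of_mono_of_epi _
  exact ⟨asIso (ClSub.toSubscheme _)⟩

include k in
theorem euler_univ {L : X.Modules} :
    Curv2.euler k X (PP L (genericPoints (X : Type u))) = Curv2.euler k X L ∧
      Curv2.euler k X (ClSub.quotMod (JJ (genericPoints (X : Type u)))) =
        Curv2.euler k X (Coh.structureModule X) := by
  have := Euler.isNoetherian_of_proper (X := X) k
  obtain ⟨e⟩ := quotMod_univ_iso (X := X)
  exact ⟨(Euler.euler_of_iso k ((tF L).mapIso e)).symm.trans (Euler.euler_of_iso k (OX.tensorUnitLeftIso L)),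
    (Euler.euler_of_iso k e).symm⟩

theorem degS_univ {L : X.Modules} : degS k L (genericPoints (X : Type u)) = Curv2.deg k X L 1 := by
  obtain ⟨h1, h2⟩ := euler_univ (X := X) k (L := L)
  rw [degS, h1, h2, Curv2.deg, Nat.cast_one, one_mul]

include hd in
/-- The degree on a union of components is additive. -/
theorem degS_union {L : X.Modules} (hL : PicF.IsInvertible L) {S T : Set X}
    (hS : S ⊆ genericPoints (X : Type u)) (hT : T ⊆ S) :
    degS k L S = degS k L T + degS k L (S \ T) := by
  have := Euler.isNoetherian_of_proper (X := X) k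
  have hd' : S \ T ⊆ S := Set.sdiff_subset
  let g : ClSub.quotMod (JJ S) ⟶ ClSub.quotMod (JJ (S \ T)) := Lef.quotMap (JJ_anti hd')
  let φ : kernel g ⟶ ClSub.quotMod (JJ T) := kernel.ι g ≫ Lef.quotMap (JJ_anti hT)
  have hQ : ∀ R : Set X, Coh.IsCoh (ClSub.quotMod (JJ R)) := fun R => Snapper.isCoh_quotMod k _
  have hK : Coh.IsCoh (kernel g) := QCoh.isCoh_kernel _ (hQ _) (hQ _)
  have hb : ∀ η ∈ genericPoints (X : Type u), Function.Bijective (stalkLin φ η) := by
    intro η hη
    have hex := (OX.exact_iff (ShortComplex.mk (kernel.ι g) g (kernel.condition g))).1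
      (ShortComplex.exact_of_f_is_kernel _ (kernelIsKernel g)) η
    rw [ShortComplex.moduleCat_exact_iff] at hex
    by_cases hηT : η ∈ T
    · have hz := QCoh.stalk_subsingleton_of_notMem
        (notMem_support_quot (hd'.trans hS) hη (fun h : η ∈ S \ T => h.2 hηT))
      have hι : Function.Bijective (stalkLin (kernel.ι g) η) :=
        ⟨QCoh.stalkLin_injective _ η, fun v => hex v (@Subsingleton.elim _ hz _ _)⟩
      have hq : Function.Bijective (stalkLin (Lef.quotMap (JJ_anti hT)) η) := by
        refine ⟨quotMap_injective_at hT hη hηT, fun v => ?_⟩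
        obtain ⟨w, hw⟩ := (bijective_toSubscheme hη (S := T) (subset_closure hηT)).2 v
        exact ⟨stalkLin (ClSub.toSubscheme (JJ S)) η w, by
          rw [← QCoh.stalkLin_comp, LefEt7.toSubscheme_quotMap]; exact hw⟩
      refine ⟨fun a b h => hι.1 (hq.1 ?_), fun v => ?_⟩
      · rwa [QCoh.stalkLin_comp, QCoh.stalkLin_comp] at h
      · obtain ⟨w, rfl⟩ := hq.2 v
        obtain ⟨u, rfl⟩ := hι.2 w
        exact ⟨u, QCoh.stalkLin_comp _ _ _ _⟩
    · haveI := QCoh.stalk_subsingleton_of_notMem (notMem_support_quot (hT.trans hS) hη hηT)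
      haveI : Subsingleton ((kernel g).presheaf.stalk η) := by
        refine subsingleton_of_forall_eq 0 fun e => QCoh.stalkLin_injective (kernel.ι g) η ?_
        rw [map_zero]
        by_cases hηS : η ∈ S
        · refine quotMap_injective_at hd' hη ⟨hηS, hηT⟩ ?_
          show stalkLin g η _ = _
          rw [map_zero, ← QCoh.stalkLin_comp, kernel.condition]
          exact stalkLin_zero _ _
        · haveI := QCoh.stalk_subsingleton_of_notMem (notMem_support_quot hS hη hηS)
          exact Subsingleton.elim _ _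
      exact ⟨fun a b _ => Subsingleton.elim _ _, fun v => ⟨0, Subsingleton.elim _ _⟩⟩
  let B : Set X := CohB1.support (kernel φ) ∪ CohB1.support (cokernel φ)
  have hKφ := QCoh.isCoh_kernel φ hK (hQ T)
  have hCφ := QCoh.isCoh_cokernel φ hK (hQ T)
  obtain ⟨hfin, hcl⟩ := finite_of_notMem_genericPoints k hd
    ((QCoh.isClosed_support_of_isCoh hKφ).union (QCoh.isClosed_support_of_isCoh hCφ)) (fun η hη h => h.elim
      (QCoh.notMem_support_kernel_of_injective φ (hb η hη).1)
      (QCoh.notMem_support_cokernel_of_surjective φ (hb η hη).2))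
  have hcmp := Euler.euler_tF_sub_eq k (Euler.isFinLocFreeOfRank_one' hL) hK (hQ T) φ B hfin hcl fun x hx => by
    refine ⟨?_, stalkLin_surjective_of_cokernel φ fun h => hx (Or.inr h)⟩
    have hz := QCoh.stalk_subsingleton_of_notMem (M := kernel φ) (fun h => hx (Or.inl h))
    refine (injective_iff_map_eq_zero _).2 fun a ha => ?_
    have hex := (OX.exact_iff (ShortComplex.mk (kernel.ι φ) φ (kernel.condition φ))).1
      (ShortComplex.exact_of_f_is_kernel _ (kernelIsKernel φ)) x
    rw [ShortComplex.moduleCat_exact_iff] at hex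
    obtain ⟨c, rfl⟩ := hex a ha
    rw [show c = 0 from @Subsingleton.elim _ hz c 0]
    exact map_zero _
  haveI : Epi g := epi_quotMap _
  have hs : (ShortComplex.mk (kernel.ι g) g (kernel.condition g)).ShortExact :=
    { exact := ShortComplex.exact_of_f_is_kernel _ (kernelIsKernel g) }
  have hlf := Euler.isFinLocFree_of_isInvertible hL
  have e1 := Euler.euler_additive k (S := ShortComplex.mk (kernel.ι g) g (kernel.condition g)) hs hK (hQ S) (hQ (S \ T))
  have e2 := euler_tF_add (k := k) (L := L) _ _ _ hs (OX.flat_of_isFinLocFree hlf) (Euler.isCoh_tF hK hlf)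
    (Euler.isCoh_tF (hQ S) hlf) (Euler.isCoh_tF (hQ (S \ T)) hlf)
  simp only at e1
  simp only [Nat.cast_one, one_mul] at hcmp
  simp only [degS, PP]
  omega

include hd in
theorem degS_pos {L : X.Modules} (hL : PicF.IsInvertible L) (h : ∀ η ∈ genericPoints (X : Type u), 0 < degS k L {η})
    {S : Set X} (hS : S ⊆ genericPoints (X : Type u)) : (S.ncard : ℤ) ≤ degS k L S := by
  have := Euler.isNoetherian_of_proper (X := X) k
  have hfin : S.Finite := (genericPoints.finite NoetherianSpace.finite_irreducibleComponents).subset hS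
  induction S, hfin using Set.Finite.induction_on with
  | empty => simp [degS_empty k hd hL]
  | @insert η R hη hR ih =>
    rw [degS_union k hd hL hS (T := {η}) (Set.singleton_subset_iff.2 (Set.mem_insert η R)),
      Set.insert_sdiff_self_of_notMem hη, Set.ncard_insert_of_notMem hη hR]
    have h1 := h η (hS (Set.mem_insert η R))
    have h2 := ih fun x hx => hS (Set.mem_insert_of_mem η hx)
    push_cast
    omega

variable [ConnectedSpace X] (hdim : topologicalKrullDim X = 1)

include k hdim in
theorem irreducible_JJ {η : X} (hη : η ∈ genericPoints (X : Type u)) :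
    IsReduced (JJ {η}).subscheme ∧ IrreducibleSpace (JJ {η}).subscheme ∧ ConnectedSpace (JJ {η}).subscheme ∧
      topologicalKrullDim (JJ {η}).subscheme = 1 := by
  have := Euler.isNoetherian_of_proper (X := X) k
  haveI := Euler.isIntegral_vanishingIdeal (⟨closure {η}, isClosed_closure⟩ : Closeds X) isIrreducible_singleton.closure
  exact ⟨isReduced_JJ _, inferInstance, inferInstance,
    dim_JJ hdim (Set.singleton_subset_iff.2 hη) ⟨η, rfl⟩⟩

include k hdim in
theorem isAmple_iff_degS {L : X.Modules} (hL : PicF.IsInvertible L) :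
    CohB1.IsAmple L ↔ ∀ η ∈ genericPoints (X : Type u), 0 < degS k L {η} := by
  have := Euler.isNoetherian_of_proper (X := X) k
  rw [Euler.isAmple_iff_deg_pos_components k hdim.le hL]
  have hcomp : ∀ (η : X) (hC : closure ({η} : Set X) ∈ irreducibleComponents (X : Type u)),
      (X.irreducibleComponentIdeal _ hC).radical = JJ {η} := fun η hC => by
    rw [← Scheme.IdealSheafData.vanishingIdeal_support]; rfl
  have key : ∀ (η : X) (hC : closure ({η} : Set X) ∈ irreducibleComponents (X : Type u)),
      @Curv2.deg k _ (X.irreducibleComponentIdeal _ hC).radical.subscheme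
        ⟨(X.irreducibleComponentIdeal _ hC).radical.subschemeι ≫ X ↘ Spec (CommRingCat.of k)⟩
        ((Scheme.Modules.pullback (X.irreducibleComponentIdeal _ hC).radical.subschemeι).obj L) 1 = degS k L {η} :=
    fun η hC => by rw [hcomp η hC]; exact deg_eq_degS k hL _
  constructor
  · intro h η hη
    have hC : closure ({η} : Set X) ∈ irreducibleComponents (X : Type u) := hη
    rw [← key η hC]
    refine h _ hC ?_
    rw [← (irreducible_JJ k hdim hη).2.2.2]
    exact (Euler.homeomorph_range_dim (JJ {η}).subschemeι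
      ((JJ {η}).range_subschemeι.trans (support_JJ _))).symm
  · intro h C hC _
    obtain ⟨η, hη⟩ : ∃ η : X, closure ({η} : Set X) = C :=
      ⟨hC.1.genericPoint, hC.1.genericPoint_closure_eq.trans (isClosed_of_mem_irreducibleComponents C hC).closure_eq⟩
    subst hη
    rw [key η hC]
    exact h η hC

/-! ### Numbers of a subcurve -/

omit [IsReduced X] [ConnectedSpace X] in
theorem pullback_tensorPow {Y : Scheme.{u}} (f : Y ⟶ X) (L : X.Modules) : ∀ n : ℕ,
    Nonempty ((Scheme.Modules.pullback f).obj (CohB1.tensorPow L n) ≅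
      CohB1.tensorPow ((Scheme.Modules.pullback f).obj L) n)
  | 0 => ⟨OX.pullUnitIso f⟩
  | n + 1 => by
    obtain ⟨e⟩ := pullback_tensorPow f L n
    exact ⟨OX.pullTensorIso f (CohB1.tensorPow L n) L ≪≫
      (tF ((Scheme.Modules.pullback f).obj L)).mapIso e⟩

omit [IsReduced X] [ConnectedSpace X] in
theorem deg_eq_ch {Y : Scheme.{u}} [Y.Over (Spec (CommRingCat.of k))] [IsProper (Y ↘ Spec (CommRingCat.of k))]
    (hdY : topologicalKrullDim Y ≤ 1) {L : Y.Modules} (hL : PicF.IsInvertible L) :
    Curv2.deg k Y L 1 = EulerLin16.deg k L := by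
  have hc := Euler.isCoh_of_isInvertible hL
  have h0 := Euler.isCoh_of_isInvertible (Euler.isInvertible_structure (X := Y))
  haveI := hc.1
  haveI := h0.1
  haveI := fun n => Euler.finiteDimensional_HH k hc n
  haveI := fun n => Euler.finiteDimensional_HH k h0 n
  rw [Curv2.deg, Nat.cast_one, one_mul, Euler.euler_eq_sub k hdY, Euler.euler_eq_sub k hdY, EulerLin16.deg,
    EulerLin16.ch, EulerLin16.ch, Module.length_eq_finrank, Module.length_eq_finrank, Module.length_eq_finrank,
    Module.length_eq_finrank]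
  rfl

omit [IsReduced X] [ConnectedSpace X] in
include hd in
theorem deg_restrict_tensorPow {L : X.Modules} (hL : PicF.IsInvertible L) (J : X.IdealSheafData) (n : ℕ) :
    @Curv2.deg k _ J.subscheme ⟨J.subschemeι ≫ (X ↘ Spec (CommRingCat.of k))⟩
      ((Scheme.Modules.pullback J.subschemeι).obj (CohB1.tensorPow L n)) 1 =
    n * @Curv2.deg k _ J.subscheme ⟨J.subschemeι ≫ (X ↘ Spec (CommRingCat.of k))⟩
      ((Scheme.Modules.pullback J.subschemeι).obj L) 1 := by
  letI : J.subscheme.Over (Spec (CommRingCat.of k)) := ⟨J.subschemeι ≫ X ↘ Spec (CommRingCat.of k)⟩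
  haveI : IsProper (J.subscheme ↘ Spec (CommRingCat.of k)) :=
    inferInstanceAs (IsProper (J.subschemeι ≫ X ↘ Spec (CommRingCat.of k)))
  have hdJ : topologicalKrullDim J.subscheme ≤ 1 :=
    (Scheme.Hom.isClosedEmbedding J.subschemeι).isInducing.topologicalKrullDim_le.trans hd
  obtain ⟨e⟩ := pullback_tensorPow J.subschemeι L n
  have hLJ := Ample.isInvertible_pullback J.subschemeι hL
  rw [Euler.deg_of_iso k e, deg_eq_ch k hdJ (Ample.isInvertible_tensorPow hLJ n), deg_eq_ch k hdJ hLJ,
    EulerLin16.deg_tensorPow k hdJ hLJ n]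

include hdim in
/-- Ample modules have positive degree on subcurves; degree one forces irreducibility. -/
theorem ample_restrict {L : X.Modules} (hL : PicF.IsInvertible L) (hA : CohB1.IsAmple L) (J : X.IdealSheafData)
    [IsReduced J.subscheme] [ConnectedSpace J.subscheme] (hJ1 : topologicalKrullDim J.subscheme = 1) :
    0 < @Curv2.deg k _ J.subscheme ⟨J.subschemeι ≫ (X ↘ Spec (CommRingCat.of k))⟩
        ((Scheme.Modules.pullback J.subschemeι).obj L) 1 ∧
      (@Curv2.deg k _ J.subscheme ⟨J.subschemeι ≫ (X ↘ Spec (CommRingCat.of k))⟩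
        ((Scheme.Modules.pullback J.subschemeι).obj L) 1 ≤ 1 → IrreducibleSpace J.subscheme) := by
  have := Euler.isNoetherian_of_proper (X := X) k
  obtain ⟨h1, -⟩ := eq_JJ (k := k) hdim.le J hJ1
  revert h1
  generalize hS : genericPoints (X : Type u) ∩ (J.support : Set X) = S
  intro h1
  have hS' : S ⊆ genericPoints (X : Type u) := hS ▸ Set.inter_subset_left
  subst h1
  have hle := degS_pos k hdim.le hL ((isAmple_iff_degS k hdim hL).1 hA) hS'
  have hne : S.Nonempty := by
    obtain ⟨y⟩ := (inferInstance : Nonempty (JJ S).subscheme)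
    have hy := (JJ S).range_subschemeι.le ⟨y, rfl⟩
    exact closure_nonempty_iff.1 ⟨_, hy⟩
  have hfin : S.Finite := (genericPoints.finite NoetherianSpace.finite_irreducibleComponents).subset hS'
  have hpos : 0 < S.ncard := (Set.ncard_pos hfin).2 hne
  rw [deg_eq_degS k hL]
  refine ⟨by omega, fun h1 => ?_⟩
  obtain ⟨η, rfl⟩ := Set.ncard_eq_one.1 (show S.ncard = 1 by omega)
  exact (irreducible_JJ k hdim (hS' rfl)).2.1

variable [IsAlgClosed k]

omit [IsReduced X] [ConnectedSpace X] in
include hd in
theorem euler_structure (J : X.IdealSheafData) [IsReduced J.subscheme] [ConnectedSpace J.subscheme] :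
    @Curv2.euler k _ J.subscheme ⟨J.subschemeι ≫ (X ↘ Spec (CommRingCat.of k))⟩ (Coh.structureModule J.subscheme) =
      1 - (@Curv2.genus k _ J.subscheme ⟨J.subschemeι ≫ (X ↘ Spec (CommRingCat.of k))⟩ : ℤ) := by
  letI : J.subscheme.Over (Spec (CommRingCat.of k)) := ⟨J.subschemeι ≫ X ↘ Spec (CommRingCat.of k)⟩
  haveI : IsProper (J.subscheme ↘ Spec (CommRingCat.of k)) :=
    inferInstanceAs (IsProper (J.subschemeι ≫ X ↘ Spec (CommRingCat.of k)))
  haveI := (Euler.isCoh_of_isInvertible (Euler.isInvertible_structure (X := J.subscheme))).1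
  rw [Euler.euler_eq_sub k ((Scheme.Hom.isClosedEmbedding J.subschemeι).isInducing.topologicalKrullDim_le.trans hd),
    ConnH0.finrank_H0_eq_one k]
  rfl

include hdim in
theorem euler_structure_self : Curv2.euler k X (Coh.structureModule X) = 1 - (Curv2.genus k X : ℤ) := by
  haveI := (Euler.isCoh_of_isInvertible (Euler.isInvertible_structure (X := X))).1
  rw [Euler.euler_eq_sub k hdim.le, ConnH0.finrank_H0_eq_one k]
  rfl

include hdim in
/-- A connected subcurve not meeting the rest is everything. -/
theorem eq_univ_of_meet_zero (J : X.IdealSheafData) [IsReduced J.subscheme] [ConnectedSpace J.subscheme]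
    (hJ1 : topologicalKrullDim J.subscheme = 1)
    (h0 : Module.finrank k (Coh.HH X (ClSub.quotMod (J ⊔ Scheme.IdealSheafData.vanishingIdeal
          ⟨closure ((J.support : Set X)ᶜ), isClosed_closure⟩)) 0) = 0) :
    J = JJ (genericPoints (X : Type u)) := by
  have := Euler.isNoetherian_of_proper (X := X) k
  have hemp : ¬ Nonempty (J ⊔ Scheme.IdealSheafData.vanishingIdeal (X := X)
      ⟨closure ((J.support : Set X)ᶜ), isClosed_closure⟩).subscheme := fun hn => by
    rw [finrank_quotMod_eq k] at h0
    letI : (J ⊔ Scheme.IdealSheafData.vanishingIdeal (X := X)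
        ⟨closure ((J.support : Set X)ᶜ), isClosed_closure⟩).subscheme.Over (Spec (CommRingCat.of k)) :=
      ⟨Scheme.IdealSheafData.subschemeι _ ≫ X ↘ Spec (CommRingCat.of k)⟩
    haveI : IsProper ((J ⊔ Scheme.IdealSheafData.vanishingIdeal (X := X)
        ⟨closure ((J.support : Set X)ᶜ), isClosed_closure⟩).subscheme ↘ Spec (CommRingCat.of k)) :=
      inferInstanceAs (IsProper (Scheme.IdealSheafData.subschemeι _ ≫ X ↘ Spec (CommRingCat.of k)))
    exact absurd h0 (finrank_H0_pos k).ne'
  have hdisj : ∀ x, x ∈ (J.support : Set X) → x ∉ closure ((J.support : Set X)ᶜ) := fun x hx hx' => by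
    refine hemp ?_
    have : x ∈ ((J ⊔ Scheme.IdealSheafData.vanishingIdeal (X := X)
        ⟨closure ((J.support : Set X)ᶜ), isClosed_closure⟩).support : Set X) := by
      rw [Scheme.IdealSheafData.support_sup]; exact ⟨hx, hx'⟩
    rw [← Scheme.IdealSheafData.range_subschemeι] at this
    exact ⟨this.choose⟩
  have hopen : IsOpen (J.support : Set X) := by
    rw [← isClosed_compl_iff, ← closure_subset_iff_isClosed]
    exact fun x hx hJ => hdisj x hJ hx
  have huniv : (J.support : Set X) = Set.univ := by
    refine (isClopen_iff.1 ⟨J.support.isClosed, hopen⟩).resolve_left fun he => ?_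
    obtain ⟨y⟩ := (inferInstance : Nonempty J.subscheme)
    exact Set.notMem_empty _ (he ▸ J.range_subschemeι.le ⟨y, rfl⟩)
  rw [(eq_JJ (k := k) hdim.le J hJ1).1, huniv, Set.inter_univ]

include hdim in
/-- If every connected subcurve has degree above `2g - 2` then `H¹` vanishes. -/
theorem subsingleton_H1_of_deg {L : X.Modules} (hL : PicF.IsInvertible L)
    (h : ∀ J : X.IdealSheafData, IsReduced J.subscheme → ConnectedSpace J.subscheme →
      topologicalKrullDim J.subscheme = 1 →
      2 * (@Curv2.genus k _ J.subscheme ⟨J.subschemeι ≫ (X ↘ (Spec (CommRingCat.of k)))⟩ : ℤ) - 2 <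
        @Curv2.deg k _ J.subscheme ⟨J.subschemeι ≫ (X ↘ (Spec (CommRingCat.of k)))⟩
          ((Scheme.Modules.pullback J.subschemeι).obj L) 1) :
    Subsingleton (Coh.HH X L 1) := by
  have := Euler.isNoetherian_of_proper (X := X) k
  rw [← not_nontrivial_iff_subsingleton]
  intro hne
  haveI : IsIso (ClSub.idealModι (⊤ : X.IdealSheafData)) := by
    haveI : Mono (ClSub.idealModι (⊤ : X.IdealSheafData)) := inferInstanceAs (Mono (kernel.ι _))
    have h0 : ClSub.toSubscheme (⊤ : X.IdealSheafData) = 0 := by
      refine Scheme.Modules.hom_ext _ _ fun U => AddCommGrpCat.ext fun s => ?_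
      refine QCoh.section_eq_zero_of_germ _ _ fun x _ => ?_
      haveI := QCoh.stalk_subsingleton_of_notMem (M := ClSub.quotMod (⊤ : X.IdealSheafData)) (x := x)
        fun hx => by simpa using Snapper.support_quotMod _ hx
      exact Subsingleton.elim _ _
    exact isIso_kernelι_of_eq_zero _ h0
  have h1 : Nontrivial (Coh.HH X (CohB1.tensorMod (ClSub.idealMod (⊤ : X.IdealSheafData)) L) 1) :=
    (Euler.hhEquiv (A := k) ((tF L).mapIso (asIso (ClSub.idealModι (⊤ : X.IdealSheafData))) ≪≫
      OX.tensorUnitLeftIso L) 1).toEquiv.nontrivial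
  obtain ⟨J, hJr, hJc, hJ1, hle⟩ := exists_subcurve (⊤ : X.IdealSheafData) hL k hdim (fun η _ => by simp)
    subset_rfl (nontrivial_GG_univ _ hL k h1)
  have h2 := h J hJr hJc hJ1
  haveI := hJr
  haveI := hJc
  rw [euler_structure k hdim.le J] at hle
  have h3 : Module.finrank k (Coh.HH X (ClSub.quotMod ((⊤ : X.IdealSheafData) ⊔ J)) 0) = 0 := by
    rw [top_sup_eq]
    haveI : Subsingleton Γ(ClSub.quotMod (⊤ : X.IdealSheafData), ⊤) :=
      subsingleton_of_forall_eq 0 fun s => QCoh.section_eq_zero_of_germ _ s fun x _ =>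
        @Subsingleton.elim _ (QCoh.stalk_subsingleton_of_notMem
          fun hx => by simpa using Snapper.support_quotMod _ hx) _ _
    haveI := (ProjCoh.H0top (ClSub.quotMod (⊤ : X.IdealSheafData))).toEquiv.subsingleton
    exact Module.finrank_zero_of_subsingleton
  rw [h3] at hle
  push_cast at hle
  omega

variable [DCoh.HasRpush (X ↘ Spec (CommRingCat.of k))] (h : DCoh.RpushPreservesQCoh (X ↘ Spec (CommRingCat.of k)))
  [DCoh.HasShriek (X ↘ Spec (CommRingCat.of k)) h]
  (OY : DCoh.DQCoh (Spec (CommRingCat.of k)))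
  (hOY : Nonempty (OY.obj ≅ DCoh.inD (Spec (CommRingCat.of k)) (Coh.structureModule (Spec (CommRingCat.of k)))))
  (hω : PicF.IsInvertible (DCoh.dualizingMod (X ↘ Spec (CommRingCat.of k)) h OY 1))

include hdim hOY hω in
theorem deg_omega_self : Curv2.deg k X (DCoh.dualizingMod (X ↘ Spec (CommRingCat.of k)) h OY 1) 1 =
    2 * (Curv2.genus k X : ℤ) - 2 := by
  rw [Curv2.deg, Nat.cast_one, one_mul, euler_omega_eq_neg h OY hOY hdim.le hω, euler_structure_self k hdim]
  ring

include hdim hOY hω in
/-- The numbers `w = 2g_J - 2 + δ`, and `δ = 0` only for `J = X`. -/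
theorem numbers (J : X.IdealSheafData) [IsReduced J.subscheme] [ConnectedSpace J.subscheme]
    (hJ1 : topologicalKrullDim J.subscheme = 1) :
    @Curv2.deg k _ J.subscheme ⟨J.subschemeι ≫ (X ↘ (Spec (CommRingCat.of k)))⟩
        ((Scheme.Modules.pullback J.subschemeι).obj (DCoh.dualizingMod (X ↘ Spec (CommRingCat.of k)) h OY 1)) 1 =
      2 * (@Curv2.genus k _ J.subscheme ⟨J.subschemeι ≫ (X ↘ (Spec (CommRingCat.of k)))⟩ : ℤ) - 2 +
        (Module.finrank k (Coh.HH X (ClSub.quotMod (J ⊔ Scheme.IdealSheafData.vanishingIdeal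
          ⟨closure ((J.support : Set X)ᶜ), isClosed_closure⟩)) 0) : ℤ) ∧
    (Module.finrank k (Coh.HH X (ClSub.quotMod (J ⊔ Scheme.IdealSheafData.vanishingIdeal
          ⟨closure ((J.support : Set X)ᶜ), isClosed_closure⟩)) 0) = 0 →
      ∀ L : X.Modules, PicF.IsInvertible L →
        @Curv2.deg k _ J.subscheme ⟨J.subschemeι ≫ (X ↘ (Spec (CommRingCat.of k)))⟩
          ((Scheme.Modules.pullback J.subschemeι).obj L) 1 = Curv2.deg k X L 1) := by
  refine ⟨?_, fun h0 L hL => ?_⟩
  · rw [deg_omega_restrict h OY hOY hdim.le hω J hJ1, euler_structure k hdim.le J]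
    ring
  · obtain rfl := eq_univ_of_meet_zero k hdim J hJ1 h0
    rw [deg_eq_degS k hL, degS_univ]

end GrothLib.CurveSerre11
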