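import Mathlib.Tactic

/-!
# Arithmetic of balanced degrees
-/

set_option autoImplicit false

namespace GrothLib.CurveSerre11.Arith

variable {G l d w e a : ℤ}

theorem lt_of_balanced (hG : 0 < G) (hd : G < d) (hw : 0 ≤ w) (he : 0 ≤ e) (hwe : w = 2 * a - 2 + e)
    (h0 : e = 0 → w = G ∧ l = d) (hb : |2 * G * l - 2 * d * w| ≤ G * e) : 2 * a - 2 < l := by
  rcases he.eq_or_lt with h | h
  · obtain ⟨h1, h2⟩ := h0 h.symm
    omega
  · by_contra hc
    have hl : l ≤ w - e := by omega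
    rw [abs_le] at hb
    nlinarith [mul_le_mul_of_nonneg_left hl hG.le, mul_nonneg (sub_nonneg.2 hd.le) hw, mul_pos hG h]

theorem nonneg_w (hG : 0 < G) (he : 0 ≤ e) (ha : 0 ≤ a) (hwe : w = 2 * a - 2 + e)
    (h0 : e = 0 → w = G ∧ l = d) (hd : 0 < 2 * G * l + 2 * d - G) (hb : |2 * G * l - 2 * d * w| ≤ G * e) :
    0 ≤ w := by
  by_contra hw
  rcases he.eq_or_lt with h | h
  · obtain ⟨h1, -⟩ := h0 h.symm
    omega
  · have e1 : e = 1 := by omega
    have w1 : w = -1 := by omega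
    subst e1 w1
    rw [abs_le] at hb
    linarith

theorem of_w_zero (hG : 0 < G) (he : 0 ≤ e) (ha : 0 ≤ a) (hwe : w = 2 * a - 2 + e)
    (h0 : e = 0 → w = G ∧ l = d) (hw : w = 0) (hb : |2 * G * l - 2 * d * w| ≤ G * e) :
    a = 0 ∧ e = 2 ∧ -1 ≤ l ∧ l ≤ 1 := by
  rcases he.eq_or_lt with h | h
  · obtain ⟨h1, -⟩ := h0 h.symm
    omega
  · have ha0 : a = 0 := by omega
    have e2 : e = 2 := by omega
    subst hw
    rw [e2, abs_le] at hb
    refine ⟨ha0, e2, ?_, ?_⟩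
    · nlinarith
    · nlinarith

theorem nonneg_l (hG : 0 < G) (hd : G < 2 * d) (he : 0 ≤ e) (ha : 0 ≤ a) (hwe : w = 2 * a - 2 + e)
    (h0 : e = 0 → w = G ∧ l = d) (hw : 0 < w) (hb : |2 * G * l - 2 * d * w| ≤ G * e) : 0 ≤ l := by
  rcases he.eq_or_lt with h | h
  · obtain ⟨-, h2⟩ := h0 h.symm
    omega
  · by_contra hc
    have hl : l ≤ -1 := by omega
    rw [abs_le] at hb
    nlinarith [mul_le_mul_of_nonneg_left hl hG.le, mul_pos (sub_pos.2 hd) hw,
      mul_nonneg hG.le ha]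

theorem pos_l (hG : 0 < G) (hd : 3 * G < 2 * d) (he : 0 ≤ e) (ha : 0 ≤ a) (hwe : w = 2 * a - 2 + e)
    (h0 : e = 0 → w = G ∧ l = d) (hw : 0 < w) (hb : |2 * G * l - 2 * d * w| ≤ G * e) : 0 < l := by
  rcases he.eq_or_lt with h | h
  · obtain ⟨-, h2⟩ := h0 h.symm
    omega
  · by_contra hc
    have hl : l ≤ 0 := by omega
    rw [abs_le] at hb
    have h3 : e ≤ 3 * w := by omega
    nlinarith [mul_le_mul_of_nonneg_left hl hG.le, mul_pos (sub_pos.2 hd) hw,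
      mul_le_mul_of_nonneg_left h3 hG.le]

theorem two_mul_le (hG : 2 ≤ G) (hd : 3 * G < 2 * d) (he : 0 ≤ e) (ha : 0 ≤ a) (hwe : w = 2 * a - 2 + e)
    (h0 : e = 0 → w = G ∧ l = d) (hw : 0 < w) (hb : |2 * G * l - 2 * d * w| ≤ G * e) : 2 * a ≤ l := by
  rcases he.eq_or_lt with h | h
  · obtain ⟨h1, h2⟩ := h0 h.symm
    omega
  · by_contra hc
    have hl : l ≤ w + 1 - e := by omega
    rw [abs_le] at hb
    have h3 : 2 ≤ w + e := by omega
    nlinarith [mul_le_mul_of_nonneg_left hl (show 0 ≤ G by omega), mul_pos (sub_pos.2 hd) hw,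
      mul_le_mul_of_nonneg_left h3 (show 0 ≤ G by omega)]

theorem two_mul_lt (hG : 2 ≤ G) (hd : 5 * G < 2 * d) (he : 0 ≤ e) (ha : 0 ≤ a) (hwe : w = 2 * a - 2 + e)
    (h0 : e = 0 → w = G ∧ l = d) (hw : 0 < w) (hb : |2 * G * l - 2 * d * w| ≤ G * e) : 2 * a < l := by
  rcases he.eq_or_lt with h | h
  · obtain ⟨h1, h2⟩ := h0 h.symm
    omega
  · by_contra hc
    have hl : l ≤ w + 2 - e := by omega
    rw [abs_le] at hb
    have h3 : 4 ≤ 3 * w + e := by omega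
    nlinarith [mul_le_mul_of_nonneg_left hl (show 0 ≤ G by omega), mul_pos (sub_pos.2 hd) hw,
      mul_le_mul_of_nonneg_left h3 (show 0 ≤ G by omega)]

theorem two_mul_lt' (hG : 2 ≤ G) (hd : 3 * G < 2 * d) (hd' : G + 2 < d) (he : 0 ≤ e) (ha : 0 ≤ a)
    (hwe : w = 2 * a - 2 + e) (h0 : e = 0 → w = G ∧ l = d) (hno : a = 1 → e = 1 → False) (hw : 0 < w)
    (hb : |2 * G * l - 2 * d * w| ≤ G * e) : 2 * a < l := by
  rcases he.eq_or_lt with h | h
  · obtain ⟨h1, h2⟩ := h0 h.symm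
    omega
  · by_contra hc
    have hl : l ≤ w + 2 - e := by omega
    rw [abs_le] at hb
    have h3 : 4 ≤ w + e := by
      by_contra h4
      exact hno (by omega) (by omega)
    nlinarith [mul_le_mul_of_nonneg_left hl (show 0 ≤ G by omega), mul_pos (sub_pos.2 hd) hw,
      mul_le_mul_of_nonneg_left h3 (show 0 ≤ G by omega)]

end GrothLib.CurveSerre11.Arith
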