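import Groth.Prelude.Def_DDual2
import Groth.Prelude.Def_Curv2
import Groth.Agent.Lib.RightAdj22.TopRepApps
import Groth.Agent.Lib.ShriekBridge22.FieldPoints2
import Groth.Agent.Lib.Euler.VB

/-!
# Duality for proper curves: `Hom(F, ω) = H¹(F)^∨` for the dualizing module
-/

set_option autoImplicit false
set_option linter.all false
set_option backward.isDefEq.respectTransparency false
set_option maxHeartbeats 1000000

universe u

open CategoryTheory CategoryTheory.Limits AlgebraicGeometry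
attribute [local instance] HasDerivedCategory.standard

noncomputable section

namespace GrothLib.CurveSerre11

open GrothLib.OX GrothLib.RightAdj22

variable {k : Type u} [Field k] {X : Scheme.{u}} [X.Over (Spec (CommRingCat.of k))]
  [IsProper (X ↘ Spec (CommRingCat.of k))]
  [DCoh.HasRpush (X ↘ Spec (CommRingCat.of k))] (h : DCoh.RpushPreservesQCoh (X ↘ Spec (CommRingCat.of k)))
  [DCoh.HasShriek (X ↘ Spec (CommRingCat.of k)) h]
  (OY : DCoh.DQCoh (Spec (CommRingCat.of k)))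
  (hOY : Nonempty (OY.obj ≅ DCoh.inD (Spec (CommRingCat.of k)) (Coh.structureModule (Spec (CommRingCat.of k)))))

local notation "π" => (X ↘ Spec (CommRingCat.of k))
local notation "ω" => DCoh.dualizingMod π h OY 1

include hOY in
theorem isCoh_omega : Coh.IsCoh ω :=
  ShriekBridge22.isCoh_HD_adjoint π h (DCoh.shriekAdj π h) OY hOY _

include hOY in
theorem isQCoh_omega : Coh.IsQCoh ω := (isCoh_omega h OY hOY).1

include hOY in
theorem exists_trace (hdim : topologicalKrullDim X ≤ 1) :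
    ∃ t : Coh.HH X ω 1 →ₗ[k] k, ∀ F : X.Modules, Coh.IsQCoh F → ∀ ψ : Coh.HH X F 1 →ₗ[k] k,
      ∃! φ : F ⟶ ω, ∀ x, ψ x = t (Sheaf.H.map ((SheafOfModules.toSheaf X.ringCatSheaf).map φ) 1 x) := by
  obtain ⟨eO⟩ := hOY
  haveI : OY.obj.IsGE 0 := ShriekBridge22.isGE_zero_of_iso_structure ⟨eO⟩
  have key : ∀ z : ℤ, z = (0 : ℤ) - ((1 : ℕ) : ℤ) →
      ∃ t : Coh.HH X (DCoh.HD ((DCoh.shriek π h).obj OY).obj z) 1 →ₗ[k] k,
      ∀ F : X.Modules, Coh.IsQCoh F → ∀ ψ : Coh.HH X F 1 →ₗ[k] k,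
      ∃! φ : F ⟶ DCoh.HD ((DCoh.shriek π h).obj OY).obj z,
        ∀ x, ψ x = t (Sheaf.H.map ((SheafOfModules.toSheaf X.ringCatSheaf).map φ) 1 x) := by
    rintro z rfl
    obtain ⟨t, ht⟩ := exists_topPair π h (DCoh.shriekAdj π h) OY 0 1
      (fun M hM q hq => isZero_Rpush_of_fibreDim π 1
        (fun s => (((π).fiberι s).isEmbedding.isInducing.topologicalKrullDim_le).trans (by exact_mod_cast hdim)) M hM q hq)
      (ModuleCat.of k k)
      ((moduleSpecΓFunctor (R := CommRingCat.of k)).mapIso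
        ((DerivedCategory.homologyFunctor _ 0).mapIso eO ≪≫
          (DerivedCategory.singleFunctorCompHomologyFunctorIso (Spec (CommRingCat.of k)).Modules 0).app
            (Coh.structureModule (Spec (CommRingCat.of k)))) ≪≫
        gammaStructureIso (CommRingCat.of k))
    exact ⟨t, ht⟩
  exact key _ (zero_sub _).symm

/-- A trace: it represents the dual of first cohomology. -/
def IsTrace (t : Coh.HH X ω 1 →ₗ[k] k) : Prop :=
  ∀ F : X.Modules, Coh.IsQCoh F → ∀ ψ : Coh.HH X F 1 →ₗ[k] k,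
    ∃! φ : F ⟶ ω, ∀ x, ψ x = t (Sheaf.H.map ((SheafOfModules.toSheaf X.ringCatSheaf).map φ) 1 x)

variable {h OY}

theorem IsTrace.map_zero' {t : Coh.HH X ω 1 →ₗ[k] k} (F : X.Modules) (x : Coh.HH X F 1) :
    t (Sheaf.H.map ((SheafOfModules.toSheaf X.ringCatSheaf).map (0 : F ⟶ ω)) 1 x) = 0 := by
  have h2 := Sheaf.H.map_add_apply (n := 1) ((SheafOfModules.toSheaf X.ringCatSheaf).map (0 : F ⟶ ω))
    ((SheafOfModules.toSheaf X.ringCatSheaf).map (0 : F ⟶ ω)) x
  rw [Functor.map_zero, add_zero] at h2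
  rw [Functor.map_zero, left_eq_add.1 h2, map_zero]

theorem IsTrace.subsingleton_of_hom {t : Coh.HH X ω 1 →ₗ[k] k} (ht : IsTrace h OY t) {F : X.Modules}
    (hF : Coh.IsQCoh F) (h0 : ∀ φ : F ⟶ ω, φ = 0) : Subsingleton (Coh.HH X F 1) := by
  haveI : Module.Free k (Coh.HH X F 1) := Module.Free.of_divisionRing k _
  haveI : Module.Projective k (Coh.HH X F 1) := Module.Projective.of_free
  refine subsingleton_of_forall_eq (0 : Coh.HH X F 1) fun ξ => ?_
  refine (Module.forall_dual_apply_eq_zero_iff k (V := Coh.HH X F 1) ξ).1 ?_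
  intro ψ
  obtain ⟨φ, hφ, -⟩ := ht F hF ψ
  rw [hφ, h0 φ, IsTrace.map_zero']

theorem IsTrace.hom_eq_zero {t : Coh.HH X ω 1 →ₗ[k] k} (ht : IsTrace h OY t) {F : X.Modules}
    (hF : Coh.IsQCoh F) [Subsingleton (Coh.HH X F 1)] (φ : F ⟶ ω) : φ = 0 :=
  (ht F hF 0).unique (fun x => by rw [Subsingleton.elim x 0]; simp) fun x => by
    rw [IsTrace.map_zero']; rfl

variable (h OY)

include hOY in
theorem subsingleton_HH_one_iff (hdim : topologicalKrullDim X ≤ 1) {F : X.Modules} (hF : Coh.IsQCoh F) :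
    Subsingleton (Coh.HH X F 1) ↔ ∀ φ : F ⟶ ω, φ = 0 := by
  obtain ⟨t, ht⟩ := exists_trace h OY hOY hdim
  exact ⟨fun hs φ => @IsTrace.hom_eq_zero _ _ _ _ _ _ h _ OY t ht F hF hs φ, fun h0 => IsTrace.subsingleton_of_hom ht hF h0⟩

end GrothLib.CurveSerre11
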