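import Groth.Agent.Lib.OX.DQCohBrown
import Groth.Agent.Lib.KSix19.RpushAmp.Main
import Groth.Agent.Lib.KInj.Derived
import Groth.Agent.Lib.OX.RpushQCoh
import Groth.Agent.Lib.QCoh.Pieces

/-!
# Duality data exist for a proper scheme over a field
-/

set_option autoImplicit false
set_option backward.isDefEq.respectTransparency false
set_option linter.all false

universe u

open CategoryTheory CategoryTheory.Limits AlgebraicGeometry
attribute [local instance] HasDerivedCategory.standard

noncomputable section

namespace GrothLib.CurveSerre11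

theorem exists_duality_data (k : Type u) [Field k] (X : Scheme.{u}) [X.Over (Spec (CommRingCat.of k))]
    [IsProper (X ↘ Spec (CommRingCat.of k))] :
    ∃ (_ : DCoh.HasRpush (X ↘ Spec (CommRingCat.of k)))
      (h : DCoh.RpushPreservesQCoh (X ↘ Spec (CommRingCat.of k)))
      (_ : DCoh.HasShriek (X ↘ Spec (CommRingCat.of k)) h) (OY : DCoh.DQCoh (Spec (CommRingCat.of k))),
      Nonempty (OY.obj ≅ DCoh.inD (Spec (CommRingCat.of k)) (Coh.structureModule (Spec (CommRingCat.of k)))) := by
  let f := X ↘ Spec (CommRingCat.of k)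
  haveI : CompactSpace X := QuasiCompact.compactSpace_of_compactSpace f
  haveI : QuasiSeparatedSpace X := quasiSeparatedSpace_of_quasiSeparated f
  haveI : DCoh.HasRpush f := KInj.hasRightDerivedFunctor _
  have hf : DCoh.RpushPreservesQCoh f := fun K hK i =>
    OX.isQCoh_of_iso ((DerivedCategory.homologyFunctor _ i).mapIso ((OX.rpushIsoRres f).app K).symm) (OX.isQCohD_Rres f K hK i)
  haveI : (DCoh.RpushQ f hf).IsLeftAdjoint := OX.isLeftAdjoint_lift_Rpush f hf
  exact ⟨inferInstance, hf, inferInstance, ⟨DCoh.inD _ (Coh.structureModule _),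
    KSix19.RpushAmp.isQCohD_inD _ (inferInstanceAs (Coh.structureModule (Spec (CommRingCat.of k))).IsQuasicoherent)⟩,
    ⟨Iso.refl _⟩⟩

end GrothLib.CurveSerre11
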