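import Groth.Agent.Lib.RightAdj22.TopRep
import Groth.Agent.Lib.DualRing.Finite
import Groth.Agent.Lib.DualCx22.ExtEventually

/-!
# Endomorphisms of the bottom cohomology of a dualizing complex in degrees `-1, 0`
-/

set_option autoImplicit false
set_option linter.all false
set_option backward.isDefEq.respectTransparency false
set_option maxHeartbeats 1000000

universe u

open CategoryTheory CategoryTheory.Limits CategoryTheory.Pretriangulated
attribute [local instance] HasDerivedCategory.standard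

noncomputable section

namespace GrothLib.CurveSerre11

open GrothLib.DualRing

variable {B : Type u} [CommRing B] {κ : Dual.D B}

/-- No maps from modules of finite length into `κ[1]`. -/
theorem subsingleton_hom_finiteLength (hmax : ∀ m : Ideal B, m.IsMaximal → Subsingleton (Dual.inD B (B ⧸ m) ⟶ κ⟦(1 : ℤ)⟧))
    {T : Type u} [AddCommGroup T] [Module B T] (hT : IsFiniteLength B T) :
    Subsingleton (Dual.inD B T ⟶ κ⟦(1 : ℤ)⟧) := by
  induction hT with
  | of_subsingleton => exact subsingleton_EH_of_subsingleton _ 1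
  | @of_simple_quotient M _ _ N _ _ ih =>
    obtain ⟨I, hI, ⟨e⟩⟩ : ∃ I : Ideal B, I.IsMaximal ∧ Nonempty ((M ⧸ N) ≃ₗ[B] B ⧸ I) :=
      isSimpleModule_iff_quot_maximal.1 inferInstance
    haveI h3 : Subsingleton (Dual.inD B (M ⧸ N) ⟶ κ⟦(1 : ℤ)⟧) := by
      haveI := hmax I hI
      exact (Iso.homCongr ((DerivedCategory.singleFunctor (ModuleCat.{u} B) 0).mapIso e.toModuleIso)
        (Iso.refl (κ⟦(1 : ℤ)⟧))).subsingleton
    obtain ⟨Tr, hTr, e₁, e₂, e₃⟩ := exists_triangle (f := N.subtype) (g := N.mkQ)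
      (Submodule.injective_subtype N) (Submodule.mkQ_surjective N) (LinearMap.exact_subtype_mkQ N)
    rw [← e₂]
    refine subsingleton_of_forall_eq 0 fun φ => ?_
    haveI : Subsingleton (Tr.obj₁ ⟶ κ⟦(1 : ℤ)⟧) := by rw [e₁]; exact ih
    haveI : Subsingleton (Tr.obj₃ ⟶ κ⟦(1 : ℤ)⟧) := by rw [e₃]; exact h3
    obtain ⟨g, hg⟩ := Triangle.yoneda_exact₂ _ hTr φ (Subsingleton.elim _ _)
    rw [hg, Subsingleton.elim g 0, comp_zero]

variable [IsNoetherianRing B]

/-- Every endomorphism of the bottom cohomology is a homothety, faithfully off the top cohomology. -/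
theorem end_bottom (hω : Dual.IsDualizing B κ)
    (hlow : ∀ i : ℤ, i < -1 → Subsingleton (Dual.HD B κ i))
    (hhigh : ∀ i : ℤ, 0 < i → Subsingleton (Dual.HD B κ i))
    (hfl : IsFiniteLength B (Dual.HD B κ 0))
    (hmax : ∀ m : Ideal B, m.IsMaximal → Subsingleton (Dual.inD B (B ⧸ m) ⟶ κ⟦(1 : ℤ)⟧)) :
    (∀ α : Dual.HD B κ (-1) →ₗ[B] Dual.HD B κ (-1), ∃ b : B, ∀ x, α x = b • x) ∧
    ∀ b f : B, (∀ x : Dual.HD B κ (-1), b • x = 0) → (∀ x : Dual.HD B κ 0, f • x = 0) → f * b = 0 := by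
  let H := DerivedCategory.homologyFunctor (ModuleCat.{u} B)
  let t := DerivedCategory.TStructure.t (C := ModuleCat.{u} B)
  haveI hge : κ.IsGE (-1) := (DerivedCategory.isGE_iff _ _).2 fun i hi =>
    @ModuleCat.isZero_of_subsingleton _ _ _ (hlow i hi)
  haveI hle : κ.IsLE 0 := (DerivedCategory.isLE_iff _ _).2 fun i hi =>
    @ModuleCat.isZero_of_subsingleton _ _ _ (hhigh i hi)
  let L := (t.truncLT 0).obj κ
  let ι : L ⟶ κ := (t.truncLTι 0).app κ
  let R := (t.truncGE 0).obj κ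
  let π : κ ⟶ R := (t.truncGEπ 0).app κ
  haveI : L.IsLE (-1) := t.isLE_truncLT_obj κ 0 (-1) (by omega)
  haveI : R.IsGE 0 := inferInstanceAs (t.IsGE ((t.truncGE 0).obj κ) 0)
  haveI hι : IsIso ((H (-1)).map ι) := DerTrunc.isIso_homology_truncLTι κ 0 (-1) (by omega)
  haveI hπ : IsIso ((H 0).map π) := DerTrunc.isIso_homology_truncGEπ κ 0 0 le_rfl
  haveI : R.IsLE 0 := (DerivedCategory.isLE_iff _ _).2 fun i hi => by
    haveI := DerTrunc.isIso_homology_truncGEπ κ 0 i (by omega)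
    exact (@ModuleCat.isZero_of_subsingleton _ _ _ (hhigh i hi)).of_iso (asIso ((H i).map π)).symm
  obtain ⟨eR⟩ := DerTrunc.nonempty_iso_single R 0
  let j : R ≅ Dual.inD B (Dual.HD B κ 0) :=
    eR ≪≫ (DerivedCategory.singleFunctor (ModuleCat.{u} B) 0).mapIso ((asIso ((H 0).map π)).symm ≪≫
      (LinearEquiv.refl B (Dual.HD B κ 0)).toModuleIso)
  have hT := t.triangleLTGE_distinguished 0 κ
  haveI := subsingleton_hom_finiteLength hmax hfl
  have hR1 : ∀ φ : R ⟶ κ⟦(1 : ℤ)⟧, φ = 0 := fun φ => by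
    rw [← Iso.hom_inv_id_assoc j φ, Subsingleton.elim (j.inv ≫ φ) 0, comp_zero]
  have hext : ∀ z : L ⟶ κ, ∃ β : κ ⟶ κ, z = ι ≫ β := fun z => by
    refine Triangle.yoneda_exact₂ _ (inv_rot_of_distTriang _ hT) z ?_
    apply (shiftFunctor (Dual.D B) (1 : ℤ)).map_injective
    rw [Functor.map_zero]
    rw [← cancel_epi ((shiftEquiv (Dual.D B) (1 : ℤ)).counitIso.inv.app R), comp_zero]
    exact hR1 _
  have hbij := RightAdj22.bijective_map_homology_of_le_ge (-1) L κ
  have hH : ∀ b : B, (H (-1)).map (ι ≫ (b • 𝟙 κ)) = (H (-1)).map ι ≫ (b • 𝟙 _) := fun b => by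
    rw [Functor.map_comp, DualCx22.Evz.homologyMap_smul_id]
  refine ⟨fun α => ?_, fun b f hb hf => ?_⟩
  · obtain ⟨z, hz⟩ := hbij.2 ((H (-1)).map ι ≫ ModuleCat.ofHom α)
    obtain ⟨β, rfl⟩ := hext z
    obtain ⟨b, hb⟩ := hω.toEnd_bijective.2 β
    refine ⟨b, fun x => ?_⟩
    simp only at hz hb
    rw [← hb, hH] at hz
    have h2 := (cancel_epi _).1 hz
    exact (LinearMap.congr_fun (congrArg ModuleCat.Hom.hom h2) x).symm
  · have h0 : (b • 𝟙 ((H (-1)).obj κ)) = 0 := ModuleCat.hom_ext (LinearMap.ext fun x => hb x)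
    have h1 : ι ≫ (b • 𝟙 κ) = 0 := hbij.1 (by simp only; rw [hH, h0, comp_zero, Functor.map_zero])
    obtain ⟨g, hg⟩ := Triangle.yoneda_exact₂ _ hT (b • 𝟙 κ) h1
    have h2 : (f • 𝟙 (Dual.inD B (Dual.HD B κ 0))) = 0 := by
      show f • 𝟙 ((DerivedCategory.singleFunctor (ModuleCat.{u} B) 0).obj _) = _
      rw [← (DerivedCategory.singleFunctor (ModuleCat.{u} B) 0).map_id, ← Functor.map_smul,
        show f • 𝟙 (ModuleCat.of B (Dual.HD B κ 0)) = 0 from ModuleCat.hom_ext (LinearMap.ext fun x => hf x),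
        Functor.map_zero]
    have h3 : f • g = 0 := by
      have : j.inv ≫ (f • g) = 0 := by
        rw [Linear.comp_smul, ← Category.id_comp (j.inv ≫ g), ← Linear.smul_comp, h2, zero_comp]
      rw [← Iso.hom_inv_id_assoc j (f • g), this, comp_zero]
    refine hω.toEnd_bijective.1 ?_
    show (f * b) • 𝟙 κ = (0 : B) • 𝟙 κ
    rw [mul_smul, hg, zero_smul, ← Linear.comp_smul, h3, comp_zero]

end GrothLib.CurveSerre11
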