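import Groth.Agent.Lib.CurveSerre11.Basic
import Groth.Agent.Lib.CurveSerre11.EndBottom
import Groth.Agent.Lib.ShriekBridge22.Canon
import Groth.Agent.Lib.LM28.HomIso
import Groth.Agent.Lib.Euler.Scalar
import Groth.Agent.Lib.ProjCoh.Generic
import Groth.Agent.Lib.SemiLocalDim16.Sop
import Groth.Agent.Lib.QCoh.SupportExact
import Groth.Agent.Lib.FormalExist7.Stalk
import Groth.Agent.Lib.FreeRetract9.Basic

/-!
# Endomorphisms of the dualizing module of a proper curve
-/

set_option autoImplicit false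
set_option linter.all false
set_option backward.isDefEq.respectTransparency false
set_option maxHeartbeats 1000000

universe u

open CategoryTheory CategoryTheory.Limits AlgebraicGeometry Opposite TopologicalSpace
open RefHull (homSh stalkMapₗ stalkMapₗ_germ)
attribute [local instance] HasDerivedCategory.standard

noncomputable section

namespace GrothLib.CurveSerre11

open GrothLib.OX GrothLib.ShriekBridge22

variable {k : Type u} [Field k] {X : Scheme.{u}} [X.Over (Spec (CommRingCat.of k))]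
  [IsProper (X ↘ Spec (CommRingCat.of k))]
  [DCoh.HasRpush (X ↘ Spec (CommRingCat.of k))] (h : DCoh.RpushPreservesQCoh (X ↘ Spec (CommRingCat.of k)))
  [DCoh.HasShriek (X ↘ Spec (CommRingCat.of k)) h]
  (OY : DCoh.DQCoh (Spec (CommRingCat.of k)))
  (hOY : Nonempty (OY.obj ≅ DCoh.inD (Spec (CommRingCat.of k)) (Coh.structureModule (Spec (CommRingCat.of k)))))

local notation "π" => (X ↘ Spec (CommRingCat.of k))
local notation "ω" => DCoh.dualizingMod π h OY 1

/-- The locus where the dualizing complex has cohomology in degree zero. -/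
def badSet : Set X := CohB1.support (DCoh.HD ((DCoh.shriek π h).obj OY).obj 0)

include hOY in
theorem badSet_finite : (badSet h OY).Finite ∧ ∀ x ∈ badSet h OY, IsClosed ({x} : Set X) := by
  haveI := Euler.isNoetherian_of_proper (X := X) k
  haveI : ∀ R : CommRingCat.{u}, PreservesFiniteLimits (tilde.functor R) := fun R => inferInstance
  have hc : IsClosed (badSet h OY) :=
    QCoh.isClosed_support_of_isCoh (isCoh_HD_adjoint π h (DCoh.shriekAdj π h) OY hOY 0)
  have he : badSet h OY = {x : X | Nontrivial ((DCoh.HD ((DCoh.shriek π h).obj OY).obj 0).presheaf.stalk x)} := by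
    ext x
    exact not_subsingleton_iff_nontrivial
  have hd : topologicalKrullDim (badSet h OY) ≤ 0 := by
    rw [he]
    simpa using topologicalKrullDim_support_le π h (DCoh.shriekAdj π h) OY hOY 0
  exact ⟨Euler.finite_of_dim_le_zero hc hd, fun x hx => Euler.isClosed_singleton_of_dim_le_zero hc hd hx⟩

include hOY in
/-- The local form. -/
theorem end_affine (hdim : topologicalKrullDim X ≤ 1) {U : X.Opens} (hU : IsAffineOpen U) :
    (∀ α : Γ(ω, U) →ₗ[Γ(X, U)] Γ(ω, U), ∃ b : Γ(X, U), ∀ m, α m = b • m) ∧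
    ∀ (b : Γ(X, U)) (x : X) (hx : x ∈ U), x ∉ badSet h OY → (∀ m : Γ(ω, U), b • m = 0) →
      X.presheaf.germ U x hx b = 0 := by
  haveI : ∀ R : CommRingCat.{u}, PreservesFiniteLimits (tilde.functor R) := fun R => inferInstance
  let E := ((DCoh.shriek π h).obj OY).obj
  obtain ⟨_, n, ψ, hψ, _, ⟨e⟩⟩ := exists_field_chart π h (DCoh.shriekAdj π h) OY hOY U hU
  letI := GrothLib.DualRing.Shriek.pfl_of_flat k (P := MvPolynomial (Fin n) k)
  let κ := GrothLib.DualRing.Shriek.GP ψ (Dual.inD k k)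
  have hω : Dual.IsDualizing Γ(X, U) κ := isDualizing_GP ψ hψ (isDualizing_field k)
  have hB : ringKrullDim Γ(X, U) ≤ 1 :=
    (GrothLib.Dim.topologicalKrullDim_affineOpen hU).symm.le.trans ((topologicalKrullDim_subspace_le X U).trans hdim)
  have hlow : ∀ i : ℤ, i < -1 → Subsingleton (Dual.HD Γ(X, U) κ i) := fun i hi =>
    (Module.support_eq_empty_iff (R := Γ(X, U))).1 (Set.eq_empty_iff_forall_notMem.2 fun q hq => by
      obtain ⟨-, -, h3⟩ := support_bounds ψ hψ i q hq
      have h5 : (-i).toNat ≤ 1 := by exact_mod_cast h3.trans hB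
      omega)
  have hhigh : ∀ i : ℤ, 0 < i → Subsingleton (Dual.HD Γ(X, U) κ i) := fun i hi =>
    (Module.support_eq_empty_iff (R := Γ(X, U))).1 (Set.eq_empty_iff_forall_notMem.2 fun q hq => by
      obtain ⟨h1, -, -⟩ := support_bounds ψ hψ i q hq
      omega)
  haveI := hω.finite_cohomology 0
  have hfl : IsFiniteLength Γ(X, U) (Dual.HD Γ(X, U) κ 0) :=
    SemiLocalDim16.isFiniteLength_of_supportDim_le_zero (by simpa using supportDim_HD_le ψ hψ 0)
  obtain ⟨hend, hinj⟩ := end_bottom hω hlow hhigh hfl fun m hm => haveI := hm; subsingleton_max ψ hψ m 1 one_ne_zero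
  have key : ∀ z : ℤ, z = -1 → Nonempty ((DCoh.HD E z).val.obj (op U) ≃ₗ[Γ(X, U)] Dual.HD Γ(X, U) κ (-1)) := by
    rintro z rfl
    haveI : (DCoh.HD E (-1)).IsQuasicoherent := ((DCoh.shriek π h).obj OY).property _
    exact (Canon.exists_sections_equiv (-1) hU e).1
  obtain ⟨σ⟩ := key (-((1 : ℕ) : ℤ)) (by norm_num)
  refine ⟨fun α => ?_, fun b x hx hxb hb => ?_⟩
  · obtain ⟨b, hb⟩ := hend (σ.toLinearMap ∘ₗ α ∘ₗ σ.symm.toLinearMap)
    refine ⟨b, fun m => σ.injective ?_⟩
    refine Eq.trans ?_ (map_smul σ b m).symm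
    refine Eq.trans ?_ (hb (σ m))
    show σ (α m) = σ (α (σ.symm (σ m)))
    rw [σ.symm_apply_apply]
  · have hns : (⟨WeakAss.primeAt x hx, inferInstance⟩ : PrimeSpectrum Γ(X, U)) ∉
        Module.support Γ(X, U) (Dual.HD Γ(X, U) κ 0) := fun hs => hxb (by
      have := (nontrivial_stalk_iff hU κ e 0 (((DCoh.shriek π h).obj OY).property 0) x hx).2
        (Module.mem_support_iff.1 hs)
      exact not_subsingleton_iff_nontrivial.2 this)
    rw [Module.mem_support_iff_of_finite, SetLike.not_le_iff_exists] at hns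
    obtain ⟨f, hf, hfp⟩ := hns
    have hfb := hinj b f (fun y => by
      obtain ⟨m, rfl⟩ := σ.surjective y
      exact ((map_smul σ b m).symm.trans ((congrArg σ (hb m)).trans σ.map_zero))) (fun y => Module.mem_annihilator.1 hf y)
    have h2 := congrArg (X.presheaf.germ U x hx) hfb
    rw [map_mul, map_zero] at h2
    exact (HomSh.isUnit_germ hx hfp).mul_right_eq_zero.1 h2

/-- Multiplication as a section of the sheaf of endomorphisms. -/
def toEnd : Coh.structureModule X ⟶ homSh ω ω :=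
  (SheafOfModules.unitHomEquiv (homSh ω ω)).symm (FreeRetract9.secOf (homSh ω ω) (RefHull.ofHom (𝟙 ω) ⊤))

theorem toEnd_app (U : X.Opens) (a : Γ(X, U)) :
    (toEnd h OY).app U a = a • RefHull.ofHom (𝟙 ω) U := by
  have h1 := congrArg (fun s : SheafOfModules.sections (homSh ω ω) => s.val (op U))
    ((SheafOfModules.unitHomEquiv (homSh ω ω)).apply_symm_apply
      (FreeRetract9.secOf (homSh ω ω) (RefHull.ofHom (𝟙 ω) ⊤)))
  have h2 : (toEnd h OY).app U (show Γ(Coh.structureModule X, U) from (1 : Γ(X, U))) = RefHull.ofHom (𝟙 ω) U :=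
    h1.trans rfl
  rw [← h2]
  refine Eq.trans ?_ ((toEnd h OY).app_smul a _)
  congr 1
  show a = a * (1 : Γ(X, U))
  rw [mul_one]

omit [IsProper π] in
theorem stalkMap_id (y : X) (v : (ω).presheaf.stalk y) : stalkMapₗ (𝟙 ω) y v = v := by
  obtain ⟨V, hV, m, rfl⟩ := TopCat.Presheaf.exists_germ_eq (ω).presheaf v
  rw [stalkMapₗ_germ]
  rfl

theorem smul_id_val (U : X.Opens) (a : Γ(X, U)) (y : U) (v : (ω).presheaf.stalk y.1) :
    (a • RefHull.ofHom (𝟙 ω) U).1 y v = X.presheaf.germ U y.1 y.2 a • v := by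
  show X.presheaf.germ U y.1 y.2 a • stalkMapₗ (𝟙 ω) y.1 v = _
  rw [stalkMap_id]

include hOY in
theorem surjective_toEnd_stalk (hdim : topologicalKrullDim X ≤ 1) (x : X) :
    Function.Surjective (QCoh.stalkLin (toEnd h OY) x) := by
  haveI : (ω).IsQuasicoherent := isQCoh_omega h OY hOY
  intro t
  obtain ⟨V, hV, g, rfl⟩ := TopCat.Presheaf.exists_germ_eq (homSh ω ω).presheaf t
  obtain ⟨U, hU, hxU, hUV⟩ := exists_isAffineOpen_mem_and_subset (x := x) (U := V) hV
  let g' : Γ(homSh ω ω, U) := (homSh ω ω).presheaf.map (homOfLE hUV).op g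
  obtain ⟨b, hb⟩ := (end_affine h OY hOY hdim hU).1 ((LM28.appB ω ω U).flip g')
  have hg : g' = b • RefHull.ofHom (𝟙 ω) U := by
    refine Subtype.ext (funext fun y => LinearMap.ext fun v => ?_)
    obtain ⟨c, z, hc, hz⟩ := WeakAss.exists_smul_eq_germ hU y.2 v
    refine (HomSh.isUnit_germ y.2 hc).smul_left_cancel.1 ?_
    rw [← map_smul, ← map_smul, hz, smul_id_val, ← Mero.germ_smul, ← hb z]
    exact (LM28.germ_appV ω ω g' z y.1 y.2).symm
  refine ⟨(Coh.structureModule X).presheaf.germ U x hxU b, ?_⟩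
  refine Eq.trans ?_ (TopCat.Presheaf.germ_res_apply (homSh ω ω).presheaf (homOfLE hUV) x hxU g)
  refine Eq.trans ?_ (congrArg _ hg.symm)
  exact stalkMapₗ_germ (toEnd h OY) x hxU b

include hOY in
theorem injective_toEnd_stalk (hdim : topologicalKrullDim X ≤ 1) (x : X) (hxb : x ∉ badSet h OY) :
    Function.Injective (QCoh.stalkLin (toEnd h OY) x) := by
  refine (injective_iff_map_eq_zero _).2 fun t ht => ?_
  obtain ⟨V, hV, a, rfl⟩ := TopCat.Presheaf.exists_germ_eq (Coh.structureModule X).presheaf t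
  have ht' : (homSh ω ω).presheaf.germ V x hV ((toEnd h OY).app V a) = (homSh ω ω).presheaf.germ V x hV 0 :=
    ((stalkMapₗ_germ (toEnd h OY) x hV a).symm.trans ht).trans (map_zero _).symm
  obtain ⟨W, hxW, i₁, i₂, hW⟩ := TopCat.Presheaf.germ_eq (homSh ω ω).presheaf x hV hV _ _ ht'
  rw [map_zero] at hW
  obtain ⟨U, hU, hxU, hUW⟩ := exists_isAffineOpen_mem_and_subset (x := x) (U := W) hxW
  have hle : U ≤ V := fun z hz => i₁.le (hUW hz)
  let b : Γ(X, U) := X.presheaf.map (homOfLE hle).op a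
  have hb : ∀ m : Γ(ω, U), b • m = 0 := fun m => LM28.ext_germ ω fun y hy => by
    rw [Mero.germ_smul, map_zero]
    show X.presheaf.germ U y hy (X.presheaf.map (homOfLE hle).op a) • _ = 0
    rw [TopCat.Presheaf.germ_res_apply]
    have h1 := congrArg (fun g : Γ(homSh ω ω, W) => g.1 ⟨y, hUW hy⟩ ((ω).presheaf.germ U y hy m)) hW
    refine Eq.trans ?_ h1
    exact (smul_id_val h OY V a ⟨y, i₁.le (hUW hy)⟩ _).symm
  have h2 := (end_affine h OY hOY hdim hU).2 b x hxU hxb hb
  have h2' : X.presheaf.germ U x hxU (X.presheaf.map (homOfLE hle).op a) = X.presheaf.germ U x hxU 0 :=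
    h2.trans (map_zero _).symm
  obtain ⟨W', hxW', j, j', he⟩ := TopCat.Presheaf.germ_eq X.presheaf x hxU hxU _ _ h2'
  rw [map_zero, ← ConcreteCategory.comp_apply, ← Functor.map_comp] at he
  rw [← TopCat.Presheaf.germ_res_apply (Coh.structureModule X).presheaf (homOfLE (j.le.trans hle)) x hxW' a]
  exact (congrArg ((Coh.structureModule X).presheaf.germ W' x hxW') he).trans (map_zero _)

include hOY in
/-- Every endomorphism of the dualizing module is a multiplication by a global function. -/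
theorem exists_eq_smulMod (hdim : topologicalKrullDim X ≤ 1) (φ : ω ⟶ ω) :
    ∃ a : Coh.Γtop X, φ = Euler.smulMod ω a := by
  haveI := Euler.isNoetherian_of_proper (X := X) k
  haveI : Epi (toEnd h OY) := FormalExist7.epi_of_stalk _ (surjective_toEnd_stalk h OY hOY hdim)
  let S : ShortComplex X.Modules := ShortComplex.mk (kernel.ι (toEnd h OY)) (toEnd h OY) (kernel.condition _)
  have hS : S.ShortExact := { exact := ShortComplex.exact_of_f_is_kernel _ (kernelIsKernel _) }
  have hsub : CohB1.support (kernel (toEnd h OY)) ⊆ badSet h OY := fun x hx => by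
    by_contra hxb
    refine hx ⟨fun a b => QCoh.stalkLin_injective (kernel.ι (toEnd h OY)) x
      (injective_toEnd_stalk h OY hOY hdim x hxb ?_)⟩
    have hz : ∀ s, QCoh.stalkLin (toEnd h OY) x (QCoh.stalkLin (kernel.ι (toEnd h OY)) x s) = 0 := fun s => by
      obtain ⟨V, hV, m, rfl⟩ := TopCat.Presheaf.exists_germ_eq (kernel (toEnd h OY)).presheaf s
      refine (congrArg _ (stalkMapₗ_germ (kernel.ι (toEnd h OY)) x hV m)).trans ?_
      refine (stalkMapₗ_germ (toEnd h OY) x hV _).trans ?_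
      show (homSh ω ω).presheaf.germ V x hV ((kernel.ι (toEnd h OY) ≫ toEnd h OY).app V m) = 0
      rw [kernel.condition]
      exact map_zero _
    rw [hz a, hz b]
  obtain ⟨hfin, hcl⟩ := badSet_finite h OY hOY
  haveI : Subsingleton (Coh.HH X S.X₁ 1) :=
    Euler.subsingleton_HH_of_finite_support _ (hfin.subset hsub) (fun x hx => hcl x (hsub hx)) 1 le_rfl
  let s : Coh.HH X (homSh ω ω) 0 := (ProjCoh.H0top _).symm (RefHull.ofHom φ ⊤)
  obtain ⟨y, hy⟩ := (Cohom.exact₃ (A := k) hS 0 s).1 (Subsingleton.elim (α := Coh.HH X S.X₁ 1) _ _)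
  refine ⟨ProjCoh.H0top (Coh.structureModule X) y, ?_⟩
  have h1 : ProjCoh.H0top (homSh ω ω) (Cohom.hhMap k S.g 0 y) = RefHull.ofHom φ ⊤ := by
    rw [hy]; exact (ProjCoh.H0top _).apply_symm_apply _
  have h2 : RefHull.ofHom φ ⊤ = (show Γ(X, ⊤) from ProjCoh.H0top (Coh.structureModule X) y) • RefHull.ofHom (𝟙 ω) ⊤ :=
    h1.symm.trans (ProjCoh.H0top_map _ y)
  refine Scheme.Modules.hom_ext _ _ fun V => AddCommGrpCat.ext fun m => LM28.ext_germ ω fun z hz => ?_
  have h3 := congrArg (fun g : Γ(homSh ω ω, ⊤) => g.1 ⟨z, trivial⟩ ((ω).presheaf.germ V z hz m)) h2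
  refine (stalkMapₗ_germ φ z hz m).symm.trans (h3.trans ?_)
  rw [smul_id_val, Euler.smulMod_app, Mero.germ_smul, TopCat.Presheaf.germ_res_apply]

end GrothLib.CurveSerre11
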