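import Groth.Agent.Lib.CurveSerre11.Basic
import Groth.Agent.Lib.CurveSerre11.Adjunction
import Groth.Agent.Lib.CurveH0CM.Basic
import Groth.Agent.Lib.OX.Approx
import Groth.Agent.S3620
import Groth.Agent.S3637
import Groth.Agent.S1589
import Groth.Agent.S0341
import Groth.Agent.Lib.ShriekBridge22.FieldScheme

/-!
# Gorenstein curves have invertible dualizing module
-/

set_option autoImplicit false
set_option backward.isDefEq.respectTransparency false
set_option linter.all false
set_option maxHeartbeats 1000000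

universe u

open CategoryTheory CategoryTheory.Limits AlgebraicGeometry TopologicalSpace
attribute [local instance] HasDerivedCategory.standard

noncomputable section

namespace GrothLib.CurveSerre11

variable {X : Scheme.{u}}

theorem nonempty_iso_of_shift {n : ℤ} {U : X.Opens} {K : DCoh.D X} (x : X) (hx : x ∈ U)
    (e : (OX.resD U.ι).obj K ≅ (DCoh.inD (U : Scheme.{u}) (Coh.structureModule (U : Scheme.{u})))⟦n⟧)
    (hK : ∀ i : ℤ, i ≠ -1 → IsZero (DCoh.HD K i)) (hne : Nontrivial ((DCoh.HD K (-1)).presheaf.stalk x)) :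
    Nonempty ((Scheme.Modules.restrictFunctor U.ι).obj (DCoh.HD K (-1)) ≅ Coh.structureModule (U : Scheme.{u})) := by
  let O : (U : Scheme.{u}).Modules := Coh.structureModule (U : Scheme.{u})
  let eH : ∀ i : ℤ, n + i = 0 → ((Scheme.Modules.restrictFunctor U.ι).obj (DCoh.HD K i) ≅ O) := fun i hi =>
    (OX.HDResIso U.ι K i).symm ≪≫ (DerivedCategory.homologyFunctor _ i).mapIso e ≪≫
      ((DerivedCategory.homologyFunctor _ 0).shiftIso n i 0 (by omega)).app _ ≪≫
      (DerivedCategory.singleFunctorCompHomologyFunctorIso (U : Scheme.{u}).Modules 0).app O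
  by_cases hn : n = 1
  · exact ⟨eH (-1) (by omega)⟩
  · exfalso
    have hz : IsZero O := ((Scheme.Modules.restrictFunctor U.ι).map_isZero (hK (-n) (by omega))).of_iso
      (eH (-n) (by omega)).symm
    haveI : Subsingleton Γ(O, ⊤) := AddCommGrpCat.subsingleton_of_isZero
      ((SheafOfModules.toSheaf _ ⋙ CategoryTheory.sheafToPresheaf _ _ ⋙ (CategoryTheory.evaluation _ _).obj (Opposite.op ⊤)).map_isZero hz)
    haveI : Nonempty U := ⟨⟨x, hx⟩⟩
    haveI : Nonempty (⊤ : (U : Scheme.{u}).Opens) := ⟨⟨⟨x, hx⟩, trivial⟩⟩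
    haveI : Subsingleton Γ((U : Scheme.{u}), ⊤) := ‹Subsingleton Γ(O, ⊤)›
    exact false_of_nontrivial_of_subsingleton Γ((U : Scheme.{u}), ⊤)

variable {k : Type u} [Field k] [X.Over (Spec (CommRingCat.of k))] [IsProper (X ↘ Spec (CommRingCat.of k))]
  [DCoh.HasRpush (X ↘ Spec (CommRingCat.of k))] (h : DCoh.RpushPreservesQCoh (X ↘ Spec (CommRingCat.of k)))
  [DCoh.HasShriek (X ↘ Spec (CommRingCat.of k)) h]
  (OY : DCoh.DQCoh (Spec (CommRingCat.of k)))

theorem isInvertible_omega_of_gorenstein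
    (hOY : Nonempty (OY.obj ≅ DCoh.inD (Spec (CommRingCat.of k)) (Coh.structureModule (Spec (CommRingCat.of k)))))
    (hGor : ∀ x : X, LocCoh.IsGorensteinLocalRing (X.presheaf.stalk x))
    (hequi : ∀ Z ∈ irreducibleComponents (X : Type u), topologicalKrullDim Z = 1) :
    PicF.IsInvertible (DCoh.dualizingMod (X ↘ Spec (CommRingCat.of k)) h OY 1) := by
  haveI := Euler.isNoetherian_of_proper (X := X) k
  haveI : ∀ R : CommRingCat.{u}, PreservesFiniteLimits (tilde.functor R) := fun R => inferInstance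
  let K := (DCoh.shriek (X ↘ Spec (CommRingCat.of k)) h).obj OY
  have hO' : Dual2.IsDualizingSch (Spec (CommRingCat.of k)) OY.obj := by
    refine GrothLib.DualRing.isDualizingSch_of_dualCharts fun x => ?_
    obtain ⟨e⟩ := GrothLib.ShriekBridge22.nonempty_resD_unit (𝟙 (Spec (CommRingCat.of k))) hOY
    exact ⟨k, inferInstance, 𝟙 _, inferInstance, ⟨x, rfl⟩, _, GrothLib.ShriekBridge22.isDualizing_field k, ⟨e⟩⟩
  have hK : Dual2.IsDualizingSch X K.obj :=
    GrothLib.ShriekBridge22.isDualizingSch_adjoint _ h (DCoh.shriekAdj _ h) OY hO'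
  have hinv : Dual3.IsInvertibleD K.obj := (Groth.Agent.S3620.result X K.obj hK).1 ⟨inferInstance, hGor⟩
  have hCM : ∀ x : X, LocCoh.IsCohenMacaulayLocalRing (X.presheaf.stalk x) := fun x =>
    haveI := hGor x
    Groth.Agent.S0341.result (X.presheaf.stalk x)
  obtain ⟨hz, -, hne⟩ := Groth.Agent.S3637.result k X (X ↘ Spec (CommRingCat.of k)) hCM 1 (by simpa using hequi) h
    _ (DCoh.shriekAdj _ h) OY hOY
  intro x
  obtain ⟨U, n, hx, ⟨e⟩⟩ := hinv x
  exact ⟨U, hx, nonempty_iso_of_shift (K := K.obj) x hx e (fun i hi => hz i (by simpa using hi)) (hne x).1⟩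

/-- A nodal connected curve: reduced, with invertible dualizing module. -/
theorem nodal_data (hdim : topologicalKrullDim X = 1)
    (hOY : Nonempty (OY.obj ≅ DCoh.inD (Spec (CommRingCat.of k)) (Coh.structureModule (Spec (CommRingCat.of k)))))
    (hequi : ∀ Z ∈ irreducibleComponents (X : Type u), topologicalKrullDim Z = 1) (hX : Curv2.AtWorstNodal k X) :
    AlgebraicGeometry.IsReduced X ∧ PicF.IsInvertible (DCoh.dualizingMod (X ↘ Spec (CommRingCat.of k)) h OY 1) := by
  obtain ⟨hg, hr⟩ := Groth.Agent.S1589.result k X hequi hX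
  exact ⟨GeometricallyReduced.isReduced_of_flat_of_isLocallyNoetherian (X ↘ Spec (CommRingCat.of k)),
    isInvertible_omega_of_gorenstein h OY hOY hg hequi⟩

omit [DCoh.HasRpush (X ↘ Spec (CommRingCat.of k))] in
include k in
theorem equidim_of_connected [ConnectedSpace X] (hdim : topologicalKrullDim X = 1) :
    ∀ Z ∈ irreducibleComponents (X : Type u), topologicalKrullDim Z = 1 := by
  haveI := Euler.isNoetherian_of_proper (X := X) k
  intro Z hZ
  obtain ⟨η, rfl⟩ : ∃ η : X, closure ({η} : Set X) = Z :=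
    ⟨hZ.1.genericPoint, hZ.1.genericPoint_closure_eq.trans (isClosed_of_mem_irreducibleComponents Z hZ).closure_eq⟩
  have h1 : topologicalKrullDim (SubCurve16.JJ ({η} : Set X)).subscheme = 1 :=
    SubCurve16.dim_JJ hdim (Set.singleton_subset_iff.2 hZ) ⟨η, rfl⟩
  rw [← h1]
  exact (Euler.homeomorph_range_dim (SubCurve16.JJ ({η} : Set X)).subschemeι
    ((SubCurve16.JJ ({η} : Set X)).range_subschemeι.trans (SubCurve16.support_JJ _))).symm

end GrothLib.CurveSerre11
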