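import Groth.Agent.Lib.LM28.HomIso
import Groth.Agent.Lib.HomSh.QCoh
import Groth.Agent.Lib.QCoh.FT
import Groth.Agent.Lib.UnitsThick26.FlatIdeal

/-!
# Sections of the sheaf Hom over affine opens; biduality into an arbitrary module
-/

set_option autoImplicit false
set_option linter.all false
set_option backward.isDefEq.respectTransparency false
set_option maxHeartbeats 1000000

universe u

open CategoryTheory CategoryTheory.Limits AlgebraicGeometry Opposite TopologicalSpace
open RefHull (homSh)

noncomputable section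

namespace GrothLib.CurveSerre11

variable {X : Scheme.{u}} [IsLocallyNoetherian X]

theorem bijective_homSections {F : X.Modules} (hF : Coh.IsCoh F) (G : X.Modules) {U : X.Opens}
    (hU : IsAffineOpen U) :
    Function.Bijective fun g : Γ(homSh F G, U) => (LM28.appB F G U).flip g := by
  haveI := hF.1
  haveI : IsNoetherianRing Γ(X, U) := IsLocallyNoetherian.component_noetherian ⟨U, hU⟩
  haveI : Module.Finite Γ(X, U) Γ(F, U) := QCoh.moduleFinite_of_isFiniteType F hF.2 hU
  obtain ⟨n, p, hp⟩ := Module.Finite.exists_fin' Γ(X, U) Γ(F, U)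
  obtain ⟨l, q, hq⟩ := Module.Finite.exists_fin' Γ(X, U) (LinearMap.ker p)
  classical
  let m : ULift.{u} (Fin n) → Γ(F, U) := fun i => p (Pi.single i.down 1)
  let a : ULift.{u} (Fin l) → ULift.{u} (Fin n) → Γ(X, U) := fun j i => (q (Pi.single j.down 1)).1 i.down
  have hsum : ∀ b : Fin n → Γ(X, U), ∑ i : ULift.{u} (Fin n), b i.down • m i = p b := fun b => by
    conv_rhs => rw [pi_eq_sum_univ b]
    rw [map_sum, ← Equiv.ulift.symm.sum_comp]
    refine Finset.sum_congr rfl fun i _ => ?_
    rw [map_smul]
    show b i • p (Pi.single i 1) = b i • p _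
    congr 2
    funext j
    simp [Pi.single_apply, eq_comm]
  have hrelsum : ∀ j, ∑ i, a j i • m i = 0 := fun j => (hsum _).trans (q (Pi.single j.down 1)).2
  have hgen : HomSh.GenOn F U m := fun y hy => eq_top_iff.2 fun v _ => by
    obtain ⟨c, z, hc, hz⟩ := WeakAss.exists_smul_eq_germ hU hy v
    obtain ⟨b, rfl⟩ := hp z
    refine (Submodule.smul_mem_iff_of_isUnit _ (HomSh.isUnit_germ hy hc)).1 ?_
    rw [hz, ← hsum b, map_sum]
    refine Submodule.sum_mem _ fun i _ => ?_
    rw [Mero.germ_smul]
    exact Submodule.smul_mem _ _ (Submodule.subset_span ⟨i, rfl⟩)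
  have hrel : HomSh.RelOn F m a := fun y hy => ⟨fun j => by
    have := congrArg (F.presheaf.germ U y hy) (hrelsum j)
    simp only [map_sum, Mero.germ_smul, map_zero] at this
    exact this, fun c hc => by
    obtain ⟨s, b, hs, hb⟩ := HomSh.exists_common_denom hy (P := Γ(X, U)) (M := X.presheaf.stalk y)
      (fun z => X.presheaf.germ U y hy z) (fun r z => map_mul _ r z) c (fun i => HomSh.exists_mul_eq_germ hU hy (c i))
    have h0 : F.presheaf.germ U y hy (∑ i, b i • m i) = 0 := by
      rw [map_sum]
      have h1 := congrArg (fun v => X.presheaf.germ U y hy s • v) hc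
      simp only [Finset.smul_sum, smul_zero, smul_smul] at h1
      refine Eq.trans (Finset.sum_congr rfl fun i _ => ?_) h1
      rw [Mero.germ_smul, ← hb i]
      rfl
    obtain ⟨t, ht, htz⟩ := (WeakAss.germ_eq_zero_iff hU hy _).1 h0
    have hker : (fun i : Fin n => t * b ⟨i⟩) ∈ LinearMap.ker p := by
      rw [LinearMap.mem_ker, ← hsum]
      refine Eq.trans ?_ htz
      rw [Finset.smul_sum]
      exact Finset.sum_congr rfl fun i _ => mul_smul _ _ _
    obtain ⟨e, he⟩ := hq ⟨_, hker⟩
    have hu := (HomSh.isUnit_germ hy ht).mul (HomSh.isUnit_germ hy hs)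
    refine (Submodule.smul_mem_iff_of_isUnit _ hu).1 ?_
    have hval : (X.presheaf.germ U y hy t * X.presheaf.germ U y hy s) • c =
        ∑ j : ULift.{u} (Fin l), X.presheaf.germ U y hy (e j.down) • fun i => X.presheaf.germ U y hy (a j i) := by
      funext i
      rw [Pi.smul_apply, Finset.sum_apply, smul_eq_mul, mul_assoc]
      refine (congrArg (X.presheaf.germ U y hy t * ·) (hb i)).trans ?_
      rw [← map_mul]
      have h2 : t * b i = ∑ j : ULift.{u} (Fin l), e j.down * a j i := by
        have h3 := congrArg (fun z : LinearMap.ker p => z.1 i.down) he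
        simp only at h3
        refine h3.symm.trans ?_
        conv_lhs => rw [pi_eq_sum_univ e, map_sum]
        rw [AddSubmonoidClass.coe_finsetSum, Finset.sum_apply, ← Equiv.ulift.symm.sum_comp]
        refine Finset.sum_congr rfl fun j _ => ?_
        rw [map_smul]
        show e j * _ = e j * (q (Pi.single j 1)).1 i.down
        rw [show (fun j_1 => if j = j_1 then (1 : Γ(X, U)) else 0) = Pi.single j 1 from
          funext fun i' => by simp [Pi.single_apply, eq_comm]]
      rw [h2, map_sum]
      exact Finset.sum_congr rfl fun j _ => map_mul _ _ _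
    rw [hval]
    exact Submodule.sum_mem _ fun j _ => Submodule.smul_mem _ _ (Submodule.subset_span ⟨j, rfl⟩)⟩
  refine ⟨fun g g' h => HomSh.ext_of_genOn le_rfl hgen g g' fun y hy i => ?_, fun α => ?_⟩
  · refine ((LM28.germ_appV F G g (m i) y hy).symm.trans ?_).trans (LM28.germ_appV F G g' (m i) y hy)
    exact congrArg (G.presheaf.germ U y hy) (LinearMap.congr_fun h (m i))
  · obtain ⟨g, hg⟩ := HomSh.exists_section_of_relOn F G hgen hrel (le_refl U) (le_refl U) (fun i => α (m i))
      (fun j => by
        have h1 : ∑ i, a j i • α (m i) = 0 := by simp only [← map_smul, ← map_sum, hrelsum j, map_zero]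
        refine (congrArg _ ?_).trans (map_zero _)
        refine Eq.trans ?_ h1
        refine Finset.sum_congr rfl fun i _ => ?_
        congr 1
        exact (congrArg (fun φ ↦ (CommRingCat.Hom.hom φ) _) (X.presheaf.map_id (op U)) : _))
    refine ⟨g, LinearMap.ext fun z => ?_⟩
    obtain ⟨b, rfl⟩ := hp z
    rw [← hsum b, map_sum, map_sum]
    refine Finset.sum_congr rfl fun i _ => ?_
    rw [map_smul, map_smul]
    congr 1
    refine LM28.ext_germ G fun y hy => ?_
    exact (LM28.germ_appV F G g (m i) y hy).trans (hg y hy i)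

variable (F W : X.Modules)

/-- Evaluation at a stalk element. -/
def bidualAtW (x : X) : F.presheaf.stalk x →ₗ[X.presheaf.stalk x] RefHull.StalkHom (homSh F W) W x where
  toFun v := (LinearMap.applyₗ v).comp (RefHull.evalStalk F W x)
  map_add' v w := LinearMap.ext fun θ => map_add (RefHull.evalStalk F W x θ) v w
  map_smul' a v := LinearMap.ext fun θ => map_smul (RefHull.evalStalk F W x θ) a v

/-- Biduality on sections. -/
def bidualFunW (U : X.Opens) : Γ(F, U) →+ Γ(homSh (homSh F W) W, U) where
  toFun s := ⟨fun x => bidualAtW F W x.1 (F.presheaf.germ U x.1 x.2 s), fun V i g x => by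
    obtain ⟨W', hW, j, n, w⟩ := RefHull.isLocSect_of_mem g V (𝟙 V) (F.presheaf.map i.op s) x
    refine ⟨W', hW, j, n, fun y => ?_⟩
    have e := w y
    rw [TopCat.Presheaf.germ_res_apply] at e
    show RefHull.evalStalk F W y.1 _ _ = _
    rw [RefHull.evalStalk_germ]
    exact e⟩
  map_zero' := Subtype.ext <| funext fun x => by
    simp only [map_zero]
    rfl
  map_add' s t := Subtype.ext <| funext fun x => by
    simp only [map_add]
    rfl

/-- The biduality map into `W`. -/
def bidualW : F ⟶ homSh (homSh F W) W :=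
  ⟨PresheafOfModules.homMk
    { app := fun U => AddCommGrpCat.ofHom (bidualFunW F W U.unop)
      naturality := fun {U V} i => by
        ext s
        refine Subtype.ext (funext fun x => ?_)
        change bidualAtW F W x.1 _ = bidualAtW F W x.1 _
        exact congrArg _ (TopCat.Presheaf.germ_res_apply' F.presheaf i x.1 x.2 s) }
    (fun U r s => Subtype.ext <| funext fun x =>
      (congrArg (bidualAtW F W x.1) (Mero.germ_smul F U.unop x.1 x.2 r s)).trans
        (map_smul (bidualAtW F W x.1) _ _))⟩

omit [IsLocallyNoetherian X] in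
theorem bidualW_spec (x : X) (v : F.presheaf.stalk x) (θ : (homSh F W).presheaf.stalk x) :
    RefHull.evalStalk (homSh F W) W x (RefHull.stalkMapₗ (bidualW F W) x v) θ =
      RefHull.evalStalk F W x θ v := by
  obtain ⟨V, hV, s, rfl⟩ := TopCat.Presheaf.exists_germ_eq F.presheaf v
  rw [RefHull.stalkMapₗ_germ, RefHull.evalStalk_germ]
  rfl

variable {F W}

/-- Biduality is an isomorphism as soon as it is one on the affine sections. -/
theorem isIso_bidualW (hF : Coh.IsCoh F) (hW : Coh.IsCoh W)
    (H : ∀ U : X.Opens, IsAffineOpen U →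
      Function.Bijective (LinearMap.id.flip : Γ(F, U) →ₗ[Γ(X, U)] ((Γ(F, U) →ₗ[Γ(X, U)] Γ(W, U)) →ₗ[Γ(X, U)] Γ(W, U)))) :
    IsIso (bidualW F W) := by
  refine UnitsThick26.isIso_of_bijective_affine _ fun U hU => ?_
  have hD : Coh.IsCoh (homSh F W) := HomSh.isCoh_homSh (HomSh.hasRel_of_isCoh hF) hW
  let e := LinearEquiv.ofBijective (LM28.appB F W U).flip (bijective_homSections hF W hU)
  let C : ((Γ(F, U) →ₗ[Γ(X, U)] Γ(W, U)) →ₗ[Γ(X, U)] Γ(W, U)) → (Γ(homSh F W, U) →ₗ[Γ(X, U)] Γ(W, U)) :=
    fun Φ => Φ.comp e.toLinearMap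
  have hC : Function.Bijective C := ⟨fun a b h => LinearMap.ext fun z => by
      simpa [C] using LinearMap.congr_fun h (e.symm z),
    fun Φ => ⟨Φ.comp e.symm.toLinearMap, LinearMap.ext fun z => by simp [C]⟩⟩
  have hkey : (fun s => (LM28.appB (homSh F W) W U).flip ((bidualW F W).app U s)) =
      C ∘ (LinearMap.id.flip : Γ(F, U) →ₗ[Γ(X, U)] ((Γ(F, U) →ₗ[Γ(X, U)] Γ(W, U)) →ₗ[Γ(X, U)] Γ(W, U))) := by
    funext s
    refine LinearMap.ext fun g => LM28.ext_germ W fun y hy => ?_
    refine (LM28.germ_appV (homSh F W) W _ g y hy).trans ?_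
    show RefHull.evalStalk F W y ((homSh F W).presheaf.germ U y hy g) _ = _
    rw [RefHull.evalStalk_germ]
    exact (LM28.germ_appV F W g s y hy).symm
  have hb : Function.Bijective fun s => (LM28.appB (homSh F W) W U).flip ((bidualW F W).app U s) := by
    rw [hkey]
    exact hC.comp (H U hU)
  exact ((bijective_homSections hD W hU).of_comp_iff' _).1 hb

end GrothLib.CurveSerre11
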