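import Groth.Agent.Lib.CurveSerre11.Rank
import Groth.Agent.Lib.CurveSerre11.HomAffine
import Groth.Agent.Lib.DerCat.BoundedEquiv
import Groth.Agent.Lib.Serre.Regular
import Groth.Agent.Lib.CMBasics.Basic
import Groth.Agent.Lib.HilbArt9.Main
import Groth.Agent.Lib.TFDual16.Main

/-!
# The dualizing module of an integral curve on an affine open: injective dimension one, biduality
-/

set_option autoImplicit false
set_option linter.all false
set_option backward.isDefEq.respectTransparency false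
set_option maxHeartbeats 1000000

universe u

open CategoryTheory CategoryTheory.Limits AlgebraicGeometry Opposite TopologicalSpace
attribute [local instance] HasDerivedCategory.standard

noncomputable section

namespace GrothLib.CurveSerre11

open GrothLib.OX GrothLib.ShriekBridge22

theorem isFiniteLength_quotient {B : Type u} [CommRing B] [IsDomain B] [IsNoetherianRing B]
    (hB : ringKrullDim B ≤ 1) (I : Ideal B) (hI : I ≠ ⊥) : IsFiniteLength B (B ⧸ I) := by
  refine SemiLocalDim16.isFiniteLength_of_supportDim_le_zero ?_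
  obtain ⟨r, hr, hr0⟩ := Submodule.exists_mem_ne_zero_of_ne_bot hI
  rw [Module.supportDim_eq_ringKrullDim_quotient_annihilator, Ideal.annihilator_quotient]
  have h1 : ringKrullDim (B ⧸ I) ≤ ringKrullDim (B ⧸ Ideal.span {r}) :=
    ringKrullDim_le_of_surjective _ (Ideal.Quotient.factor_surjective ((Ideal.span_singleton_le_iff_mem I).2 hr))
  have h2 := (ringKrullDim_quotient_succ_le_of_nonZeroDivisor (mem_nonZeroDivisors_of_ne_zero hr0)).trans hB
  refine h1.trans ?_
  revert h2
  generalize ringKrullDim (B ⧸ Ideal.span {r}) = z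
  intro h2
  rcases z with _ | z
  · exact bot_le
  · have h3 : z + 1 ≤ (0 : ℕ∞) + 1 := by
      rw [zero_add]
      exact WithBot.coe_le_coe.1 h2
    exact WithBot.coe_le_coe.2 ((ENat.add_le_add_iff_right ENat.one_ne_top).1 h3)

/-- The bottom cohomology of a dualizing complex in one degree on a one-dimensional domain has
injective dimension at most one. -/
theorem hasInjectiveDimensionLT_two_bottom {B : Type u} [CommRing B] [IsDomain B] [IsNoetherianRing B]
    (hB : ringKrullDim B ≤ 1) {κ : Dual.D B}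
    (hne : ∀ i : ℤ, i ≠ -1 → Subsingleton (Dual.HD B κ i))
    (hmax : ∀ m : Ideal B, m.IsMaximal → Subsingleton (Dual.inD B (B ⧸ m) ⟶ κ⟦(1 : ℤ)⟧)) :
    HasInjectiveDimensionLT (ModuleCat.of B (Dual.HD B κ (-1))) 2 := by
  haveI : κ.IsGE (-1) := (DerivedCategory.isGE_iff _ _).2 fun i hi =>
    @ModuleCat.isZero_of_subsingleton _ _ _ (hne i (by omega))
  haveI : κ.IsLE (-1) := (DerivedCategory.isLE_iff _ _).2 fun i hi =>
    @ModuleCat.isZero_of_subsingleton _ _ _ (hne i (by omega))
  obtain ⟨e⟩ := DerTrunc.nonempty_iso_single κ (-1)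
  let Y : ModuleCat.{u} B := (DerivedCategory.homologyFunctor (ModuleCat.{u} B) (-1)).obj κ
  let e2 : κ⟦(1 : ℤ)⟧ ≅ ((DerivedCategory.singleFunctor (ModuleCat.{u} B) 0).obj Y)⟦((2 : ℕ) : ℤ)⟧ :=
    (shiftFunctor (Dual.D B) (1 : ℤ)).mapIso
      (e ≪≫ (((DerivedCategory.singleFunctors (ModuleCat.{u} B)).shiftIso 1 (-1) 0 (by norm_num)).app Y).symm) ≪≫
      ((shiftFunctorAdd' (Dual.D B) (1 : ℤ) 1 ((2 : ℕ) : ℤ) (by norm_num)).app _).symm
  refine Serre.hasInjectiveDimensionLT_of_cyclic 1 _ fun I => ?_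
  by_cases hI : I = ⊥
  · subst hI
    haveI : Module.Projective B (B ⧸ (⊥ : Ideal B)) := Module.Projective.of_equiv (Submodule.quotEquivOfEqBot ⊥ rfl).symm
    haveI : Projective (ModuleCat.of B (B ⧸ (⊥ : Ideal B))) := (ModuleCat.of B (B ⧸ (⊥ : Ideal B))).projective_of_categoryTheory_projective
    exact subsingleton_of_forall_eq 0 fun x => Abelian.Ext.eq_zero_of_projective x
  · haveI := subsingleton_hom_finiteLength hmax (isFiniteLength_quotient hB I hI)
    haveI : Subsingleton ((DerivedCategory.singleFunctor (ModuleCat.{u} B) 0).obj (ModuleCat.of B (B ⧸ I)) ⟶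
        ((DerivedCategory.singleFunctor (ModuleCat.{u} B) 0).obj Y)⟦((2 : ℕ) : ℤ)⟧) :=
      (Iso.homCongr (Iso.refl _) e2).symm.subsingleton
    exact Abelian.Ext.homEquiv.subsingleton

variable {k : Type u} [Field k] {X : Scheme.{u}} [X.Over (Spec (CommRingCat.of k))]
  [IsProper (X ↘ Spec (CommRingCat.of k))] [AlgebraicGeometry.IsIntegral X]
  [DCoh.HasRpush (X ↘ Spec (CommRingCat.of k))] (h : DCoh.RpushPreservesQCoh (X ↘ Spec (CommRingCat.of k)))
  [DCoh.HasShriek (X ↘ Spec (CommRingCat.of k)) h]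
  (OY : DCoh.DQCoh (Spec (CommRingCat.of k)))
  (hOY : Nonempty (OY.obj ≅ DCoh.inD (Spec (CommRingCat.of k)) (Coh.structureModule (Spec (CommRingCat.of k)))))

local notation "π" => (X ↘ Spec (CommRingCat.of k))
local notation "ω" => DCoh.dualizingMod π h OY 1

include k in
omit [DCoh.HasRpush (X ↘ Spec (CommRingCat.of k))] in
theorem isCM_stalk (hdim : topologicalKrullDim X ≤ 1) (x : X) :
    LocCoh.IsCohenMacaulayLocalRing (X.presheaf.stalk x) := by
  haveI := Euler.isNoetherian_of_proper (X := X) k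
  obtain ⟨U, hU, hxU, -⟩ := exists_isAffineOpen_mem_and_subset (x := x) (U := ⊤) trivial
  have hd : ringKrullDim (X.presheaf.stalk x) ≤ 1 := by
    let _ := TopCat.Presheaf.algebra_section_stalk X.presheaf (⟨x, hxU⟩ : U)
    haveI := hU.isLocalization_stalk ⟨x, hxU⟩
    rw [IsLocalization.AtPrime.ringKrullDim_eq_height (hU.primeIdealOf ⟨x, hxU⟩).asIdeal (X.presheaf.stalk x)]
    exact (Ideal.height_le_ringKrullDim_of_ne_top Ideal.IsPrime.ne_top').trans
      ((GrothLib.Dim.topologicalKrullDim_affineOpen hU).symm.le.trans ((topologicalKrullDim_subspace_le X U).trans hdim))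
  refine { supportDim_eq_depth := le_antisymm ?_ (Depth.depth_le_supportDim _ _) }
  rw [Module.supportDim_self_eq_ringKrullDim]
  by_cases hf : IsField (X.presheaf.stalk x)
  · rw [ringKrullDim_eq_zero_of_isField hf]
    exact WithBot.coe_le_coe.2 bot_le
  · refine hd.trans (WithBot.coe_le_coe.2 ?_)
    exact Order.one_le_iff_pos.2 (pos_iff_ne_zero.2 fun h0 => hf (CMBasics.depth_self_eq_zero_iff.1 h0))

include hOY in
theorem badSet_eq_empty_of_integral (hdim : topologicalKrullDim X = 1) : badSet h OY = ∅ :=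
  badSet_eq_empty h OY hOY (isCM_stalk (k := k) hdim.le) fun Z hZ => by
    rw [irreducibleComponents_eq_singleton, Set.mem_singleton_iff] at hZ
    rw [hZ, (IsHomeomorph.topologicalKrullDim_eq _ (Homeomorph.Set.univ X).isHomeomorph), hdim]

include hOY in
theorem affine_data (hdim : topologicalKrullDim X = 1) {U : X.Opens} (hU : IsAffineOpen U) [Nonempty U] :
    (∃ w : Γ(ω, U), w ≠ 0) ∧ HasInjectiveDimensionLT (ModuleCat.of Γ(X, U) Γ(ω, U)) 2 ∧
      (∀ (a : Γ(X, U)) (w : Γ(ω, U)), a • w = 0 → a = 0 ∨ w = 0) := by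
  haveI := Euler.isNoetherian_of_proper (X := X) k
  haveI : ∀ R : CommRingCat.{u}, PreservesFiniteLimits (tilde.functor R) := fun R => inferInstance
  let E := ((DCoh.shriek π h).obj OY).obj
  obtain ⟨_, n, ψ, hψ, _, ⟨e⟩⟩ := exists_field_chart π h (DCoh.shriekAdj π h) OY hOY U hU
  letI := GrothLib.DualRing.Shriek.pfl_of_flat k (P := MvPolynomial (Fin n) k)
  let κ := GrothLib.DualRing.Shriek.GP ψ (Dual.inD k k)
  have hω : Dual.IsDualizing Γ(X, U) κ := isDualizing_GP ψ hψ (isDualizing_field k)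
  have hB : ringKrullDim Γ(X, U) ≤ 1 :=
    (GrothLib.Dim.topologicalKrullDim_affineOpen hU).symm.le.trans ((topologicalKrullDim_subspace_le X U).trans hdim.le)
  have hlow : ∀ i : ℤ, i < -1 → Subsingleton (Dual.HD Γ(X, U) κ i) := fun i hi =>
    (Module.support_eq_empty_iff (R := Γ(X, U))).1 (Set.eq_empty_iff_forall_notMem.2 fun q hq => by
      obtain ⟨-, -, h3⟩ := support_bounds ψ hψ i q hq
      have h5 : (-i).toNat ≤ 1 := by exact_mod_cast h3.trans hB
      omega)
  have hhigh : ∀ i : ℤ, 0 < i → Subsingleton (Dual.HD Γ(X, U) κ i) := fun i hi =>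
    (Module.support_eq_empty_iff (R := Γ(X, U))).1 (Set.eq_empty_iff_forall_notMem.2 fun q hq => by
      obtain ⟨h1, -, -⟩ := support_bounds ψ hψ i q hq
      omega)
  have key : ∀ z : ℤ, z = -1 → Nonempty ((DCoh.HD E z).val.obj (op U) ≃ₗ[Γ(X, U)] Dual.HD Γ(X, U) κ (-1)) ∧
      ∀ i : ℤ, IsZero (DCoh.HD E i) → Subsingleton (Dual.HD Γ(X, U) κ i) := by
    rintro z rfl
    haveI : (DCoh.HD E (-1)).IsQuasicoherent := ((DCoh.shriek π h).obj OY).property _
    exact Canon.exists_sections_equiv (-1) hU e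
  obtain ⟨⟨σ⟩, hz⟩ := key (-((1 : ℕ) : ℤ)) (by norm_num)
  have h0 : Subsingleton (Dual.HD Γ(X, U) κ 0) := hz 0 (HilbArt9.isZero_of_support_empty fun x hx =>
    Set.eq_empty_iff_forall_notMem.1 (badSet_eq_empty_of_integral h OY hOY hdim) x hx)
  have hne : ∀ i : ℤ, i ≠ -1 → Subsingleton (Dual.HD Γ(X, U) κ i) := fun i hi => by
    rcases lt_trichotomy i 0 with hl | rfl | hg
    · exact hlow i (by omega)
    · exact h0
    · exact hhigh i hg
  have hinj := hasInjectiveDimensionLT_two_bottom hB hne fun m hm => haveI := hm; subsingleton_max ψ hψ m 1 one_ne_zero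
  refine ⟨?_, ?_, fun a w haw => or_iff_not_imp_left.2 fun ha => σ.injective ?_⟩
  · have hη : genericPoint X ∈ U :=
      ((genericPoint_spec X).specializes trivial).mem_open U.2 (Classical.arbitrary U).2
    have hs := ShriekBridge22.support_adjoint π h (DCoh.shriekAdj π h) OY hOY 1 (by exact_mod_cast hdim)
    have hx' : genericPoint X ∈ ⋃ Z ∈ {Z : Set X | Z ∈ irreducibleComponents X ∧ topologicalKrullDim ↥Z = ((1 : ℕ) : WithBot ℕ∞)}, Z := by
      refine Set.mem_iUnion₂.2 ⟨Set.univ, ⟨?_, ?_⟩, trivial⟩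
      · rw [irreducibleComponents_eq_singleton]; rfl
      · rw [(IsHomeomorph.topologicalKrullDim_eq _ (Homeomorph.Set.univ X).isHomeomorph), hdim]; rfl
    rw [← hs] at hx'
    haveI : Nontrivial ((ω).presheaf.stalk (genericPoint X)) := hx'
    haveI : (ω).IsQuasicoherent := isQCoh_omega h OY hOY
    obtain ⟨v, hv⟩ := exists_ne (0 : (ω).presheaf.stalk (genericPoint X))
    obtain ⟨c, z, hc, hz'⟩ := WeakAss.exists_smul_eq_germ hU hη v
    refine ⟨z, fun hz0 => hv ((HomSh.isUnit_germ hη hc).smul_eq_zero.1 ?_)⟩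
    rw [hz', hz0, map_zero]
  · exact hasInjectiveDimensionLT_of_iso σ.symm.toModuleIso 2
  · rw [map_zero]
    exact Canon.eq_zero_of_smul_eq_zero hω (-1) hlow (mem_nonZeroDivisors_of_ne_zero ha)
      ((map_smul σ a w).symm.trans ((congrArg σ haw).trans σ.map_zero))

end GrothLib.CurveSerre11
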