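import Groth.Agent.Lib.DualTensor11.Basic
import Groth.Agent.Lib.LocFreeHom.IsoNear
import Groth.Agent.Lib.PPGen.HomQCoh

/-!
# Homomorphisms into an invertible module
-/

set_option autoImplicit false
set_option linter.all false
set_option backward.isDefEq.respectTransparency false
set_option maxHeartbeats 800000

universe u

open CategoryTheory CategoryTheory.Limits AlgebraicGeometry
open GrothLib.LocFreeHom GrothLib.ASBun21

noncomputable section

namespace GrothLib.CurveSerre11

attribute [local instance] Abelian.hasFiniteBiproducts LocFreeHom.hasSheafHom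

variable {X : Scheme.{u}} [IsLocallyNoetherian X]

/-- `Hom(F, L) ≅ F^∨ ⊗ L` for coherent `F` and invertible `L`. -/
theorem nonempty_homSh_invertible {F L : X.Modules} (hF : Coh.IsCoh F) (hL : PicF.IsInvertible L) :
    Nonempty (RefHull.homSh F L ≅ CohB1.tensorMod (RefHull.dual F) L) := by
  have hl := LocFreeHom.isFinLocFree_of_isInvertible hL
  have hd := DualTensor11.isFinLocFree_dual hl
  obtain ⟨e⟩ := LM28.nonempty_homSh_iso_coh F L hF (Euler.isCoh_of_isFinLocFree hl)
  obtain ⟨a⟩ := LM28.nonempty_homSh_iso_coh F (Coh.structureModule X) hF (HomSh.isCoh_structureModule X)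
  obtain ⟨d⟩ := DualTensor11.nonempty_ddual hl
  obtain ⟨d'⟩ := DualTensor11.nonempty_dual_iso_iHom hd
  haveI := LocFreeDual20.isIso_θ hd (iHom F (Coh.structureModule X))
  let q : iHom F (iHom (RefHull.dual L) (Coh.structureModule X)) ≅ iHom (RefHull.dual L) (iHom F (Coh.structureModule X)) :=
    ((DualTensor11.sheafHomTensorIso (RefHull.dual L) F).app (Coh.structureModule X)).symm ≪≫
      iHomCongr (LocFreeDual20.br F (RefHull.dual L)) (Iso.refl _) ≪≫
      (DualTensor11.sheafHomTensorIso F (RefHull.dual L)).app (Coh.structureModule X)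
  exact ⟨e ≪≫ iHomCongr (Iso.refl F) (d ≪≫ d') ≪≫ q ≪≫
    (asIso (LocFreeDual20.θ (RefHull.dual L) (iHom F (Coh.structureModule X)))).symm ≪≫
    WeilFin11.congrIso a.symm (d'.symm ≪≫ d.symm)⟩

/-- `Hom(M ⊗ L, L) ≅ M^∨` for coherent `M` and invertible `L`. -/
theorem nonempty_homSh_tensor_invertible {M L : X.Modules} (hM : Coh.IsCoh M) (hL : PicF.IsInvertible L)
    (hML : Coh.IsCoh (CohB1.tensorMod M L)) :
    Nonempty (RefHull.homSh (CohB1.tensorMod M L) L ≅ RefHull.dual M) := by
  have hl := LocFreeHom.isFinLocFree_of_isInvertible hL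
  obtain ⟨e⟩ := LM28.nonempty_homSh_iso_coh (CohB1.tensorMod M L) L hML (Euler.isCoh_of_isFinLocFree hl)
  obtain ⟨a⟩ := LM28.nonempty_homSh_iso_coh M (Coh.structureModule X) hM (HomSh.isCoh_structureModule X)
  obtain ⟨s⟩ := LocFreeHom.nonempty_iHom_self_iso hl fun x => (hL x).imp fun U hU => ⟨hU.1, hU.2.map fun e => ((Scheme.Modules.restrictFunctorIsoPullback U.ι).app L).symm ≪≫ e⟩
  exact ⟨e ≪≫ iHomCongr (LocFreeDual20.br L M) (Iso.refl L) ≪≫
    (DualTensor11.sheafHomTensorIso L M).app L ≪≫ iHomCongr (Iso.refl M) s.symm ≪≫ a.symm⟩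

end GrothLib.CurveSerre11
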