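import Groth.Agent.Lib.CurveSerre11.TailsMain
import Groth.Agent.Lib.CurveSerre11.GorOmega
import Groth.Agent.Lib.SubCurve16.Gen
import Groth.Agent.Lib.CurveMult.DegHom
import Groth.Agent.Lib.GabRos20.Invertible
import Groth.Agent.Lib.Seesaw26.Criterion
import Groth.Agent.Lib.FunMor20.CohInd

/-!
# The dualizing module twisted by marked points on a nodal curve
-/

set_option autoImplicit false
set_option backward.isDefEq.respectTransparency false
set_option linter.all false
set_option maxHeartbeats 1000000

universe u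

open CategoryTheory CategoryTheory.Limits AlgebraicGeometry TopologicalSpace Opposite
attribute [local instance] HasDerivedCategory.standard

noncomputable section

namespace GrothLib.CurveSerre11

open GrothLib.QCoh (stalkLin)
open GrothLib.Euler (tF)
open GrothLib.SubCurve16

variable (k : Type u) [Field k] {X : Scheme.{u}} [X.Over (Spec (CommRingCat.of k))]
  [IsProper (X ↘ Spec (CommRingCat.of k))]

/-- A finite discrete scheme has at least as many functions as points. -/
theorem card_le_finrank_H0 {D : Scheme.{u}} [D.Over (Spec (CommRingCat.of k))]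
    [IsProper (D ↘ Spec (CommRingCat.of k))] [Finite D] [DiscreteTopology D] :
    Nat.card D ≤ Module.finrank k (Coh.HH D (Coh.structureModule D) 0) := by
  classical
  haveI : Fintype D := Fintype.ofFinite D
  haveI := Euler.finiteDimensional_HH k (Euler.isCoh_of_isInvertible (Euler.isInvertible_structure (X := D))) 0
  choose t ht1 ht0 using fun y : D =>
    exists_indicator (A := ({y} : Set D)) ⟨isClosed_discrete _, isOpen_discrete _⟩
  letI : Algebra k Γ(D, ⊤) := (Coh.toGlobal (D ↘ Spec (CommRingCat.of k))).toAlgebra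
  have hli : LinearIndependent k t := by
    refine Fintype.linearIndependent_iff.2 fun g hg z => ?_
    have h1 := congrArg (D.presheaf.germ ⊤ z trivial).hom hg
    rw [map_sum, map_zero, Finset.sum_eq_single z (fun y _ hy => by
        rw [Algebra.smul_def, map_mul, ht0 y z (fun e => hy (Set.mem_singleton_iff.1 e).symm), mul_zero])
      (fun h => absurd (Finset.mem_univ z) h), Algebra.smul_def, map_mul, ht1 z z rfl, mul_one] at h1
    exact ((D.presheaf.germ ⊤ z trivial).hom.comp (algebraMap k Γ(D, ⊤))).injective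
      (h1.trans (map_zero _).symm)
  let e : Coh.HH D (Coh.structureModule D) 0 ≃ₗ[k] Γ(D, ⊤) :=
    { ProjCoh.H0top (Coh.structureModule D) with
      map_smul' := fun a h => (ProjCoh.H0top_smul (Coh.structureModule D) a h).trans
        (Algebra.smul_def (R := k) (A := Γ(D, ⊤)) a (ProjCoh.H0top (Coh.structureModule D) h)).symm }
  rw [e.finrank_eq, Nat.card_eq_fintype_card]
  haveI : Module.Finite k Γ(D, ⊤) := Module.Finite.equiv e
  exact hli.fintype_card_le_finrank

/-- `h⁰` of a finite subscheme bounds the number of its points. -/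
theorem ncard_support_le (J : X.IdealSheafData) (hfin : (J.support : Set X).Finite)
    (hcl : ∀ x ∈ (J.support : Set X), IsClosed ({x} : Set X)) :
    (J.support : Set X).ncard ≤ Module.finrank k (Coh.HH X (ClSub.quotMod J) 0) := by
  letI : J.subscheme.Over (Spec (CommRingCat.of k)) := ⟨J.subschemeι ≫ X ↘ Spec (CommRingCat.of k)⟩
  haveI : IsProper (J.subscheme ↘ Spec (CommRingCat.of k)) :=
    inferInstanceAs (IsProper (J.subschemeι ≫ X ↘ Spec (CommRingCat.of k)))
  let ι := J.subschemeι
  haveI : Finite J.subscheme := by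
    haveI := hfin.to_subtype
    exact Finite.of_injective (fun y => (⟨ι y, (Scheme.IdealSheafData.range_subschemeι _).le ⟨y, rfl⟩⟩ :
      (J.support : Set X))) fun a b hab => ι.isClosedEmbedding.injective (congrArg Subtype.val hab)
  haveI : T1Space J.subscheme := ⟨fun y => by
    rw [← ι.isClosedEmbedding.injective.preimage_image {y}, Set.image_singleton]
    exact (hcl _ ((Scheme.IdealSheafData.range_subschemeι _).le ⟨y, rfl⟩)).preimage ι.continuous⟩
  rw [finrank_quotMod_eq k]
  refine le_trans (le_of_eq ?_) (card_le_finrank_H0 k)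
  rw [← J.range_subschemeι, ← Nat.card_coe_set_eq, Nat.card_range_of_injective ι.isClosedEmbedding.injective]

omit [X.Over (Spec (CommRingCat.of k))] [IsProper (X ↘ Spec (CommRingCat.of k))] in
theorem isInverseOf_symm {L M : X.Modules} (h : ClSub.IsInverseOf L M) : ClSub.IsInverseOf M L := by
  obtain ⟨e⟩ := h
  exact ⟨((OX.tensorBraiding (X := X)).app L).app M ≪≫ e⟩

variable [AlgebraicGeometry.IsReduced X]

include k in
theorem isInvertible_of_inverse_idealMod {D : X.IdealSheafData} {N : X.Modules}
    (hN : ClSub.IsInverseOf N (ClSub.idealMod D)) : PicF.IsInvertible N := by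
  have := Euler.isNoetherian_of_proper (X := X) k
  have hI : Coh.IsCoh (ClSub.idealMod D) := QCoh.isCoh_kernel _
    (Euler.isCoh_of_isInvertible Euler.isInvertible_structure) (QCoh.pushUnit_isCoh _)
  obtain ⟨e⟩ := hN
  have hIi := GabRos20.isInvertible_of_tensor_iso_structure e (FunMor20.isFP_of_isCoh hI)
  obtain ⟨e'⟩ := isInverseOf_symm (X := X) ⟨e⟩
  exact Seesaw26.isInvertible_of_tensor_iso e' hIi

/-- Twisting by an effective divisor adds its length on each union of components. -/
theorem degS_inverse (hd : topologicalKrullDim X ≤ 1) {D : X.IdealSheafData} {N : X.Modules}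
    (hN : ClSub.IsInverseOf N (ClSub.idealMod D)) (hDg : ∀ η ∈ genericPoints (X : Type u), η ∉ (D.support : Set X))
    {S : Set X} (hS : S ⊆ genericPoints (X : Type u)) :
    degS k N S = (Module.finrank k (Coh.HH X (ClSub.quotMod (D ⊔ JJ S)) 0) : ℤ) := by
  have := Euler.isNoetherian_of_proper (X := X) k
  have hNi := isInvertible_of_inverse_idealMod k hN
  obtain ⟨e⟩ := hN
  haveI : PreservesColimitsOfSize.{0, 0} (tF N) := preservesColimitsOfSize_shrink.{0, u, 0, u} _
  let a : (tF N).obj (ClSub.idealMod D) ≅ Coh.structureModule X :=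
    ((OX.tensorBraiding (X := X)).app N).app (ClSub.idealMod D) ≪≫ e
  let π : Coh.structureModule X ⟶ GG D N S := a.inv ≫ (tF N).map (gam D S)
  haveI : Epi ((tF N).map (gam D S)) := (tF N).map_epi _
  haveI : Epi π := epi_comp _ _
  haveI := Euler.epi_toSubscheme (JJ S)
  have hz : ClSub.idealModι (JJ S) ≫ π = 0 := by
    refine (detect_GG D hNi).hom_eq_zero _ fun η hη v => ?_
    have h : stalkLin (ClSub.idealModι (JJ S)) η v = 0 := by
      refine (bijective_toSubscheme (hS hη) (subset_closure hη)).1 ?_
      rw [map_zero, ← QCoh.stalkLin_comp]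
      erw [kernel.condition]
      exact stalkLin_zero η v
    rw [QCoh.stalkLin_comp, h, map_zero]
  let q : ClSub.quotMod (JJ S) ⟶ GG D N S := Abelian.epiDesc (ClSub.toSubscheme (JJ S)) π hz
  have hq : ClSub.toSubscheme (JJ S) ≫ q = π := Abelian.comp_epiDesc _ _ _
  haveI : Epi (ClSub.toSubscheme (JJ S) ≫ q) := by rw [hq]; infer_instance
  haveI : Epi q := epi_of_epi (ClSub.toSubscheme (JJ S)) q
  have hker : kernel.ι q = 0 := by
    refine detect_quot.hom_eq_zero _ fun η hη v => ?_
    obtain ⟨e1⟩ := nonempty_GG_equiv D hNi (hS hη) (hDg η (hS hη)) (subset_closure hη)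
    obtain ⟨e2⟩ := nonempty_quot_equiv (S := S) (hS hη) (subset_closure hη)
    haveI : Nontrivial ((GG D N S).presheaf.stalk η) := e1.toEquiv.nontrivial
    refine injective_of_surjective (isField_stalk (hS hη)) e2 _ (QCoh.stalkLin_surjective q η) ?_
    rw [map_zero, ← QCoh.stalkLin_comp]
    erw [kernel.condition]
    exact stalkLin_zero η v
  haveI : Mono q := Preadditive.mono_of_kernel_zero hker
  haveI : IsIso q := isIso_of_mono_of_epi q
  have hQ := isCoh_tF_quotMod (L := N) hNi k (D ⊔ JJ S)
  have h2 := Euler.euler_additive k (twistSeq_shortExact D hNi S) (isCoh_GG D hNi k S)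
    (isCoh_tF_quotMod hNi k (JJ S)) hQ
  have hsupp : CohB1.support (ClSub.quotMod (D ⊔ JJ S)) ⊆ (D.support : Set X) := fun x hx => by
    have := Snapper.support_quotMod _ hx
    rw [Scheme.IdealSheafData.support_sup] at this
    exact this.1
  obtain ⟨hfin, hcl⟩ := finite_of_notMem_genericPoints k hd D.support.isClosed hDg
  have hfin' := hfin.subset hsupp
  have hcl' : ∀ x ∈ CohB1.support (ClSub.quotMod (D ⊔ JJ S)), IsClosed ({x} : Set X) := fun x hx => hcl x (hsupp hx)
  have e3 := Euler.euler_tF_of_finite_support k (Euler.isFinLocFreeOfRank_one' hNi)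
    (Snapper.isCoh_quotMod k (D ⊔ JJ S)) hfin' hcl'
  have e4 := Euler.euler_eq_of_finite_support k (ClSub.quotMod (D ⊔ JJ S)) hfin' hcl'
  have e5 := Euler.euler_of_iso k (asIso q)
  change Curv2.euler k X (PP N S) = Curv2.euler k X (GG D N S) + Curv2.euler k X ((tF N).obj (ClSub.quotMod (D ⊔ JJ S))) at h2
  rw [degS]
  push_cast at e3
  linarith

/-- Degrees on components are additive in the line bundle. -/
theorem degS_tensor [ConnectedSpace X] (hdim : topologicalKrullDim X = 1) {L M : X.Modules}
    (hL : PicF.IsInvertible L) (hM : PicF.IsInvertible M) {S : Set X} (hS : S ⊆ genericPoints (X : Type u)) :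
    degS k (CohB1.tensorMod L M) S = degS k L S + degS k M S := by
  have := Euler.isNoetherian_of_proper (X := X) k
  have hLM := Ample.isInvertible_tensorMod hL hM
  have hone : ∀ η ∈ genericPoints (X : Type u),
      degS k (CohB1.tensorMod L M) {η} = degS k L {η} + degS k M {η} := fun η hη => by
    obtain ⟨hr, hirr, hconn, hd1⟩ := irreducible_JJ k hdim hη
    haveI := hr
    haveI := hirr
    haveI : IsIntegral (JJ ({η} : Set X)).subscheme := isIntegral_of_irreducibleSpace_of_isReduced _
    rw [← deg_eq_degS k hLM, ← deg_eq_degS k hL, ← deg_eq_degS k hM]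
    letI : (JJ ({η} : Set X)).subscheme.Over (Spec (CommRingCat.of k)) :=
      ⟨(JJ ({η} : Set X)).subschemeι ≫ X ↘ Spec (CommRingCat.of k)⟩
    haveI : IsProper ((JJ ({η} : Set X)).subscheme ↘ Spec (CommRingCat.of k)) :=
      inferInstanceAs (IsProper ((JJ ({η} : Set X)).subschemeι ≫ X ↘ Spec (CommRingCat.of k)))
    refine (Euler.deg_of_iso k (OX.pullTensorIso (JJ ({η} : Set X)).subschemeι L M) 1).trans ?_
    exact CurveMult.deg_tensorMod k hd1.le (Kleiman.isInv_pullback _ hL) (Kleiman.isInv_pullback _ hM)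
  have hfin : S.Finite := (genericPoints.finite NoetherianSpace.finite_irreducibleComponents).subset hS
  induction S, hfin using Set.Finite.induction_on with
  | empty => simp [degS_empty k hdim.le hL, degS_empty k hdim.le hM, degS_empty k hdim.le hLM]
  | @insert η R hη hR ih =>
    have hT : ({η} : Set X) ⊆ insert η R := Set.singleton_subset_iff.2 (Set.mem_insert η R)
    rw [degS_union k hdim.le hL hS hT, degS_union k hdim.le hM hS hT, degS_union k hdim.le hLM hS hT,
      Set.insert_sdiff_self_of_notMem hη, hone η (hS (Set.mem_insert η R)),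
      ih fun x hx => hS (Set.mem_insert_of_mem η hx)]
    ring

omit [AlgebraicGeometry.IsReduced X] in
theorem degS_of_iso {L L' : X.Modules} (e : L ≅ L') (hL : PicF.IsInvertible L) (hL' : PicF.IsInvertible L') (S : Set X) :
    degS k L S = degS k L' S := by
  rw [← deg_eq_degS k hL, ← deg_eq_degS k hL']
  letI : (JJ S).subscheme.Over (Spec (CommRingCat.of k)) := ⟨(JJ S).subschemeι ≫ X ↘ Spec (CommRingCat.of k)⟩
  exact Euler.deg_of_iso k ((Scheme.Modules.pullback (JJ S).subschemeι).mapIso e) 1

variable [IsAlgClosed k] [ConnectedSpace X] (hdim : topologicalKrullDim X = 1)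
  [DCoh.HasRpush (X ↘ Spec (CommRingCat.of k))] (h : DCoh.RpushPreservesQCoh (X ↘ Spec (CommRingCat.of k)))
  [DCoh.HasShriek (X ↘ Spec (CommRingCat.of k)) h]
  (OY : DCoh.DQCoh (Spec (CommRingCat.of k)))
  (hOY : Nonempty (OY.obj ≅ DCoh.inD (Spec (CommRingCat.of k)) (Coh.structureModule (Spec (CommRingCat.of k)))))

omit [AlgebraicGeometry.IsReduced X] [ConnectedSpace X] in
theorem finrank_quot_eq_one (J : X.IdealSheafData) [AlgebraicGeometry.IsReduced J.subscheme] [ConnectedSpace J.subscheme] :
    Module.finrank k (Coh.HH X (ClSub.quotMod J) 0) = 1 := by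
  letI : J.subscheme.Over (Spec (CommRingCat.of k)) := ⟨J.subschemeι ≫ X ↘ Spec (CommRingCat.of k)⟩
  haveI : IsProper (J.subscheme ↘ Spec (CommRingCat.of k)) :=
    inferInstanceAs (IsProper (J.subschemeι ≫ X ↘ Spec (CommRingCat.of k)))
  rw [finrank_quotMod_eq k]
  exact ConnH0.finrank_H0_eq_one k

omit [AlgebraicGeometry.IsReduced X] [ConnectedSpace X] [IsAlgClosed k] in
include k in
theorem smooth_notMem_genericPoints [ConnectedSpace X] (hdim : topologicalKrullDim X = 1) {p : X}
    (hp : IsClosed ({p} : Set X)) : p ∉ genericPoints (X : Type u) := fun hg => by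
  have := Euler.isNoetherian_of_proper (X := X) k
  exact not_isClosed_generic hdim hg hp

include hdim hOY in
/-- The numerical condition for twisted dualizing powers: `2 h¹(O_J) ≤ m deg(M|J)`. -/
theorem two_mul_h1_le (hX : Curv2.AtWorstNodal k X) (n : ℕ) (p : Fin n → X) (hpinj : Function.Injective p)
    (hpcl : ∀ i, IsClosed ({p i} : Set X))
    (hss : ∀ (E : Set X) (hE : E ∈ irreducibleComponents (X : Type u)),
      Subsingleton (Coh.HH (Scheme.IdealSheafData.vanishingIdeal ⟨E, isClosed_of_mem_irreducibleComponents E hE⟩).subscheme (Coh.structureModule (Scheme.IdealSheafData.vanishingIdeal ⟨E, isClosed_of_mem_irreducibleComponents E hE⟩).subscheme) 1) →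
        2 ≤ (E ∩ closure Eᶜ).ncard + (p ⁻¹' E).ncard)
    (hgn : 0 < 2 * (Curv2.genus k X : ℤ) - 2 + n)
    (N : X.Modules) (hN : ClSub.IsInverseOf N (ClSub.idealMod
      (Scheme.IdealSheafData.vanishingIdeal ⟨⋃ i, ({p i} : Set X), isClosed_iUnion_of_finite hpcl⟩)))
    (M : X.Modules) (hM : Nonempty (M ≅ CohB1.tensorMod (DCoh.dualizingMod (X ↘ (Spec (CommRingCat.of k))) h OY 1) N))
    (m : ℕ) (hm : 2 ≤ m) :
    PicF.IsInvertible M ∧
    ∀ J : X.IdealSheafData, AlgebraicGeometry.IsReduced J.subscheme → ConnectedSpace J.subscheme →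
      topologicalKrullDim J.subscheme = 1 →
      2 * (@Curv2.genus k _ J.subscheme ⟨J.subschemeι ≫ (X ↘ (Spec (CommRingCat.of k)))⟩ : ℤ) ≤
        @Curv2.deg k _ J.subscheme ⟨J.subschemeι ≫ (X ↘ (Spec (CommRingCat.of k)))⟩
          ((Scheme.Modules.pullback J.subschemeι).obj (CohB1.tensorPow M m)) 1 := by
  have := Euler.isNoetherian_of_proper (X := X) k
  obtain ⟨-, hω⟩ := nodal_data h OY hdim hOY (equidim_of_connected (k := k) hdim) hX
  have hNi := isInvertible_of_inverse_idealMod k hN
  obtain ⟨eM⟩ := hM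
  have hωN := Ample.isInvertible_tensorMod hω hNi
  have hMi : PicF.IsInvertible M := RelProjK.isInvertible_of_iso eM hωN
  refine ⟨hMi, ?_⟩
  set D := Scheme.IdealSheafData.vanishingIdeal (X := X) ⟨⋃ i, ({p i} : Set X), isClosed_iUnion_of_finite hpcl⟩
    with hDdef
  have hDs : (D.support : Set X) = Set.range p := by
    show (⋃ i, ({p i} : Set X)) = Set.range p
    exact Set.iUnion_singleton_eq_range p
  have hDg : ∀ η ∈ genericPoints (X : Type u), η ∉ (D.support : Set X) := fun η hη hh => by
    rw [hDs] at hh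
    obtain ⟨i, rfl⟩ := hh
    exact smooth_notMem_genericPoints k hdim (hpcl i) hη
  -- the degree on a union of components
  have hdeg : ∀ S : Set X, S ⊆ genericPoints (X : Type u) →
      2 * (Module.finrank k (Coh.HH X (ClSub.quotMod (JJ S)) 1) : ℤ) -
        2 * (Module.finrank k (Coh.HH X (ClSub.quotMod (JJ S)) 0) : ℤ) + (meet k S : ℤ) +
        (p ⁻¹' closure S).ncard ≤ degS k M S := fun S hS => by
    rw [degS_of_iso k eM hMi hωN, degS_tensor k hdim hω hNi hS, degS_omega hdim h OY hOY hω hS,
      degS_inverse k hdim.le hN hDg hS]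
    obtain ⟨hfin, hcl⟩ := finite_of_notMem_genericPoints k hdim.le D.support.isClosed hDg
    have hsub : ((D ⊔ JJ S).support : Set X) ⊆ D.support := by
      rw [Scheme.IdealSheafData.support_sup]; exact Set.inter_subset_left
    have h1 := ncard_support_le k (D ⊔ JJ S) (hfin.subset hsub) fun x hx => hcl x (hsub hx)
    have h2 : (p ⁻¹' closure S).ncard ≤ ((D ⊔ JJ S).support : Set X).ncard := by
      rw [← Set.ncard_image_of_injective _ hpinj]
      refine Set.ncard_le_ncard ?_ (hfin.subset hsub)
      rintro _ ⟨i, hi, rfl⟩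
      rw [Scheme.IdealSheafData.support_sup]
      exact ⟨hDs.ge ⟨i, rfl⟩, hi⟩
    omega
  have hnn : ∀ η ∈ genericPoints (X : Type u), 0 ≤ degS k M {η} := fun η hη => by
    have hS : ({η} : Set X) ⊆ genericPoints (X : Type u) := Set.singleton_subset_iff.2 hη
    obtain ⟨hr, hirr, hconn, hd1⟩ := irreducible_JJ k hdim hη
    haveI := hr
    haveI := hconn
    have hd := hdeg {η} hS
    rw [finrank_quot_eq_one k] at hd
    rcases Nat.eq_zero_or_pos (Module.finrank k (Coh.HH X (ClSub.quotMod (JJ ({η} : Set X))) 1)) with h1 | h1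
    swap
    · omega
    letI : (JJ ({η} : Set X)).subscheme.Over (Spec (CommRingCat.of k)) :=
      ⟨(JJ ({η} : Set X)).subschemeι ≫ X ↘ Spec (CommRingCat.of k)⟩
    haveI : IsProper ((JJ ({η} : Set X)).subscheme ↘ Spec (CommRingCat.of k)) :=
      inferInstanceAs (IsProper ((JJ ({η} : Set X)).subschemeι ≫ X ↘ Spec (CommRingCat.of k)))
    haveI := Euler.finiteDimensional_HH k
      (Euler.isCoh_of_isInvertible (Euler.isInvertible_structure (X := (JJ ({η} : Set X)).subscheme))) 1
    rw [finrank_quotMod_eq k] at h1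
    have h2 := hss (closure ({η} : Set X)) hη (Module.finrank_zero_iff.1 h1)
    have h3 : (closure ({η} : Set X) ∩ closure (closure ({η} : Set X))ᶜ).ncard ≤ meet k ({η} : Set X) := by
      obtain ⟨hfin, hd⟩ := discrete_meet (k := k) hdim hS
      haveI := hfin
      haveI := hd
      have he : ((JJ ({η} : Set X) ⊔ JJ (compS ({η} : Set X))).support : Set X) =
          closure ({η} : Set X) ∩ closure (closure ({η} : Set X))ᶜ := by
        rw [Scheme.IdealSheafData.support_sup, ← vanishingIdeal_compl (k := k) hdim hS]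
        rfl
      rw [← he]
      refine ncard_support_le k _ ?_ ?_
      · rw [← Scheme.IdealSheafData.range_subschemeι]; exact Set.finite_range _
      · intro x hx
        obtain ⟨y, rfl⟩ := (Scheme.IdealSheafData.range_subschemeι _).ge hx
        rw [← Set.image_singleton]
        exact (Scheme.IdealSheafData.subschemeι _).isClosedEmbedding.isClosedMap _ (isClosed_discrete _)
    omega
  intro J hJr hJc hJ1
  haveI := hJr
  haveI := hJc
  obtain ⟨hJ, -⟩ := eq_JJ (k := k) hdim.le J hJ1
  have hS : genericPoints (X : Type u) ∩ J.support ⊆ genericPoints (X : Type u) := Set.inter_subset_left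
  generalize genericPoints (X : Type u) ∩ J.support = S at hJ hS
  subst hJ
  rw [deg_restrict_tensorPow k hdim.le hMi (JJ S) m, deg_eq_degS k hMi]
  have hgJ : (@Curv2.genus k _ (JJ S).subscheme ⟨(JJ S).subschemeι ≫ (X ↘ (Spec (CommRingCat.of k)))⟩) =
      Module.finrank k (Coh.HH X (ClSub.quotMod (JJ S)) 1) := by
    letI : (JJ S).subscheme.Over (Spec (CommRingCat.of k)) := ⟨(JJ S).subschemeι ≫ X ↘ Spec (CommRingCat.of k)⟩
    exact (finrank_quotMod_eq k (JJ S) 1).symm
  rw [hgJ]
  have hd := hdeg S hS
  rw [finrank_quot_eq_one k] at hd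
  have h0 := degS_nonneg hdim.le hMi hnn hS
  suffices hkey : (Module.finrank k (Coh.HH X (ClSub.quotMod (JJ S)) 1) : ℤ) ≤ degS k M S by
    have hm' : (2 : ℤ) ≤ (m : ℤ) := by exact_mod_cast hm
    nlinarith
  by_cases hgen : S = genericPoints (X : Type u)
  · subst hgen
    have hcl : (p ⁻¹' closure (genericPoints (X : Type u))).ncard = n := by
      rw [genericPoints.closure, Set.preimage_univ, Set.ncard_univ, Nat.card_fin]
    have hg1 : Module.finrank k (Coh.HH X (ClSub.quotMod (JJ (genericPoints (X : Type u)))) 1) = Curv2.genus k X := by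
      obtain ⟨e⟩ := quotMod_univ_iso (X := X)
      exact (Euler.hhEquiv (A := k) e 1).finrank_eq.symm
    omega
  · obtain ⟨y⟩ : Nonempty (JJ S).subscheme := ConnectedSpace.toNonempty
    have hne : S.Nonempty := closure_nonempty_iff.1 ⟨_, (JJ S).range_subschemeι.le ⟨y, rfl⟩⟩
    have hδ : 0 < meet k S := Nat.pos_of_ne_zero fun hz => hgen (eq_gen_of_meet_zero hS hne hz)
    omega

end GrothLib.CurveSerre11
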