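import Groth.Agent.Lib.CurveSerre11.GorOmega
import Groth.Agent.Lib.CurveSerre11.Balanced
import Groth.Agent.Lib.NodeSplit16.Chain
import Groth.Agent.Lib.ClopenDec11.ZeroEuler

/-!
# Complementary subcurves of a nodal curve over an algebraically closed field meet in `#` points
-/

set_option autoImplicit false
set_option backward.isDefEq.respectTransparency false
set_option linter.all false
set_option maxHeartbeats 1000000

universe u

open CategoryTheory CategoryTheory.Limits AlgebraicGeometry TopologicalSpace Opposite

noncomputable section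

namespace GrothLib.CurveSerre11

open GrothLib.SubCurve16

variable {k : Type u} [Field k] [IsAlgClosed k]

/-- Functions on a finite reduced `k`-scheme are functions on its points. -/
theorem finrank_H0_discrete {D : Scheme.{u}} [D.Over (Spec (CommRingCat.of k))]
    [IsProper (D ↘ Spec (CommRingCat.of k))] [AlgebraicGeometry.IsReduced D] [Finite D] [DiscreteTopology D] :
    Module.finrank k (Coh.HH D (Coh.structureModule D) 0) = Nat.card D := by
  classical
  let p := D ↘ Spec (CommRingCat.of k)
  have hb : ∀ y : D, Function.Bijective (Curv2.resMap k D y) := fun y => by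
    have hy : IsClosed ({y} : Set D) := isClosed_discrete _
    have h := CurveMult.bijective_resMap_of_section k (pointOfClosedPoint p y hy)
      (pointOfClosedPoint_comp p y hy) (IsLocalRing.closedPoint k)
    rwa [pointOfClosedPoint_apply] at h
  let r : ∀ y : D, k ≃+* D.residueField y := fun y => RingEquiv.ofBijective _ (hb y)
  let e := ProjCoh.H0top (Coh.structureModule D)
  let v : Γ(D, ⊤) →+* (D → k) := Pi.ringHom fun y =>
    (r y).symm.toRingHom.comp ((D.residue y).hom.comp (D.presheaf.germ ⊤ y trivial).hom)
  have hv : ∀ c : k, v (Coh.toGlobal p c) = fun _ => c := fun c => funext fun y => (r y).symm_apply_apply c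
  let φ : Coh.HH D (Coh.structureModule D) 0 →ₗ[k] (D → k) :=
    { toFun := fun h => v (e h)
      map_add' := fun a b => by rw [map_add]; exact map_add v _ _
      map_smul' := fun c a => by
        rw [RingHom.id_apply, ProjCoh.H0top_smul]
        refine (map_mul v _ _).trans ?_
        rw [hv]
        rfl }
  have hinj : Function.Injective φ := by
    refine (injective_iff_map_eq_zero φ).2 fun a ha => e.injective ?_
    rw [map_zero]
    refine (basicOpen_eq_bot_iff (show Γ(D, ⊤) from e a)).1 (eq_bot_iff.2 fun y hy => ?_)
    have h1 : D.residue y (D.presheaf.germ ⊤ y trivial (show Γ(D, ⊤) from e a)) = 0 :=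
      (r y).symm.injective ((congrFun ha y).trans (map_zero _).symm)
    exact absurd (((Scheme.mem_basicOpen D (show Γ(D, ⊤) from e a) y (show y ∈ (⊤ : D.Opens) from trivial)).1 hy).map (D.residue y).hom) (by rw [h1]; exact not_isUnit_zero)
  have hsurj : Function.Surjective φ := by
    haveI := Fintype.ofFinite D
    refine LinearMap.range_eq_top.1 (eq_top_iff.2 ((Pi.basisFun k D).span_eq.symm.le.trans (Submodule.span_le.2 ?_)))
    rintro _ ⟨y, rfl⟩
    obtain ⟨t, h1, h0⟩ := exists_indicator (A := ({y} : Set D)) ⟨isClosed_discrete _, isOpen_discrete _⟩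
    refine ⟨e.symm (show Γ(Coh.structureModule D, ⊤) from t), ?_⟩
    show v (e (e.symm _)) = _
    rw [AddEquiv.apply_symm_apply, Pi.basisFun_apply]
    funext z
    show (r z).symm (D.residue z (D.presheaf.germ ⊤ z trivial t)) = _
    by_cases hz : z = y
    · subst hz
      rw [h1 z rfl, map_one, map_one, Pi.single_eq_same]
    · rw [h0 z hz, map_zero, map_zero, Pi.single_eq_of_ne hz]
  haveI := Fintype.ofFinite D
  rw [(LinearEquiv.ofBijective φ ⟨hinj, hsurj⟩).finrank_eq, Module.finrank_pi, Nat.card_eq_fintype_card]

variable {X : Scheme.{u}} [X.Over (Spec (CommRingCat.of k))] [IsProper (X ↘ Spec (CommRingCat.of k))]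
  [AlgebraicGeometry.IsReduced X] [ConnectedSpace X]

theorem finrank_meet (hdim : topologicalKrullDim X = 1) (hX : Curv2.AtWorstNodal k X)
    (J : X.IdealSheafData) [IsReduced J.subscheme] [ConnectedSpace J.subscheme]
    (hJ1 : topologicalKrullDim J.subscheme = 1) :
    Module.finrank k (Coh.HH X (ClSub.quotMod (J ⊔ Scheme.IdealSheafData.vanishingIdeal
      ⟨closure ((J.support : Set X)ᶜ), isClosed_closure⟩)) 0) =
      Nat.card ((J.support : Set X) ∩ closure ((J.support : Set X)ᶜ) : Set X) := by
  have := Euler.isNoetherian_of_proper (X := X) k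
  obtain ⟨h1, h2⟩ := eq_JJ (k := k) hdim.le J hJ1
  let T : Closeds X := J.support ⊓ ⟨closure ((J.support : Set X)ᶜ), isClosed_closure⟩
  have hsup : J ⊔ Scheme.IdealSheafData.vanishingIdeal ⟨closure ((J.support : Set X)ᶜ), isClosed_closure⟩ =
      Scheme.IdealSheafData.vanishingIdeal T := by
    have hs : (Scheme.IdealSheafData.vanishingIdeal (X := X)
        ⟨closure ((J.support : Set X)ᶜ), isClosed_closure⟩).support = ⟨closure ((J.support : Set X)ᶜ), isClosed_closure⟩ :=
      Closeds.ext (Scheme.IdealSheafData.coe_support_vanishingIdeal _)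
    show _ = Scheme.IdealSheafData.vanishingIdeal (J.support ⊓ _)
    rw [← hs, h2]
    clear hs h2
    revert h1
    generalize hS : genericPoints (X : Type u) ∩ (J.support : Set X) = S
    intro h1
    subst h1
    exact NodeSplit16.sup_JJ_eq hdim hX (hS ▸ Set.inter_subset_left) (compS_subset _) fun x hx h => h.2 hx
  have hsub : (T : Set X) = (J.support : Set X) ∩ closure ((J.support : Set X)ᶜ) := rfl
  have hng : ∀ η ∈ genericPoints (X : Type u), η ∉ (T : Set X) := by
    intro η hη h
    rw [hsub] at h
    have h' : η ∈ ((JJ (compS (genericPoints (X : Type u) ∩ J.support))).support : Set X) := by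
      rw [← h2, Scheme.IdealSheafData.coe_support_vanishingIdeal]; exact h.2
    exact notMem_support_compS (S := genericPoints (X : Type u) ∩ J.support) Set.inter_subset_left ⟨hη, h.1⟩ h'
  obtain ⟨hfin, hcl⟩ := finite_of_notMem_genericPoints k hdim.le T.isClosed hng
  rw [hsup, finrank_quotMod_eq k]
  letI : (Scheme.IdealSheafData.vanishingIdeal T).subscheme.Over (Spec (CommRingCat.of k)) :=
    ⟨Scheme.IdealSheafData.subschemeι _ ≫ X ↘ Spec (CommRingCat.of k)⟩
  haveI : IsProper ((Scheme.IdealSheafData.vanishingIdeal T).subscheme ↘ Spec (CommRingCat.of k)) :=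
    inferInstanceAs (IsProper (Scheme.IdealSheafData.subschemeι _ ≫ X ↘ Spec (CommRingCat.of k)))
  haveI := RedSub.isReduced_subscheme_vanishingIdeal T
  have hrange : Set.range (Scheme.IdealSheafData.vanishingIdeal T).subschemeι = (T : Set X) := by
    rw [Scheme.IdealSheafData.range_subschemeι, Scheme.IdealSheafData.coe_support_vanishingIdeal]
  let ι := (Scheme.IdealSheafData.vanishingIdeal T).subschemeι
  haveI : Finite (Scheme.IdealSheafData.vanishingIdeal T).subscheme := by
    haveI := hfin.to_subtype
    exact Finite.of_injective (fun y => (⟨ι y, hrange.le ⟨y, rfl⟩⟩ : (T : Set X)))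
      fun a b hab => ι.isClosedEmbedding.injective (congrArg Subtype.val hab)
  haveI : T1Space (Scheme.IdealSheafData.vanishingIdeal T).subscheme := ⟨fun y => by
    rw [← ι.isClosedEmbedding.injective.preimage_image {y}, Set.image_singleton]
    exact (hcl _ (hrange.le ⟨y, rfl⟩)).preimage ι.continuous⟩
  rw [finrank_H0_discrete]
  rw [← hsub, ← hrange]
  exact (Nat.card_range_of_injective ι.isClosedEmbedding.injective).symm

end GrothLib.CurveSerre11
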