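import Groth.Agent.Lib.CurveSerre11.Numbers
import Groth.Agent.Lib.HomSh.Coherent
import Groth.Agent.Lib.AsympCoh5.Rank
import Groth.Agent.Lib.TFCurve11.Basic

/-!
# `h¹(ω) ≤ 1` with constant functions only; generic rank of `ω` on an integral curve
-/

set_option autoImplicit false
set_option linter.all false
set_option backward.isDefEq.respectTransparency false
set_option maxHeartbeats 1000000

universe u

open CategoryTheory CategoryTheory.Limits AlgebraicGeometry Opposite TopologicalSpace
attribute [local instance] HasDerivedCategory.standard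

noncomputable section

namespace GrothLib.CurveSerre11

theorem finrank_le_one_of_forall_scalar {K M : Type*} [CommRing K] (hK : IsField K) [AddCommGroup M] [Module K M]
    (H : ∀ α : M →ₗ[K] M, ∃ c : K, ∀ x, α x = c • x) : Module.finrank K M ≤ 1 := by
  letI : Field K := hK.toField
  by_cases hv : ∃ v : M, v ≠ 0
  · obtain ⟨v, hv⟩ := hv
    refine finrank_le_one v fun w => ?_
    obtain ⟨f, hf⟩ := LinearMap.exists_leftInverse_of_injective (LinearMap.toSpanSingleton K M v)
      (LinearMap.ker_eq_bot.2 (smul_left_injective K hv))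
    obtain ⟨c, hc⟩ := H (LinearMap.smulRight f w)
    refine ⟨c, ?_⟩
    rw [← hc, LinearMap.smulRight_apply]
    have : f v = 1 := by simpa using LinearMap.congr_fun hf 1
    rw [this, one_smul]
  · push Not at hv
    haveI : Subsingleton M := ⟨fun a b => (hv a).trans (hv b).symm⟩
    exact Module.finrank_zero_of_subsingleton.le.trans zero_le_one

variable {k : Type u} [Field k] {X : Scheme.{u}}

theorem genDet_of_torsionFree [AlgebraicGeometry.IsIntegral X] [IsLocallyNoetherian X] {G : X.Modules}
    [G.IsQuasicoherent] (hG : TorSh.IsTorsionFree G) : AsympCoh5.GenDet G := fun W s hs =>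
  TFCurve11.eq_zero_of_maximal_germ hG s fun w hw hmax => by
    obtain rfl : genericPoint X = w := hmax _ ((genericPoint_spec X).specializes trivial)
    exact hs hw

theorem isTorsionFree_of_noZeroSMul {F : X.Modules}
    (htf : ∀ (x : X) (a : X.presheaf.stalk x) (m : F.presheaf.stalk x), a • m = 0 → a = 0 ∨ m = 0) :
    TorSh.IsTorsionFree F := fun x =>
  ⟨fun a ha m m' hm => by
    by_cases ha0 : a = 0
    · subst ha0
      rcases subsingleton_or_nontrivial (X.presheaf.stalk x) with hs | hn
      · haveI := Module.subsingleton (X.presheaf.stalk x) (F.presheaf.stalk x)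
        exact Subsingleton.elim _ _
      · exact absurd (ha.left (show (0 : X.presheaf.stalk x) * 1 = 0 * 0 by simp)) one_ne_zero
    · have h1 : a • (m - m') = 0 := by rw [smul_sub]; exact sub_eq_zero.2 hm
      exact sub_eq_zero.1 ((htf x a _ h1).resolve_left ha0)⟩

theorem isTorsionFree_of_mono {F G : X.Modules} (i : G ⟶ F) [Mono i] (hF : TorSh.IsTorsionFree F) :
    TorSh.IsTorsionFree G := fun x =>
  haveI := hF x
  ⟨fun a ha m m' hm => QCoh.stalkLin_injective i x (ha.isSMulRegular (M := F.presheaf.stalk x) (by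
    show a • QCoh.stalkLin i x m = a • QCoh.stalkLin i x m'
    rw [← map_smul, ← map_smul]
    exact congrArg _ hm))⟩

variable [X.Over (Spec (CommRingCat.of k))] [IsProper (X ↘ Spec (CommRingCat.of k))]
  [DCoh.HasRpush (X ↘ Spec (CommRingCat.of k))] (h : DCoh.RpushPreservesQCoh (X ↘ Spec (CommRingCat.of k)))
  [DCoh.HasShriek (X ↘ Spec (CommRingCat.of k)) h]
  (OY : DCoh.DQCoh (Spec (CommRingCat.of k)))
  (hOY : Nonempty (OY.obj ≅ DCoh.inD (Spec (CommRingCat.of k)) (Coh.structureModule (Spec (CommRingCat.of k)))))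

local notation "π" => (X ↘ Spec (CommRingCat.of k))
local notation "ω" => DCoh.dualizingMod π h OY 1

include hOY in
theorem finrank_HH_one_omega_le (hdim : topologicalKrullDim X ≤ 1)
    (h0 : Module.finrank k (Coh.HH X (Coh.structureModule X) 0) = 1) :
    Module.finrank k (Coh.HH X ω 1) ≤ 1 := by
  haveI := Euler.isNoetherian_of_proper (X := X) k
  obtain ⟨t, ht⟩ := exists_trace h OY hOY hdim
  haveI := Euler.finiteDimensional_HH k (isCoh_omega h OY hOY) 1
  rw [← Subspace.dual_finrank_eq]
  refine finrank_le_one (M := Module.Dual k (Coh.HH X ω 1)) t fun ψ => ?_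
  obtain ⟨c, hc⟩ := exists_eq_scalar h OY hOY hdim h0 (homOf ht (isQCoh_omega h OY hOY) ψ)
  refine ⟨c, LinearMap.ext fun x => ?_⟩
  rw [homOf_spec ht (isQCoh_omega h OY hOY) ψ x, hc, hmap_smulMod, map_smul]
  rfl

include hOY in
/-- The dualizing module of an integral curve has rank at most one. -/
theorem grank_omega_le [AlgebraicGeometry.IsIntegral X] (hdim : topologicalKrullDim X ≤ 1) :
    Euler.grank ω ≤ 1 := by
  haveI := Euler.isNoetherian_of_proper (X := X) k
  set η := genericPoint X
  refine finrank_le_one_of_forall_scalar CurvePoints.isField_stalk_genericPoint fun α => ?_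
  obtain ⟨θ, hθ⟩ := ((HomSh.hasRel_of_isCoh (isCoh_omega h OY hOY)).evalStalk_bijective ω η).2
    α
  obtain ⟨a, rfl⟩ := surjective_toEnd_stalk h OY hOY hdim η θ
  obtain ⟨V, hV, b, rfl⟩ := TopCat.Presheaf.exists_germ_eq (Coh.structureModule X).presheaf a
  refine ⟨X.presheaf.germ V η hV b, fun v => ?_⟩
  have h2 : QCoh.stalkLin (toEnd h OY) η ((Coh.structureModule X).presheaf.germ V η hV b) =
      (RefHull.homSh ω ω).presheaf.germ V η hV ((toEnd h OY).app V b) := RefHull.stalkMapₗ_germ (toEnd h OY) η hV b
  rw [h2, RefHull.evalStalk_germ, toEnd_app] at hθ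
  have h3 := LinearMap.congr_fun hθ v
  rw [smul_id_val] at h3
  exact h3.symm

end GrothLib.CurveSerre11
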