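import Groth.Agent.Lib.CurveSerre11.TailsMain
import Groth.Agent.Lib.CurveSerre11.GorOmega
import Groth.Agent.Lib.CurveSerre11.Numbers
import Groth.Agent.Lib.SubCurve16.Gen
import Groth.Agent.Lib.RLpsi8.SectionTensor
import Groth.Agent.Lib.Kodaira.Bound
import Groth.Agent.Lib.Hilb20.Integral
import Groth.Agent.Lib.Euler.InvHom
import Groth.Agent.Lib.ConnH0.Basic

/-!
# Degrees of the dualizing module: tails, bridges, ampleness, global generation
-/

set_option autoImplicit false
set_option backward.isDefEq.respectTransparency false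
set_option linter.all false
set_option maxHeartbeats 1000000

universe u

open CategoryTheory CategoryTheory.Limits AlgebraicGeometry TopologicalSpace Opposite
attribute [local instance] HasDerivedCategory.standard

noncomputable section

namespace GrothLib.CurveSerre11

open GrothLib.SubCurve16

section
open GrothLib.Ample

/-- A nonzero section of an invertible module on a reduced scheme generates somewhere. -/
theorem genLocus_ne_bot' {X : Scheme.{u}} [IsReduced X] {L : X.Modules} (hL : PicF.IsInvertible L)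
    (s : Coh.structureModule X ⟶ L) (hs : s ≠ 0) : CohB1.genLocus L s ≠ ⊥ := by
  intro h
  obtain ⟨c, ⟨e⟩⟩ := exists_cocycle hL
  obtain ⟨a, ha⟩ := c.exists_hom_eq (s ≫ e.hom)
  have hloc : c.locus a = ⊥ := by
    rw [← c.genLocus_hom a, ha, genLocus_comp_iso e s, h]
  have ha0 : a = 0 := c.sect_ext fun i => by
    have h1 : c.locus a ⊓ c.D i = ⊥ := by rw [hloc, bot_inf_eq]
    rw [c.locus_inf_D, basicOpen_eq_bot_iff] at h1
    exact h1
  refine hs ?_
  rw [← cancel_mono e.hom, zero_comp, ← ha, ha0]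
  refine Scheme.Modules.hom_ext _ _ fun U => ?_
  ext r
  show ((c.hom (0 : c.sect 1 ⊤)).val.app (op U)).hom r = 0
  refine (c.hom_app_apply (0 : c.sect 1 ⊤) U r).trans ?_
  rw [map_zero]
  exact smul_zero _

/-- A section generating somewhere is nonzero. -/
theorem ne_zero_of_mem_genLocus' {X : Scheme.{u}} {M : X.Modules} (hM : PicF.IsInvertible M)
    (s : Coh.structureModule X ⟶ M) {x : X} (hx : x ∈ CohB1.genLocus M s) : s ≠ 0 := by
  rintro rfl
  refine Hilb20.support_cokernel_subset (0 : Coh.structureModule X ⟶ M) ?_ hx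
  rw [QCoh.support_eq_of_iso (cokernelZeroIsoTarget : cokernel (0 : Coh.structureModule X ⟶ M) ≅ M)]
  exact Kodaira.mem_support_of_isInvertible hM x

end

variable {k : Type u} [Field k] {X : Scheme.{u}} [X.Over (Spec (CommRingCat.of k))]
  [IsProper (X ↘ Spec (CommRingCat.of k))]

include k in
theorem connected_of_h0 (hdim : topologicalKrullDim X = 1)
    (h0 : Module.finrank k (Coh.HH X (Coh.structureModule X) 0) = 1) : ConnectedSpace X := by
  haveI : Nonempty X := by
    by_contra h
    haveI := not_nonempty_iff.1 h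
    have hb : topologicalKrullDim X = ⊥ := Order.krullDim_eq_bot_iff.2 ⟨fun S =>
      isEmptyElim S.isIrreducible'.nonempty.some⟩
    rw [hb] at hdim
    exact WithBot.bot_ne_one hdim
  haveI := Euler.finiteDimensional_HH k (Euler.isCoh_of_isInvertible (Euler.isInvertible_structure (X := X))) 0
  exact ConnH0.connectedSpace_of_finrank_le k h0.le

variable [AlgebraicGeometry.IsReduced X]

/-- The inequality for the meeting of a tail, in any spelling of the ideals. -/
theorem tail_numbers [ConnectedSpace X] {C : Set X} (hC : C ∈ irreducibleComponents (X : Type u))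
    (ht : Curv2.IsRationalTail X C hC) {J J' : X.IdealSheafData}
    (eJ : Scheme.IdealSheafData.vanishingIdeal ⟨C, isClosed_of_mem_irreducibleComponents C hC⟩ = J)
    (eJ' : (Scheme.Opens.ι (⟨Cᶜ, (isClosed_of_mem_irreducibleComponents C hC).isOpen_compl⟩ : X.Opens)).ker = J')
    [AlgebraicGeometry.IsReduced J.subscheme] [ConnectedSpace J.subscheme] :
    Module.finrank k (Coh.HH X (ClSub.quotMod (J ⊔ J')) 0) ≤ Module.finrank k (Coh.HH X (ClSub.quotMod J) 0) ∧
      Subsingleton (Coh.HH J.subscheme (Coh.structureModule J.subscheme) 1) := by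
  subst eJ eJ'
  obtain ⟨-, hn, hsub, hred, hev, hs⟩ := ht
  exact ⟨meet_le_of_tail hn hsub hred hev, hs⟩

theorem bridge_numbers {C : Set X} (hC : C ∈ irreducibleComponents (X : Type u))
    (hb : Curv2.IsRationalBridge k X C hC) {J J' : X.IdealSheafData}
    (eJ : Scheme.IdealSheafData.vanishingIdeal ⟨C, isClosed_of_mem_irreducibleComponents C hC⟩ = J)
    (eJ' : (Scheme.Opens.ι (⟨Cᶜ, (isClosed_of_mem_irreducibleComponents C hC).isOpen_compl⟩ : X.Opens)).ker = J') :
    Module.finrank k (Coh.HH X (ClSub.quotMod (J ⊔ J')) 0) = 2 * Module.finrank k (Coh.HH X (ClSub.quotMod J) 0) ∧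
      Subsingleton (Coh.HH J.subscheme (Coh.structureModule J.subscheme) 1) := by
  subst eJ eJ'
  exact ⟨hb.2.1, hb.2.2⟩

omit [AlgebraicGeometry.IsReduced X] in
theorem h1_eq_zero_of_subsingleton {J : X.IdealSheafData}
    (hs : Subsingleton (Coh.HH J.subscheme (Coh.structureModule J.subscheme) 1)) :
    Module.finrank k (Coh.HH X (ClSub.quotMod J) 1) = 0 := by
  letI : J.subscheme.Over (Spec (CommRingCat.of k)) := ⟨J.subschemeι ≫ X ↘ Spec (CommRingCat.of k)⟩
  rw [finrank_quotMod_eq k]
  exact Module.finrank_zero_of_subsingleton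

omit [AlgebraicGeometry.IsReduced X] in
theorem subsingleton_of_h1_eq_zero {J : X.IdealSheafData}
    (h : Module.finrank k (Coh.HH X (ClSub.quotMod J) 1) = 0) :
    Subsingleton (Coh.HH J.subscheme (Coh.structureModule J.subscheme) 1) := by
  letI : J.subscheme.Over (Spec (CommRingCat.of k)) := ⟨J.subschemeι ≫ X ↘ Spec (CommRingCat.of k)⟩
  haveI : IsProper (J.subscheme ↘ Spec (CommRingCat.of k)) :=
    inferInstanceAs (IsProper (J.subschemeι ≫ X ↘ Spec (CommRingCat.of k)))
  haveI := Euler.finiteDimensional_HH k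
    (Euler.isCoh_of_isInvertible (Euler.isInvertible_structure (X := J.subscheme))) 1
  rw [finrank_quotMod_eq k] at h
  exact Module.finrank_zero_iff.1 h

omit [AlgebraicGeometry.IsReduced X] in
theorem isRationalBridge_of (C : Set X) (hC : C ∈ irreducibleComponents (X : Type u)) {J J' : X.IdealSheafData}
    (eJ : Scheme.IdealSheafData.vanishingIdeal ⟨C, isClosed_of_mem_irreducibleComponents C hC⟩ = J)
    (eJ' : (Scheme.Opens.ι (⟨Cᶜ, (isClosed_of_mem_irreducibleComponents C hC).isOpen_compl⟩ : X.Opens)).ker = J')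
    (h1 : (J'.support : Set X).Nonempty)
    (h2 : Module.finrank k (Coh.HH X (ClSub.quotMod (J ⊔ J')) 0) = 2 * Module.finrank k (Coh.HH X (ClSub.quotMod J) 0))
    (h3 : Subsingleton (Coh.HH J.subscheme (Coh.structureModule J.subscheme) 1)) :
    Curv2.IsRationalBridge k X C hC := by
  subst eJ eJ'
  exact ⟨h1, h2, h3⟩

variable [ConnectedSpace X] (hdim : topologicalKrullDim X = 1)
  [DCoh.HasRpush (X ↘ Spec (CommRingCat.of k))] (h : DCoh.RpushPreservesQCoh (X ↘ Spec (CommRingCat.of k)))
  [DCoh.HasShriek (X ↘ Spec (CommRingCat.of k)) h]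
  (OY : DCoh.DQCoh (Spec (CommRingCat.of k)))
  (hOY : Nonempty (OY.obj ≅ DCoh.inD (Spec (CommRingCat.of k)) (Coh.structureModule (Spec (CommRingCat.of k)))))
  (hω : PicF.IsInvertible (DCoh.dualizingMod (X ↘ Spec (CommRingCat.of k)) h OY 1))

include hdim hOY hω in
/-- The dualizing module has negative degree on a tail. -/
theorem deg_tail_neg (C : Set X) (hC : C ∈ irreducibleComponents (X : Type u))
    (ht : Curv2.IsRationalTail X C hC) :
    @Curv2.deg k _ (Scheme.IdealSheafData.vanishingIdeal ⟨C, isClosed_of_mem_irreducibleComponents C hC⟩).subscheme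
      ⟨(Scheme.IdealSheafData.vanishingIdeal ⟨C, isClosed_of_mem_irreducibleComponents C hC⟩).subschemeι ≫ (X ↘ (Spec (CommRingCat.of k)))⟩
      ((Scheme.Modules.pullback (Scheme.IdealSheafData.vanishingIdeal ⟨C, isClosed_of_mem_irreducibleComponents C hC⟩).subschemeι).obj
        (DCoh.dualizingMod (X ↘ (Spec (CommRingCat.of k))) h OY 1)) 1 < 0 := by
  obtain ⟨η, hη, -, hIC, hIX⟩ := component_data (k := k) hdim C hC
  obtain ⟨hr, hirr, hconn, hd1⟩ := irreducible_JJ k hdim hη
  haveI := hr
  haveI := hconn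
  obtain ⟨h2, hs⟩ := tail_numbers (k := k) hC ht hIC hIX
  rw [hIC, deg_eq_degS k hω, degS_omega hdim h OY hOY hω (Set.singleton_subset_iff.2 hη),
    h1_eq_zero_of_subsingleton hs]
  have hpos : 0 < Module.finrank k (Coh.HH X (ClSub.quotMod (JJ ({η} : Set X))) 0) :=
    finrank_pos_of_nonempty (k := k)
  simp only [meet]
  omega

include hdim hOY hω in
/-- The dualizing module has degree zero on a bridge. -/
theorem deg_bridge_zero (C : Set X) (hC : C ∈ irreducibleComponents (X : Type u))
    (hb : Curv2.IsRationalBridge k X C hC) :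
    @Curv2.deg k _ (Scheme.IdealSheafData.vanishingIdeal ⟨C, isClosed_of_mem_irreducibleComponents C hC⟩).subscheme
      ⟨(Scheme.IdealSheafData.vanishingIdeal ⟨C, isClosed_of_mem_irreducibleComponents C hC⟩).subschemeι ≫ (X ↘ (Spec (CommRingCat.of k)))⟩
      ((Scheme.Modules.pullback (Scheme.IdealSheafData.vanishingIdeal ⟨C, isClosed_of_mem_irreducibleComponents C hC⟩).subschemeι).obj
        (DCoh.dualizingMod (X ↘ (Spec (CommRingCat.of k))) h OY 1)) 1 = 0 := by
  obtain ⟨η, hη, -, hIC, hIX⟩ := component_data (k := k) hdim C hC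
  obtain ⟨h2, hs⟩ := bridge_numbers hC hb hIC hIX
  rw [hIC, deg_eq_degS k hω, degS_omega hdim h OY hOY hω (Set.singleton_subset_iff.2 hη),
    h1_eq_zero_of_subsingleton hs]
  simp only [meet]
  omega

variable (h0 : Module.finrank k (Coh.HH X (Coh.structureModule X) 0) = 1)
  (hnt : ∀ (C : Set X) (hC : C ∈ irreducibleComponents (X : Type u)), ¬ Curv2.IsRationalTail X C hC)

include hdim hOY hω h0 hnt in
/-- On a proper subcurve the degree is at least `h¹`. -/
theorem h1_le_degS {S : Set X} (hS : S ⊆ genericPoints (X : Type u)) (hne : S.Nonempty)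
    (hS' : S ≠ genericPoints (X : Type u)) [AlgebraicGeometry.IsReduced (JJ S).subscheme] [ConnectedSpace (JJ S).subscheme] :
    (Module.finrank k (Coh.HH X (ClSub.quotMod (JJ S)) 1) : ℤ) ≤
      degS k (DCoh.dualizingMod (X ↘ (Spec (CommRingCat.of k))) h OY 1) S := by
  have hδ : 0 < meet k S := Nat.pos_of_ne_zero fun hz => hS' (eq_gen_of_meet_zero hS hne hz)
  have ha := (le_meet (k := k) (JJ S) (JJ (compS S)) hδ).1
  rcases h1_zero_or_le (k := k) (JJ S) with h1 | h1
  · rw [h1, Nat.cast_zero]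
    refine degS_nonneg hdim.le hω (fun η hη => comp_nonneg hdim h OY hOY hω h0 hnt hη fun he => absurd ?_ hS') hS
    obtain ⟨x, hx⟩ := hne
    have hxη : x = η := he.ge (hS hx)
    subst hxη
    exact hS.antisymm (he ▸ Set.singleton_subset_iff.2 hx)
  · rw [degS_omega hdim h OY hOY hω hS]
    simp only [meet] at hδ ha ⊢
    omega

include hdim hOY hω h0 hnt in
theorem h1_le_deg (J : X.IdealSheafData) [AlgebraicGeometry.IsReduced J.subscheme] [ConnectedSpace J.subscheme]
    (hJ1 : topologicalKrullDim J.subscheme = 1) (hJne : J ≠ ⊥) :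
    (Module.finrank k (Coh.HH X (ClSub.quotMod J) 1) : ℤ) ≤
      @Curv2.deg k _ J.subscheme ⟨J.subschemeι ≫ (X ↘ (Spec (CommRingCat.of k)))⟩
        ((Scheme.Modules.pullback J.subschemeι).obj (DCoh.dualizingMod (X ↘ (Spec (CommRingCat.of k))) h OY 1)) 1 := by
  haveI := Euler.isNoetherian_of_proper (X := X) k
  obtain ⟨hJ, -⟩ := eq_JJ (k := k) hdim.le J hJ1
  have hS : genericPoints (X : Type u) ∩ J.support ⊆ genericPoints (X : Type u) := Set.inter_subset_left
  generalize genericPoints (X : Type u) ∩ J.support = S at hJ hS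
  subst hJ
  rw [deg_eq_degS k hω]
  refine h1_le_degS hdim h OY hOY hω h0 hnt hS ?_ fun he => hJne (he ▸ NodeSplit16.JJ_eq_bot)
  obtain ⟨y⟩ : Nonempty (JJ S).subscheme := ConnectedSpace.toNonempty
  have hy : (JJ S).subschemeι y ∈ closure S := (JJ S).range_subschemeι.le ⟨y, rfl⟩
  exact closure_nonempty_iff.1 ⟨_, hy⟩

include hdim hOY hω h0 hnt in
/-- Ampleness without tails and bridges. -/
theorem ample_omega (hnb : ∀ (C : Set X) (hC : C ∈ irreducibleComponents (X : Type u)), ¬ Curv2.IsRationalBridge k X C hC)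
    (hg : 2 ≤ Curv2.genus k X) :
    CohB1.IsAmple (DCoh.dualizingMod (X ↘ (Spec (CommRingCat.of k))) h OY 1) := by
  haveI := Euler.isNoetherian_of_proper (X := X) k
  rw [isAmple_iff_degS k hdim hω]
  intro η hη
  have hS : ({η} : Set X) ⊆ genericPoints (X : Type u) := Set.singleton_subset_iff.2 hη
  have hnn := comp_nonneg hdim h OY hOY hω h0 hnt hη fun _ => by omega
  by_contra hnp
  rcases Nat.eq_zero_or_pos (meet k ({η} : Set X)) with hz | hp
  · rw [eq_gen_of_meet_zero hS ⟨η, rfl⟩ hz, (degS_omega_gen hdim h OY hOY hω h0).1] at hnp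
    omega
  · rw [degS_omega hdim h OY hOY hω hS] at hnn hnp
    obtain ⟨hr, hirr, hconn, hd1⟩ := irreducible_JJ k hdim hη
    haveI := hr
    haveI := hconn
    have ha := (le_meet (k := k) (JJ {η}) (JJ (compS ({η} : Set X))) hp).1
    rcases h1_zero_or_le (k := k) (JJ ({η} : Set X)) with h1 | h1
    · obtain ⟨η', hη', hCe, hIC, hIX⟩ := component_data (k := k) hdim (closure ({η} : Set X)) hη
      refine hnb _ hη (isRationalBridge_of (k := k) (J := JJ {η}) (J' := JJ (compS {η})) _ hη rfl ?_ ?_ ?_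
        (subsingleton_of_h1_eq_zero h1))
      · rw [ker_opens_ι]
        exact vanishingIdeal_compl (k := k) hdim hS
      · obtain ⟨y⟩ := nonempty_of_finrank_pos (k := k) hp
        have := (Scheme.IdealSheafData.range_subschemeι _).le ⟨y, rfl⟩
        rw [Scheme.IdealSheafData.support_sup] at this
        exact ⟨_, this.2⟩
      · simp only [meet] at hnn hnp hp ha
        omega
    · simp only [meet] at hnn hnp hp ha
      omega

include hdim hOY hω h0 hnt in
/-- Powers `≥ 2` are globally generated in genus at least two. -/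
theorem globallyGenerated_omega (hg : 2 ≤ Curv2.genus k X) (m : ℕ) (hm : 2 ≤ m) :
    Curv2.IsGloballyGenerated (CohB1.tensorPow (DCoh.dualizingMod (X ↘ (Spec (CommRingCat.of k))) h OY 1) m) := by
  haveI := Euler.isNoetherian_of_proper (X := X) k
  refine SubCurve16.isGloballyGenerated k hdim (Ample.isInvertible_tensorPow hω m) fun J hJr hJc hJ1 => ?_
  haveI := hJr
  haveI := hJc
  rw [deg_restrict_tensorPow k hdim.le hω J m]
  have hgJ : (@Curv2.genus k _ J.subscheme ⟨J.subschemeι ≫ (X ↘ (Spec (CommRingCat.of k)))⟩) =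
      Module.finrank k (Coh.HH X (ClSub.quotMod J) 1) := by
    letI : J.subscheme.Over (Spec (CommRingCat.of k)) := ⟨J.subschemeι ≫ X ↘ Spec (CommRingCat.of k)⟩
    exact (finrank_quotMod_eq k J 1).symm
  rw [hgJ]
  have hm' : (2 : ℤ) ≤ (m : ℤ) := by exact_mod_cast hm
  by_cases hJ : J = ⊥
  · obtain ⟨hJe, -⟩ := eq_JJ (k := k) hdim.le J hJ1
    have hgen : J = JJ (genericPoints (X : Type u)) := hJ.trans NodeSplit16.JJ_eq_bot.symm
    subst hgen
    obtain ⟨hd, hh⟩ := degS_omega_gen hdim h OY hOY hω h0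
    rw [deg_eq_degS k hω, hd, hh]
    have : (2 : ℤ) ≤ (Curv2.genus k X : ℤ) := by exact_mod_cast hg
    nlinarith
  · have := h1_le_deg hdim h OY hOY hω h0 hnt J hJ1 hJ
    nlinarith [Int.natCast_nonneg (Module.finrank k (Coh.HH X (ClSub.quotMod J) 1))]

include hdim hOY hω h0 hnt in
/-- Genus one: the dualizing module is trivial. -/
theorem omega_trivial (hg : Curv2.genus k X = 1) :
    Nonempty (DCoh.dualizingMod (X ↘ (Spec (CommRingCat.of k))) h OY 1 ≅ Coh.structureModule X) := by
  haveI := Euler.isNoetherian_of_proper (X := X) k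
  set ω := DCoh.dualizingMod (X ↘ (Spec (CommRingCat.of k))) h OY 1 with hωdef
  have hnn : ∀ η ∈ genericPoints (X : Type u), 0 ≤ degS k ω {η} := fun η hη =>
    comp_nonneg hdim h OY hOY hω h0 hnt hη fun _ => hg.ge
  have hgen : degS k ω (genericPoints (X : Type u)) = 0 := by
    rw [(degS_omega_gen hdim h OY hOY hω h0).1, hg]; norm_num
  have hzero : ∀ η ∈ genericPoints (X : Type u), degS k ω {η} = 0 := fun η hη => by
    have h1 := degS_union k hdim.le hω subset_rfl (T := {η}) (Set.singleton_subset_iff.2 hη)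
    have h2 := degS_nonneg hdim.le hω hnn (S := genericPoints (X : Type u) \ {η}) Set.sdiff_subset
    have h3 := hnn η hη
    omega
  have hh : 0 < Module.finrank k (Coh.HH X ω 0) := by
    rw [hωdef, finrank_HH_zero_omega h OY hOY hdim.le]
    exact hg.ge
  haveI := Module.nontrivial_of_finrank_pos hh
  haveI : Nontrivial Γ(ω, ⊤) := (ProjCoh.H0top ω).toEquiv.symm.nontrivial
  obtain ⟨s₀, hs₀⟩ := exists_ne (0 : Γ(ω, ⊤))
  let s : Coh.structureModule X ⟶ ω := OX.ofTop s₀
  have hs : s ≠ 0 := fun h => hs₀ (by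
    have e := OX.ofTop_app_top (X := X) (N := ω) s₀
    rw [show OX.ofTop s₀ = (0 : Coh.structureModule X ⟶ ω) from h] at e
    exact e.symm)
  suffices htop : CohB1.genLocus ω s = ⊤ by
    haveI := RLpsi8.isIso_of_genLocus_eq_top hω s htop
    exact ⟨(asIso s).symm⟩
  have key : ∀ η ∈ genericPoints (X : Type u), η ∈ CohB1.genLocus ω s →
      closure ({η} : Set X) ⊆ CohB1.genLocus ω s := fun η hη hηG => by
    obtain ⟨hr, hirr, hconn, hd1⟩ := irreducible_JJ k hdim hη
    haveI := hr
    haveI := hirr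
    haveI : IsIntegral (JJ ({η} : Set X)).subscheme := isIntegral_of_irreducibleSpace_of_isReduced _
    letI : (JJ ({η} : Set X)).subscheme.Over (Spec (CommRingCat.of k)) :=
      ⟨(JJ ({η} : Set X)).subschemeι ≫ X ↘ Spec (CommRingCat.of k)⟩
    haveI : IsProper ((JJ ({η} : Set X)).subscheme ↘ Spec (CommRingCat.of k)) :=
      inferInstanceAs (IsProper ((JJ ({η} : Set X)).subschemeι ≫ X ↘ Spec (CommRingCat.of k)))
    have hL := Kleiman.isInv_pullback (JJ ({η} : Set X)).subschemeι hω
    let t := (OX.pullUnitIso (JJ ({η} : Set X)).subschemeι).symm.hom ≫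
      (Scheme.Modules.pullback (JJ ({η} : Set X)).subschemeι).map s
    have ht : CohB1.genLocus _ t = (JJ ({η} : Set X)).subschemeι ⁻¹ᵁ CohB1.genLocus ω s :=
      Ample.genLocus_pullback _ ω hω s _
    obtain ⟨y, hy⟩ := (JJ ({η} : Set X)).range_subschemeι.ge (subset_closure (Set.mem_singleton η))
    have hne : t ≠ 0 := ne_zero_of_mem_genLocus' hL t (x := y) (ht.ge (by
      show (JJ ({η} : Set X)).subschemeι y ∈ CohB1.genLocus ω s
      rw [hy]; exact hηG))
    haveI : IsIso t := (Euler.deg_of_section k hd1.le hL hne).2 (by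
      rw [deg_eq_degS k hω, hzero η hη])
    intro x hx
    obtain ⟨z, rfl⟩ := (JJ ({η} : Set X)).range_subschemeι.ge hx
    exact (ht.symm.trans (RLpsi8.genLocus_eq_top_of_isIso t)).ge (Opens.mem_top z)
  have hfin : (genericPoints (X : Type u)).Finite := genericPoints.finite NoetherianSpace.finite_irreducibleComponents
  have hG : (CohB1.genLocus ω s : Set X) =
      ⋃ η ∈ genericPoints (X : Type u) ∩ CohB1.genLocus ω s, closure ({η} : Set X) := by
    refine Set.Subset.antisymm (fun x hx => ?_) (Set.iUnion₂_subset fun η hη => key η hη.1 hη.2)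
    have hx' : x ∈ closure (genericPoints (X : Type u)) := by rw [genericPoints.closure]; trivial
    rw [← Set.biUnion_of_singleton (genericPoints (X : Type u)), Set.Finite.closure_biUnion hfin] at hx'
    obtain ⟨η, hη, hxη⟩ := Set.mem_iUnion₂.1 hx'
    exact Set.mem_iUnion₂.2 ⟨η, ⟨hη, (specializes_iff_mem_closure.2 hxη).mem_open (CohB1.genLocus ω s).2 hx⟩, hxη⟩
  have hclopen : IsClopen (CohB1.genLocus ω s : Set X) :=
    ⟨hG ▸ (hfin.inter_of_left _).isClosed_biUnion fun η _ => isClosed_closure, (CohB1.genLocus ω s).2⟩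
  rcases isClopen_iff.1 hclopen with he | he
  · exact absurd (SetLike.coe_injective (he.trans Opens.coe_bot.symm)) (genLocus_ne_bot' hω s hs)
  · exact SetLike.coe_injective (he.trans Opens.coe_top.symm)

end GrothLib.CurveSerre11
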