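import Groth.Agent.Lib.CurveSerre11.MarkedTwist
import Groth.Agent.Lib.CurveSerre11.TailsApp
import Groth.Agent.Lib.CurveSerre11.NodalMeet
import Groth.Agent.Lib.KSix19.ProjPush.Divisorial
import Groth.Agent.Lib.GrpSchField.SmoothRegular
import Groth.Agent.Lib.CMFree.Regular

/-!
# Line bundles on trees of rational curves
-/

set_option autoImplicit false
set_option backward.isDefEq.respectTransparency false
set_option linter.all false
set_option maxHeartbeats 1000000

universe u

open CategoryTheory CategoryTheory.Limits AlgebraicGeometry TopologicalSpace Opposite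
attribute [local instance] HasDerivedCategory.standard

noncomputable section

namespace GrothLib.CurveSerre11

open GrothLib.QCoh (stalkLin)
open GrothLib.Euler (tF)
open GrothLib.SubCurve16

variable {k : Type u} [Field k] {X : Scheme.{u}} [X.Over (Spec (CommRingCat.of k))]
  [IsProper (X ↘ Spec (CommRingCat.of k))] [AlgebraicGeometry.IsReduced X]

theorem degS_structure (S : Set X) : degS k (Coh.structureModule X) S = 0 := by
  rw [← deg_eq_degS k Euler.isInvertible_structure]
  letI : (JJ S).subscheme.Over (Spec (CommRingCat.of k)) := ⟨(JJ S).subschemeι ≫ X ↘ Spec (CommRingCat.of k)⟩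
  haveI : IsProper ((JJ S).subscheme ↘ Spec (CommRingCat.of k)) :=
    inferInstanceAs (IsProper ((JJ S).subschemeι ≫ X ↘ Spec (CommRingCat.of k)))
  refine (Euler.deg_of_iso k (OX.pullUnitIso (JJ S).subschemeι) 1).trans ?_
  simp [Curv2.deg]

variable [ConnectedSpace X] (hdim : topologicalKrullDim X = 1)

include hdim in
theorem degS_inv {L L' : X.Modules} (hL : PicF.IsInvertible L) (hL' : PicF.IsInvertible L')
    (e : CohB1.tensorMod L L' ≅ Coh.structureModule X) {S : Set X} (hS : S ⊆ genericPoints (X : Type u)) :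
    degS k L' S = - degS k L S := by
  have h := degS_tensor k hdim hL hL' hS
  rw [degS_of_iso k e (Ample.isInvertible_tensorMod hL hL') Euler.isInvertible_structure, degS_structure] at h
  linarith

variable [DCoh.HasRpush (X ↘ Spec (CommRingCat.of k))] (h : DCoh.RpushPreservesQCoh (X ↘ Spec (CommRingCat.of k)))
  [DCoh.HasShriek (X ↘ Spec (CommRingCat.of k)) h]
  (OY : DCoh.DQCoh (Spec (CommRingCat.of k)))
  (hOY : Nonempty (OY.obj ≅ DCoh.inD (Spec (CommRingCat.of k)) (Coh.structureModule (Spec (CommRingCat.of k)))))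
  (hω : PicF.IsInvertible (DCoh.dualizingMod (X ↘ Spec (CommRingCat.of k)) h OY 1))

omit [ConnectedSpace X] in
include hOY hω in
/-- Duality: no sections of `L` when `H¹(ω ⊗ L⁻¹) = 0`. -/
theorem subsingleton_H0_of_dual (hd : topologicalKrullDim X ≤ 1) {L M : X.Modules} (hL : PicF.IsInvertible L)
    (hM : PicF.IsInvertible M)
    (e : CohB1.tensorMod L M ≅ DCoh.dualizingMod (X ↘ Spec (CommRingCat.of k)) h OY 1)
    (h1 : Subsingleton (Coh.HH X M 1)) : Subsingleton (Coh.HH X L 0) := by
  haveI := Euler.isNoetherian_of_proper (X := X) k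
  haveI := (Euler.isCoh_of_isInvertible hM).1
  have h0 := (subsingleton_HH_one_iff h OY hOY hd (Euler.isCoh_of_isInvertible hM).1).1 h1
  suffices hs0 : ∀ s : Γ(L, ⊤), s = 0 by
    haveI : Subsingleton Γ(L, ⊤) := subsingleton_of_forall_eq 0 hs0
    exact (ProjCoh.H0top L).toEquiv.subsingleton
  intro s₀
  by_contra hne
  let s : Coh.structureModule X ⟶ L := OX.ofTop s₀
  have hs : s ≠ 0 := fun h => hne (by
    have e := OX.ofTop_app_top (X := X) (N := L) s₀
    rw [show OX.ofTop s₀ = (0 : Coh.structureModule X ⟶ L) from h] at e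
    exact e.symm)
  obtain ⟨x, hx⟩ := (TopologicalSpace.Opens.ne_bot_iff_nonempty _).1 (genLocus_ne_bot' hL s hs)
  let e' : (tF M).obj L ≅ DCoh.dualizingMod (X ↘ Spec (CommRingCat.of k)) h OY 1 := e
  have hz : (OX.tensorUnitLeftIso M).inv ≫ (tF M).map s ≫ e'.hom = 0 := h0 _
  have hz' : (tF M).map s = 0 := by
    rw [← cancel_mono e'.hom, zero_comp, ← cancel_epi (OX.tensorUnitLeftIso M).inv, comp_zero]
    exact hz
  have hsur := stalkLin_tF_surjective hM s (Snapper.stalk_bijective_of_mem_genLocus s hx).2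
  obtain ⟨f⟩ := nonempty_stalkEquiv hω x
  haveI : Nontrivial ((DCoh.dualizingMod (X ↘ Spec (CommRingCat.of k)) h OY 1).presheaf.stalk x) :=
    f.toEquiv.nontrivial
  obtain ⟨v, hv⟩ := exists_ne (0 : (DCoh.dualizingMod (X ↘ Spec (CommRingCat.of k)) h OY 1).presheaf.stalk x)
  obtain ⟨w, hw⟩ := QCoh.stalkLin_surjective e'.hom x v
  obtain ⟨a, rfl⟩ := hsur w
  rw [hz', stalkLin_zero, map_zero] at hw
  exact hv hw.symm

variable [IsAlgClosed k]

include hdim hOY hω in
/-- On a subcurve of a tree the dualizing degree is `-2 + δ`. -/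
theorem degS_omega_tree (hg : Subsingleton (Coh.HH X (Coh.structureModule X) 1))
    {S : Set X} (hS : S ⊆ genericPoints (X : Type u)) [AlgebraicGeometry.IsReduced (JJ S).subscheme]
    [ConnectedSpace (JJ S).subscheme] :
    Module.finrank k (Coh.HH X (ClSub.quotMod (JJ S)) 1) = 0 ∧
      degS k (DCoh.dualizingMod (X ↘ (Spec (CommRingCat.of k))) h OY 1) S = -2 + (meet k S : ℤ) := by
  have := Euler.isNoetherian_of_proper (X := X) k
  haveI := Euler.epi_toSubscheme (JJ S)
  haveI := subsingleton_H1_of_epi k hdim.le (ClSub.toSubscheme (JJ S))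
    (Euler.isCoh_of_isInvertible Euler.isInvertible_structure) (Snapper.isCoh_quotMod k (JJ S)) hg
  have h1 : Module.finrank k (Coh.HH X (ClSub.quotMod (JJ S)) 1) = 0 := Module.finrank_zero_of_subsingleton
  refine ⟨h1, ?_⟩
  rw [degS_omega hdim h OY hOY hω hS, h1, finrank_quot_eq_one k]
  push_cast
  ring

omit [IsAlgClosed k] [DCoh.HasRpush (X ↘ Spec (CommRingCat.of k))] in
include k hdim in
theorem ncard_meet_le {S : Set X} (hS : S ⊆ genericPoints (X : Type u)) :
    (closure S ∩ closure ((closure S)ᶜ)).ncard ≤ meet k S := by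
  obtain ⟨hfin, hd⟩ := discrete_meet (k := k) hdim hS
  haveI := hfin
  haveI := hd
  have he : ((JJ S ⊔ JJ (compS S)).support : Set X) = closure S ∩ closure ((closure S)ᶜ) := by
    rw [Scheme.IdealSheafData.support_sup, ← vanishingIdeal_compl (k := k) hdim hS]
    rfl
  rw [← he]
  refine ncard_support_le k _ ?_ ?_
  · rw [← Scheme.IdealSheafData.range_subschemeι]; exact Set.finite_range _
  · intro x hx
    obtain ⟨y, rfl⟩ := (Scheme.IdealSheafData.range_subschemeι _).ge hx
    rw [← Set.image_singleton]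
    exact (Scheme.IdealSheafData.subschemeι _).isClosedEmbedding.isClosedMap _ (isClosed_discrete _)

omit [DCoh.HasRpush (X ↘ Spec (CommRingCat.of k))] in
include hdim in
/-- On a nodal curve a subcurve meets the rest in at most the nodes. -/
theorem meet_le_nodes (hX : Curv2.AtWorstNodal k X) (hfinN : {x : X | Curv2.IsNode k X x}.Finite)
    {S : Set X} (hS : S ⊆ genericPoints (X : Type u))
    [AlgebraicGeometry.IsReduced (JJ S).subscheme] [ConnectedSpace (JJ S).subscheme] :
    meet k S ≤ {x : X | Curv2.IsNode k X x}.ncard := by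
  have := Euler.isNoetherian_of_proper (X := X) k
  obtain ⟨y⟩ : Nonempty (JJ S).subscheme := ConnectedSpace.toNonempty
  have hne : S.Nonempty := closure_nonempty_iff.1 ⟨_, (JJ S).range_subschemeι.le ⟨y, rfl⟩⟩
  have hc := vanishingIdeal_compl (k := k) hdim hS
  have hm : meet k S = Nat.card (((JJ S).support : Set X) ∩ closure (((JJ S).support : Set X)ᶜ) : Set X) := by
    rw [← finrank_meet hdim hX (JJ S) (dim_JJ hdim hS hne)]
    show Module.finrank k (Coh.HH X (ClSub.quotMod (JJ S ⊔ JJ (compS S))) 0) = _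
    rw [← hc]
    rfl
  rw [hm, Nat.card_coe_set_eq]
  refine Set.ncard_le_ncard (fun x hx => ?_) hfinN
  have hx' : x ∈ ((JJ S ⊔ JJ (compS S)).support : Set X) := by
    rw [Scheme.IdealSheafData.support_sup, ← hc]; exact hx
  have hng : ∀ η ∈ genericPoints (X : Type u), η ∉ ((JJ S ⊔ JJ (compS S)).support : Set X) := fun η hη h => by
    rw [Scheme.IdealSheafData.support_sup] at h
    exact notMem_support_compS hS (mem_of_mem_closure hS hη ((support_JJ S) ▸ h.1)) h.2
  obtain ⟨hfin, hcl⟩ := finite_of_notMem_genericPoints k hdim.le (JJ S ⊔ JJ (compS S)).support.isClosed hng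
  refine (hX x (hcl x hx')).resolve_left ?_
  rintro ⟨U, hxU, hU⟩
  haveI := GrpSchField.isRegularLocalRing_stalk_of_smooth (U.ι ≫ (X ↘ Spec (CommRingCat.of k))) (x := (⟨x, hxU⟩ : U))
    (by
      rw [← U.ι.isOpenEmbedding.injective.preimage_image {(⟨x, hxU⟩ : U)}, Set.image_singleton]
      exact (hcl x hx').preimage U.ι.continuous)
  haveI := CMFree.isDomain_of_isRegularLocalRing (U.toScheme.presheaf.stalk ⟨x, hxU⟩)
  haveI : IsDomain (X.presheaf.stalk x) :=
    MulEquiv.isDomain _ (U.stalkIso ⟨x, hxU⟩).commRingCatIsoToRingEquiv.symm.toMulEquiv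
  rw [Scheme.IdealSheafData.support_sup] at hx'
  have hfS := (genericPoints.finite (α := X) NoetherianSpace.finite_irreducibleComponents).subset hS
  have hfC := (genericPoints.finite (α := X) NoetherianSpace.finite_irreducibleComponents).subset (compS_subset S)
  have h1 : x ∈ ⋃ a ∈ S, closure ({a} : Set X) := by
    rw [← hfS.closure_biUnion, Set.biUnion_of_singleton]; exact hx'.1
  have h2 : x ∈ ⋃ a ∈ compS S, closure ({a} : Set X) := by
    rw [← hfC.closure_biUnion, Set.biUnion_of_singleton]; exact hx'.2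
  obtain ⟨a, ha, hxa⟩ := Set.mem_iUnion₂.1 h1
  obtain ⟨b, hb, hxb⟩ := Set.mem_iUnion₂.1 h2
  have hab := KSix19.ProjPush.genericPoint_unique (hS ha) hb.1 (specializes_iff_mem_closure.2 hxa)
    (specializes_iff_mem_closure.2 hxb)
  exact hb.2 (hab ▸ ha)

include hdim hOY hω in
/-- `h⁰ = 0` for degrees at most `k_E - 2` with one exception of `k_E - 1`. -/
theorem h0_vanish_tree (hg : Subsingleton (Coh.HH X (Coh.structureModule X) 1)) (L : X.Modules) (hL : PicF.IsInvertible L)
    (η₀ : X) (hη₀ : η₀ ∈ genericPoints (X : Type u))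
    (h₀ : degS k L {η₀} ≤ ((closure ({η₀} : Set X) ∩ closure (closure ({η₀} : Set X))ᶜ).ncard : ℤ) - 1)
    (hE : ∀ η ∈ genericPoints (X : Type u), η ≠ η₀ →
      degS k L {η} ≤ ((closure ({η} : Set X) ∩ closure (closure ({η} : Set X))ᶜ).ncard : ℤ) - 2) :
    Subsingleton (Coh.HH X L 0) := by
  have := Euler.isNoetherian_of_proper (X := X) k
  obtain ⟨L', hL', ⟨t'⟩⟩ := Kodaira.exists_inverse hL
  obtain ⟨t⟩ := isInverseOf_symm (X := X) ⟨t'⟩
  set ω := DCoh.dualizingMod (X ↘ (Spec (CommRingCat.of k))) h OY 1 with hωdef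
  have hM := Ample.isInvertible_tensorMod hL' hω
  have hone : ∀ η ∈ genericPoints (X : Type u),
      -2 + ((closure ({η} : Set X) ∩ closure (closure ({η} : Set X))ᶜ).ncard : ℤ) - degS k L {η} ≤
        degS k (CohB1.tensorMod L' ω) {η} := fun η hη => by
    have hS : ({η} : Set X) ⊆ genericPoints (X : Type u) := Set.singleton_subset_iff.2 hη
    obtain ⟨hr, hirr, hconn, hd1⟩ := irreducible_JJ k hdim hη
    haveI := hr
    haveI := hconn
    rw [degS_tensor k hdim hL' hω hS, degS_inv hdim hL hL' t hS, (degS_omega_tree hdim h OY hOY hω hg hS).2]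
    have := ncard_meet_le (k := k) hdim hS
    omega
  have hall : ∀ S ⊆ genericPoints (X : Type u), -1 ≤ degS k (CohB1.tensorMod L' ω) S := fun S hS => by
    have hnn : ∀ T ⊆ genericPoints (X : Type u), η₀ ∉ T → 0 ≤ degS k (CohB1.tensorMod L' ω) T := by
      intro T hT hnot
      have hfin : T.Finite := (genericPoints.finite NoetherianSpace.finite_irreducibleComponents).subset hT
      induction T, hfin using Set.Finite.induction_on with
      | empty => rw [degS_empty k hdim.le hM]
      | @insert η R hη hR ih =>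
        rw [degS_union k hdim.le hM hT (T := {η}) (Set.singleton_subset_iff.2 (Set.mem_insert η R)),
          Set.insert_sdiff_self_of_notMem hη]
        have h1 := hone η (hT (Set.mem_insert η R))
        have h2 := hE η (hT (Set.mem_insert η R)) fun he => hnot (he ▸ Set.mem_insert η R)
        have h3 := ih (fun x hx => hT (Set.mem_insert_of_mem η hx)) fun hx => hnot (Set.mem_insert_of_mem η hx)
        omega
    by_cases h' : η₀ ∈ S
    · rw [degS_union k hdim.le hM hS (T := {η₀}) (Set.singleton_subset_iff.2 h')]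
      have h1 := hnn (S \ {η₀}) (Set.sdiff_subset.trans hS) fun hx => hx.2 rfl
      have h2 := hone η₀ hη₀
      omega
    · exact le_trans (by norm_num) (hnn S hS h')
  have hH1 : Subsingleton (Coh.HH X (CohB1.tensorMod L' ω) 1) := by
    refine subsingleton_H1_of_deg k hdim hM fun J hJr hJc hJ1 => ?_
    haveI := hJr
    haveI := hJc
    obtain ⟨hJ, -⟩ := eq_JJ (k := k) hdim.le J hJ1
    have hS : genericPoints (X : Type u) ∩ J.support ⊆ genericPoints (X : Type u) := Set.inter_subset_left
    generalize genericPoints (X : Type u) ∩ J.support = S at hJ hS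
    subst hJ
    rw [deg_eq_degS k hM]
    have hgJ : (@Curv2.genus k _ (JJ S).subscheme ⟨(JJ S).subschemeι ≫ (X ↘ (Spec (CommRingCat.of k)))⟩) = 0 := by
      letI : (JJ S).subscheme.Over (Spec (CommRingCat.of k)) := ⟨(JJ S).subschemeι ≫ X ↘ Spec (CommRingCat.of k)⟩
      exact (finrank_quotMod_eq k (JJ S) 1).symm.trans (degS_omega_tree hdim h OY hOY hω hg hS).1
    rw [hgJ]
    have := hall S hS
    push_cast
    omega
  refine subsingleton_H0_of_dual h OY hOY hω hdim.le hL hM ?_ hH1
  exact (OX.tensorAssoc L L' ω).symm ≪≫ ((DCoh.tensorBi (X := X)).mapIso t).app ω ≪≫ OX.tensorUnitLeftIso ω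

include hdim hOY hω in
/-- Three or fewer nodes: the anticanonical bundle. -/
theorem antican_three_nodes (hX : Curv2.AtWorstNodal k X) (hg : Subsingleton (Coh.HH X (Coh.structureModule X) 1))
    (h3 : {x : X | Curv2.IsNode k X x}.encard ≤ 3)
    (ωd : X.Modules) (hωd : ClSub.IsInverseOf ωd (DCoh.dualizingMod (X ↘ Spec (CommRingCat.of k)) h OY 1)) :
    Subsingleton (Coh.HH X (CohB1.tensorPow (DCoh.dualizingMod (X ↘ Spec (CommRingCat.of k)) h OY 1) 2) 0) ∧
      Subsingleton (Coh.HH X ωd 1) ∧ Module.finrank k (Coh.HH X ωd 0) = 3 := by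
  have := Euler.isNoetherian_of_proper (X := X) k
  have hfinN : {x : X | Curv2.IsNode k X x}.Finite := Set.finite_of_encard_le_coe (k := 3) h3
  have hN3 : {x : X | Curv2.IsNode k X x}.ncard ≤ 3 := by
    rw [← hfinN.cast_ncard_eq] at h3; exact_mod_cast h3
  obtain ⟨e⟩ := isInverseOf_symm (X := X) hωd
  have hd := Seesaw26.isInvertible_of_tensor_iso e hω
  have hH1 : Subsingleton (Coh.HH X ωd 1) := by
    refine subsingleton_H1_of_deg k hdim hd fun J hJr hJc hJ1 => ?_
    haveI := hJr
    haveI := hJc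
    obtain ⟨hJ, -⟩ := eq_JJ (k := k) hdim.le J hJ1
    have hS : genericPoints (X : Type u) ∩ J.support ⊆ genericPoints (X : Type u) := Set.inter_subset_left
    generalize genericPoints (X : Type u) ∩ J.support = S at hJ hS
    subst hJ
    obtain ⟨hz, hdeg⟩ := degS_omega_tree hdim h OY hOY hω hg hS
    rw [deg_eq_degS k hd, degS_inv hdim hω hd e hS, hdeg]
    have hgJ : (@Curv2.genus k _ (JJ S).subscheme ⟨(JJ S).subschemeι ≫ (X ↘ (Spec (CommRingCat.of k)))⟩) = 0 := by
      letI : (JJ S).subscheme.Over (Spec (CommRingCat.of k)) := ⟨(JJ S).subschemeι ≫ X ↘ Spec (CommRingCat.of k)⟩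
      exact (finrank_quotMod_eq k (JJ S) 1).symm.trans hz
    rw [hgJ]
    have := meet_le_nodes hdim hX hfinN hS
    push_cast
    omega
  refine ⟨?_, hH1, ?_⟩
  · refine subsingleton_H0_of_dual h OY hOY hω hdim.le (Ample.isInvertible_tensorPow hω 2) hd ?_ hH1
    let ω := DCoh.dualizingMod (X ↘ Spec (CommRingCat.of k)) h OY 1
    let P := CohB1.tensorMod (Coh.structureModule X) ω
    let a₁ : CohB1.tensorMod (CohB1.tensorMod P ω) ωd ≅ CohB1.tensorMod P (CohB1.tensorMod ω ωd) :=
      OX.tensorAssoc P ω ωd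
    let a₂ : CohB1.tensorMod P (CohB1.tensorMod ω ωd) ≅ CohB1.tensorMod P (Coh.structureModule X) :=
      ((DCoh.tensorBi (X := X)).obj P).mapIso e
    let a₃ : CohB1.tensorMod P (Coh.structureModule X) ≅ P := Euler.tFUnitIso P
    let a₄ : P ≅ ω := OX.tensorUnitLeftIso ω
    exact a₁ ≪≫ a₂ ≪≫ a₃ ≪≫ a₄
  · haveI := (Euler.isCoh_of_isInvertible hd).1
    haveI := (Euler.isCoh_of_isInvertible (Euler.isInvertible_structure (X := X))).1
    have h1 := degS_inv (k := k) hdim hω hd e (subset_refl (genericPoints (X : Type u)))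
    have hh : Module.finrank k (Coh.HH X (Coh.structureModule X) 0) = 1 := ConnH0.finrank_H0_eq_one k
    have hg0 : Curv2.genus k X = 0 := Module.finrank_zero_of_subsingleton
    rw [(degS_omega_gen hdim h OY hOY hω hh).1, hg0, degS_univ k, Curv2.deg,
      Euler.euler_eq_sub k hdim.le, Euler.euler_eq_sub k hdim.le, hh] at h1
    rw [Module.finrank_zero_of_subsingleton (R := k) (M := Coh.HH X ωd 1),
      Module.finrank_zero_of_subsingleton (R := k) (M := Coh.HH X (Coh.structureModule X) 1)] at h1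
    push_cast at h1
    omega

end GrothLib.CurveSerre11
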