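import Groth.Agent.Lib.CurveSerre11.RatTree
import Groth.Agent.Lib.CurveSerre11.MarkedTwist
import Groth.Agent.Lib.Semiample.Criterion

/-!
# Semistable pointed trees and global generation
-/

set_option autoImplicit false
set_option backward.isDefEq.respectTransparency false
set_option linter.all false
set_option maxHeartbeats 1000000

universe u

open CategoryTheory CategoryTheory.Limits AlgebraicGeometry TopologicalSpace Opposite
attribute [local instance] HasDerivedCategory.standard

noncomputable section

namespace GrothLib.CurveSerre11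

open GrothLib.SubCurve16

variable {k : Type u} [Field k] [IsAlgClosed k] {X : Scheme.{u}} [X.Over (Spec (CommRingCat.of k))]
  [IsProper (X ↘ Spec (CommRingCat.of k))] [AlgebraicGeometry.IsReduced X] [ConnectedSpace X]

omit [IsAlgClosed k] in
/-- A globally generated invertible module has nonnegative degree on every component. -/
theorem degS_nonneg_of_gg (hdim : topologicalKrullDim X = 1) {M : X.Modules} (hM : PicF.IsInvertible M)
    (hgg : Curv2.IsGloballyGenerated M) {η : X} (hη : η ∈ genericPoints (X : Type u)) :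
    0 ≤ degS k M {η} := by
  have := Euler.isNoetherian_of_proper (X := X) k
  obtain ⟨c, ⟨e⟩⟩ := Ample.exists_cocycle hM
  obtain ⟨n, a, ha⟩ := Semiample.exists_sections c (Ample.isGloballyGenerated_of_iso e hgg)
  obtain ⟨i, hi⟩ := Opens.mem_iSup.1 (ha.ge (Opens.mem_top η))
  let s : Coh.structureModule X ⟶ M := c.hom (a i) ≫ e.inv
  have hs : η ∈ CohB1.genLocus M s := by
    show η ∈ CohB1.genLocus M (c.hom (a i) ≫ e.symm.hom)
    rw [Ample.genLocus_comp_iso e.symm (c.hom (a i)), c.genLocus_hom]
    exact hi
  obtain ⟨hr, hirr, hconn, hd1⟩ := irreducible_JJ k hdim hη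
  haveI := hr
  haveI := hirr
  haveI : IsIntegral (JJ ({η} : Set X)).subscheme := isIntegral_of_irreducibleSpace_of_isReduced _
  letI : (JJ ({η} : Set X)).subscheme.Over (Spec (CommRingCat.of k)) :=
    ⟨(JJ ({η} : Set X)).subschemeι ≫ X ↘ Spec (CommRingCat.of k)⟩
  haveI : IsProper ((JJ ({η} : Set X)).subscheme ↘ Spec (CommRingCat.of k)) :=
    inferInstanceAs (IsProper ((JJ ({η} : Set X)).subschemeι ≫ X ↘ Spec (CommRingCat.of k)))
  have hL := Kleiman.isInv_pullback (JJ ({η} : Set X)).subschemeι hM
  let t := (OX.pullUnitIso (JJ ({η} : Set X)).subschemeι).symm.hom ≫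
    (Scheme.Modules.pullback (JJ ({η} : Set X)).subschemeι).map s
  have ht : CohB1.genLocus _ t = (JJ ({η} : Set X)).subschemeι ⁻¹ᵁ CohB1.genLocus M s :=
    Ample.genLocus_pullback _ M hM s _
  obtain ⟨y, hy⟩ := (JJ ({η} : Set X)).range_subschemeι.ge (subset_closure (Set.mem_singleton η))
  have hne : t ≠ 0 := ne_zero_of_mem_genLocus' hL t (x := y) (ht.ge (by
    show (JJ ({η} : Set X)).subschemeι y ∈ CohB1.genLocus M s
    rw [hy]; exact hs))
  have := (Euler.deg_of_section k hd1.le hL hne).1
  rw [deg_eq_degS k hM] at this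
  exact this

/-- Semistability is global generation of the twisted dualizing module. -/
theorem semistable_iff_gg (hdim : topologicalKrullDim X = 1) (hX : Curv2.AtWorstNodal k X)
    (hg : Subsingleton (Coh.HH X (Coh.structureModule X) 1))
    [DCoh.HasRpush (X ↘ Spec (CommRingCat.of k))] (h : DCoh.RpushPreservesQCoh (X ↘ Spec (CommRingCat.of k)))
    [DCoh.HasShriek (X ↘ Spec (CommRingCat.of k)) h]
    (OY : DCoh.DQCoh (Spec (CommRingCat.of k)))
    (hOY : Nonempty (OY.obj ≅ DCoh.inD (Spec (CommRingCat.of k)) (Coh.structureModule (Spec (CommRingCat.of k)))))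
    (n : ℕ) (p : Fin n → X) (hpinj : Function.Injective p) (hpcl : ∀ i, IsClosed ({p i} : Set X)) (hn : 3 ≤ n)
    (N : X.Modules) (hN : ClSub.IsInverseOf N (ClSub.idealMod
      (Scheme.IdealSheafData.vanishingIdeal ⟨⋃ i, ({p i} : Set X), isClosed_iUnion_of_finite hpcl⟩)))
    (M : X.Modules) (hM : Nonempty (M ≅ CohB1.tensorMod (DCoh.dualizingMod (X ↘ (Spec (CommRingCat.of k))) h OY 1) N)) :
    (∀ (E : Set X), E ∈ irreducibleComponents (X : Type u) → 2 ≤ (E ∩ closure Eᶜ).ncard + (p ⁻¹' E).ncard) ↔
      Curv2.IsGloballyGenerated M := by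
  have := Euler.isNoetherian_of_proper (X := X) k
  obtain ⟨-, hω⟩ := nodal_data h OY hdim hOY (equidim_of_connected (k := k) hdim) hX
  have hgen0 : Curv2.genus k X = 0 := Module.finrank_zero_of_subsingleton
  constructor
  · intro hst
    obtain ⟨hMi, hd⟩ := two_mul_h1_le k hdim h OY hOY hX n p hpinj hpcl
      (fun E hE _ => hst E hE) (by rw [hgen0]; push_cast; omega) N hN M hM 2 le_rfl
    refine SubCurve16.isGloballyGenerated k hdim hMi fun J hJr hJc hJ1 => ?_
    have h2 := hd J hJr hJc hJ1
    rw [deg_restrict_tensorPow k hdim.le hMi J 2] at h2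
    have hgJ : @Curv2.genus k _ J.subscheme ⟨J.subschemeι ≫ (X ↘ (Spec (CommRingCat.of k)))⟩ = 0 := by
      haveI := hJr
      haveI := hJc
      obtain ⟨hJ, -⟩ := eq_JJ (k := k) hdim.le J hJ1
      have hS : genericPoints (X : Type u) ∩ J.support ⊆ genericPoints (X : Type u) := Set.inter_subset_left
      generalize genericPoints (X : Type u) ∩ J.support = S at hJ hS
      subst hJ
      letI : (JJ S).subscheme.Over (Spec (CommRingCat.of k)) := ⟨(JJ S).subschemeι ≫ X ↘ Spec (CommRingCat.of k)⟩
      exact (finrank_quotMod_eq k (JJ S) 1).symm.trans (degS_omega_tree hdim h OY hOY hω hg hS).1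
    rw [hgJ] at h2 ⊢
    push_cast at h2 ⊢
    omega
  · intro hgg E hE
    obtain ⟨η, hη, rfl, -, -⟩ := component_data (k := k) hdim E hE
    have hNi := isInvertible_of_inverse_idealMod k hN
    obtain ⟨eM⟩ := hM
    have hωN := Ample.isInvertible_tensorMod hω hNi
    have hMi : PicF.IsInvertible M := RelProjK.isInvertible_of_iso eM hωN
    have hS : ({η} : Set X) ⊆ genericPoints (X : Type u) := Set.singleton_subset_iff.2 hη
    obtain ⟨hr, hirr, hconn, hd1⟩ := irreducible_JJ k hdim hη
    haveI := hr
    haveI := hconn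
    have hd := degS_nonneg_of_gg (k := k) hdim hMi hgg hη
    rw [degS_of_iso k eM hMi hωN, degS_tensor k hdim hω hNi hS, (degS_omega_tree hdim h OY hOY hω hg hS).2] at hd
    have hδ : meet k ({η} : Set X) = (closure ({η} : Set X) ∩ closure (closure ({η} : Set X))ᶜ).ncard := by
      rw [← Nat.card_coe_set_eq, show (closure ({η} : Set X) ∩ closure (closure ({η} : Set X))ᶜ : Set X) =
        ((JJ ({η} : Set X)).support : Set X) ∩ closure (((JJ ({η} : Set X)).support : Set X)ᶜ) from rfl,
        ← finrank_meet hdim hX (JJ {η}) hd1]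
      show Module.finrank k (Coh.HH X (ClSub.quotMod (JJ {η} ⊔ JJ (compS {η}))) 0) = _
      rw [← vanishingIdeal_compl (k := k) hdim hS]
      rfl
    set D := Scheme.IdealSheafData.vanishingIdeal (X := X) ⟨⋃ i, ({p i} : Set X), isClosed_iUnion_of_finite hpcl⟩
      with hDdef
    have hDs : (D.support : Set X) = Set.range p := Set.iUnion_singleton_eq_range p
    have hDg : ∀ η ∈ genericPoints (X : Type u), η ∉ (D.support : Set X) := fun η hη hh => by
      rw [hDs] at hh
      obtain ⟨i, rfl⟩ := hh
      exact smooth_notMem_genericPoints k hdim (hpcl i) hη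
    obtain ⟨hfin, hcl⟩ := finite_of_notMem_genericPoints k hdim.le D.support.isClosed hDg
    have hlow : ∀ S ⊆ genericPoints (X : Type u), ((p ⁻¹' closure S).ncard : ℤ) ≤ degS k N S := fun S hS => by
      rw [degS_inverse k hdim.le hN hDg hS]
      have hsub : ((D ⊔ JJ S).support : Set X) ⊆ D.support := by
        rw [Scheme.IdealSheafData.support_sup]; exact Set.inter_subset_left
      have h1 := ncard_support_le k (D ⊔ JJ S) (hfin.subset hsub) fun x hx => hcl x (hsub hx)
      have h2 : (p ⁻¹' closure S).ncard ≤ ((D ⊔ JJ S).support : Set X).ncard := by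
        rw [← Set.ncard_image_of_injective _ hpinj]
        refine Set.ncard_le_ncard ?_ (hfin.subset hsub)
        rintro _ ⟨i, hi, rfl⟩
        rw [Scheme.IdealSheafData.support_sup]
        exact ⟨hDs.ge ⟨i, rfl⟩, hi⟩
      omega
    have htot : degS k N (genericPoints (X : Type u)) = (n : ℤ) := by
      rw [degS_inverse k hdim.le hN hDg subset_rfl, NodeSplit16.JJ_eq_bot, sup_bot_eq, finrank_quotMod_eq k]
      letI : D.subscheme.Over (Spec (CommRingCat.of k)) := ⟨D.subschemeι ≫ X ↘ Spec (CommRingCat.of k)⟩
      haveI : IsProper (D.subscheme ↘ Spec (CommRingCat.of k)) :=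
        inferInstanceAs (IsProper (D.subschemeι ≫ X ↘ Spec (CommRingCat.of k)))
      haveI : AlgebraicGeometry.IsReduced D.subscheme := RedSub.isReduced_subscheme_vanishingIdeal _
      haveI : Finite D.subscheme := by
        haveI := hfin.to_subtype
        exact Finite.of_injective (fun y => (⟨D.subschemeι y, D.range_subschemeι.le ⟨y, rfl⟩⟩ : (D.support : Set X)))
          fun a b hab => D.subschemeι.isClosedEmbedding.injective (congrArg Subtype.val hab)
      haveI : T1Space D.subscheme := ⟨fun y => by
        rw [← D.subschemeι.isClosedEmbedding.injective.preimage_image {y}, Set.image_singleton]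
        exact (hcl _ (D.range_subschemeι.le ⟨y, rfl⟩)).preimage D.subschemeι.continuous⟩
      rw [finrank_H0_discrete, ← Nat.card_range_of_injective D.subschemeι.isClosedEmbedding.injective,
        D.range_subschemeι, hDs, Nat.card_range_of_injective hpinj, Nat.card_fin]
    have hsum := degS_union k hdim.le hNi (subset_refl (genericPoints (X : Type u))) (T := {η}) hS
    have h1 := hlow {η} hS
    have h2 := hlow (genericPoints (X : Type u) \ {η}) Set.sdiff_subset
    have hcov : n ≤ (p ⁻¹' closure ({η} : Set X)).ncard + (p ⁻¹' closure (genericPoints (X : Type u) \ {η})).ncard := by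
      refine le_trans (le_of_eq ?_) (Set.ncard_union_le _ _)
      rw [← Set.preimage_union, ← closure_union, Set.union_sdiff_cancel hS, genericPoints.closure,
        Set.preimage_univ, Set.ncard_univ, Nat.card_fin]
    rw [htot] at hsum
    omega

end GrothLib.CurveSerre11
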