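import Groth.Agent.Lib.CurveSerre11.End
import Groth.Agent.Lib.FibPd.SuppDimLocal

/-!
# Endomorphisms of the dualizing module when there are only constant functions; first cohomology of `ω`
-/

set_option autoImplicit false
set_option linter.all false
set_option backward.isDefEq.respectTransparency false
set_option maxHeartbeats 1000000

universe u

open CategoryTheory CategoryTheory.Limits AlgebraicGeometry Opposite TopologicalSpace
attribute [local instance] HasDerivedCategory.standard

noncomputable section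

namespace GrothLib.CurveSerre11

variable {k : Type u} [Field k] {X : Scheme.{u}}

theorem smulMod_comp_eq {M N : X.Modules} (φ : M ⟶ N) (a : Coh.Γtop X) :
    φ ≫ Euler.smulMod N a = Euler.smulMod M a ≫ φ :=
  Scheme.Modules.hom_ext _ _ fun V => AddCommGrpCat.ext fun m => (φ.app_smul _ m).symm

theorem smulMod_mul (M : X.Modules) (a b : Coh.Γtop X) :
    Euler.smulMod M a ≫ Euler.smulMod M b = Euler.smulMod M (b * a) :=
  Scheme.Modules.hom_ext _ _ fun V => AddCommGrpCat.ext fun m => by
    refine Eq.trans ?_ (Euler.smulMod_app M (b * a) V m).symm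
    show _ = (X.presheaf.map (homOfLE (le_top : V ≤ ⊤)).op (b * a)) • m
    rw [map_mul, mul_smul]
    rfl

theorem smulMod_one (M : X.Modules) : Euler.smulMod M 1 = 𝟙 M :=
  Scheme.Modules.hom_ext _ _ fun V => AddCommGrpCat.ext fun m => by
    refine (Euler.smulMod_app M 1 V m).trans ?_
    show (X.presheaf.map (homOfLE (le_top : V ≤ ⊤)).op 1) • m = m
    rw [map_one, one_smul]

theorem smulMod_zero (M : X.Modules) : Euler.smulMod M 0 = 0 :=
  Scheme.Modules.hom_ext _ _ fun V => AddCommGrpCat.ext fun m => by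
    refine (Euler.smulMod_app M 0 V m).trans ?_
    show (X.presheaf.map (homOfLE (le_top : V ≤ ⊤)).op 0) • m = _
    rw [map_zero, zero_smul]
    rfl

variable [X.Over (Spec (CommRingCat.of k))] [IsProper (X ↘ Spec (CommRingCat.of k))]
  [DCoh.HasRpush (X ↘ Spec (CommRingCat.of k))] (h : DCoh.RpushPreservesQCoh (X ↘ Spec (CommRingCat.of k)))
  [DCoh.HasShriek (X ↘ Spec (CommRingCat.of k)) h]
  (OY : DCoh.DQCoh (Spec (CommRingCat.of k)))
  (hOY : Nonempty (OY.obj ≅ DCoh.inD (Spec (CommRingCat.of k)) (Coh.structureModule (Spec (CommRingCat.of k)))))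

local notation "π" => (X ↘ Spec (CommRingCat.of k))
local notation "ω" => DCoh.dualizingMod π h OY 1

include hOY in
theorem id_omega_ne_zero (hdim : topologicalKrullDim X = 1) : 𝟙 ω ≠ 0 := by
  haveI : ∀ R : CommRingCat.{u}, PreservesFiniteLimits (tilde.functor R) := fun R => inferInstance
  intro h0
  have hs := ShriekBridge22.support_adjoint π h (DCoh.shriekAdj π h) OY hOY 1 (by exact_mod_cast hdim)
  obtain ⟨Z, hZ, hZd⟩ : ∃ Z ∈ irreducibleComponents X, topologicalKrullDim Z = 1 := by
    haveI := Euler.isNoetherian_of_proper (X := X) k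
    by_contra hne
    push Not at hne
    have hall : ∀ Z ∈ irreducibleComponents (X : Type u), topologicalKrullDim Z ≤ 0 := fun Z hZ =>
      Order.le_of_lt_succ (lt_of_le_of_ne ((topologicalKrullDim_subspace_le X Z).trans hdim.le) (hne Z hZ))
    have := FibPd.topologicalKrullDim_le_of_components hall
    rw [hdim] at this
    exact absurd this (by decide)
  obtain ⟨x, hx⟩ := hZ.1.1
  have hx' : x ∈ ⋃ Z ∈ {Z : Set X | Z ∈ irreducibleComponents X ∧ topologicalKrullDim ↥Z = ((1 : ℕ) : WithBot ℕ∞)}, Z :=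
    Set.mem_iUnion₂.2 ⟨Z, ⟨hZ, by exact_mod_cast hZd⟩, hx⟩
  rw [← hs] at hx'
  haveI : Nontrivial ((ω).presheaf.stalk x) := hx'
  refine not_subsingleton ((ω).presheaf.stalk x) (subsingleton_of_forall_eq 0 fun v => ?_)
  obtain ⟨V, hV, m, rfl⟩ := TopCat.Presheaf.exists_germ_eq (ω).presheaf v
  rw [show m = (𝟙 ω : ω ⟶ ω).app V m from rfl, h0]
  exact map_zero _

include hOY in
/-- With only constant functions every endomorphism of `ω` is a scalar. -/
theorem exists_eq_scalar (hdim : topologicalKrullDim X ≤ 1)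
    (h0 : Module.finrank k (Coh.HH X (Coh.structureModule X) 0) = 1) (φ : ω ⟶ ω) :
    ∃ c : k, φ = Euler.smulMod ω (Coh.toGlobal π c) := by
  obtain ⟨a, rfl⟩ := exists_eq_smulMod h OY hOY hdim φ
  let e := ProjCoh.H0top (Coh.structureModule X)
  let v := e.symm (show Γ(Coh.structureModule X, ⊤) from (1 : Γ(X, ⊤)))
  by_cases hv : v = 0
  · have h1 : (show Γ(Coh.structureModule X, ⊤) from (1 : Γ(X, ⊤))) = 0 := by
      have := congrArg e hv
      rwa [e.apply_symm_apply, map_zero] at this
    refine ⟨0, ?_⟩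
    have h2 : (1 : Γ(X, ⊤)) = 0 := h1
    congr 1
    show (show Γ(X, ⊤) from a) = _
    rw [← mul_one (show Γ(X, ⊤) from a), h2, mul_zero, map_zero]
  · obtain ⟨c, hc⟩ := (finrank_eq_one_iff_of_nonzero' v hv).1 h0 (e.symm (show Γ(Coh.structureModule X, ⊤) from a))
    refine ⟨c, ?_⟩
    congr 1
    have h3 := congrArg e hc
    rw [ProjCoh.H0top_smul, e.apply_symm_apply, e.apply_symm_apply] at h3
    have h4 : (show Γ(X, ⊤) from Coh.toGlobal π c) * (1 : Γ(X, ⊤)) = (show Γ(X, ⊤) from a) := h3
    rw [mul_one] at h4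
    exact h4.symm

end GrothLib.CurveSerre11
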