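import Groth.Agent.Lib.CurveSerre11.GorOmega
import Groth.Agent.Lib.CurveSerre11.Balanced
import Groth.Agent.Lib.CurveSerre11.Scalar
import Groth.Agent.Lib.ConnH0.Basic

/-!
# Rational tails and bridges over an arbitrary field
-/

set_option autoImplicit false
set_option backward.isDefEq.respectTransparency false
set_option linter.all false
set_option maxHeartbeats 1000000

universe u

open CategoryTheory CategoryTheory.Limits AlgebraicGeometry TopologicalSpace Opposite
attribute [local instance] HasDerivedCategory.standard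

noncomputable section

namespace GrothLib.CurveSerre11

open GrothLib.SubCurve16

variable (k : Type u) [Field k]

theorem hhMap_smul_scalar {Y : Scheme.{u}} [Y.Over (Spec (CommRingCat.of k))] (M : Y.Modules) (c : k) (n : ℕ)
    (x : Coh.HH Y M n) :
    Cohom.hhMap k (Euler.smulMod M (Coh.toGlobal (Y ↘ Spec (CommRingCat.of k)) c)) n x = c • x := rfl

/-- Global functions on a connected reduced proper scheme form a field. -/
theorem isField_Γ {Y : Scheme.{u}} [Y.Over (Spec (CommRingCat.of k))] [IsProper (Y ↘ Spec (CommRingCat.of k))]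
    [AlgebraicGeometry.IsReduced Y] [ConnectedSpace Y] : IsField Γ(Y, ⊤) := by
  letI : Algebra k Γ(Y, ⊤) := (Coh.toGlobal (Y ↘ Spec (CommRingCat.of k))).toAlgebra
  let e : Coh.HH Y (Coh.structureModule Y) 0 ≃ₗ[k] Γ(Y, ⊤) :=
    { ProjCoh.H0top (Coh.structureModule Y) with
      map_smul' := fun a h => (ProjCoh.H0top_smul (Coh.structureModule Y) a h).trans
        (Algebra.smul_def (R := k) (A := Γ(Y, ⊤)) a (ProjCoh.H0top (Coh.structureModule Y) h)).symm }
  haveI := Euler.finiteDimensional_HH k (Euler.isCoh_of_isInvertible (Euler.isInvertible_structure (X := Y))) 0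
  haveI : Module.Finite k Γ(Y, ⊤) := Module.Finite.equiv e
  haveI : Nonempty (⊤ : Y.Opens) := ⟨⟨Classical.arbitrary Y, trivial⟩⟩
  haveI : IsArtinianRing Γ(Y, ⊤) := IsArtinianRing.of_finite k _
  haveI : Nontrivial Γ(Y, ⊤) := inferInstance
  haveI : Subsingleton (MaximalSpectrum Γ(Y, ⊤)) := by
    classical
    refine ⟨fun I I' => ?_⟩
    by_contra hne
    let E := IsArtinianRing.equivPi Γ(Y, ⊤)
    let f : ∀ J : MaximalSpectrum Γ(Y, ⊤), Γ(Y, ⊤) ⧸ J.asIdeal := Pi.single I 1
    have hf : f * f = f := by
      funext J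
      by_cases hJ : J = I
      · subst hJ; simp [f]
      · simp [f, hJ]
    rcases ConnH0.eq_zero_or_one_of_idempotent (X := Y) (E.symm f) (by rw [← map_mul, hf]) with h | h
    · rw [map_eq_zero_iff _ E.symm.injective] at h
      have := congrFun h I
      simp [f] at this
    · rw [← map_one E.symm, E.symm.injective.eq_iff] at h
      have := congrFun h I'
      simp [f, Ne.symm hne] at this
  haveI : IsDomain Γ(Y, ⊤) := by
    obtain ⟨I₀, hI₀⟩ := Ideal.exists_maximal Γ(Y, ⊤)
    letI : Unique (MaximalSpectrum Γ(Y, ⊤)) := uniqueOfSubsingleton ⟨I₀, hI₀⟩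
    let E := (IsArtinianRing.equivPi Γ(Y, ⊤)).toRingEquiv.trans
      (RingEquiv.piUnique fun J : MaximalSpectrum Γ(Y, ⊤) => Γ(Y, ⊤) ⧸ J.asIdeal)
    exact MulEquiv.isDomain _ E.toMulEquiv
  exact IsArtinianRing.isField_of_isDomain _

/-- Nonzero cohomology has at least the dimension of the field of global functions. -/
theorem le_finrank_of_nontrivial {Y : Scheme.{u}} [Y.Over (Spec (CommRingCat.of k))]
    [IsProper (Y ↘ Spec (CommRingCat.of k))] [AlgebraicGeometry.IsReduced Y] [ConnectedSpace Y]
    {M : Y.Modules} (hM : Coh.IsCoh M) (n : ℕ) [Nontrivial (Coh.HH Y M n)] :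
    Module.finrank k (Coh.HH Y (Coh.structureModule Y) 0) ≤ Module.finrank k (Coh.HH Y M n) := by
  obtain ⟨x, hx⟩ := exists_ne (0 : Coh.HH Y M n)
  haveI := Euler.finiteDimensional_HH k hM n
  let e := ProjCoh.H0top (Coh.structureModule Y)
  let f : Coh.HH Y (Coh.structureModule Y) 0 →ₗ[k] Coh.HH Y M n :=
    { toFun := fun r => Cohom.hhMap k (Euler.smulMod M (show Γ(Y, ⊤) from e r)) n x
      map_add' := fun a b => by
        rw [← CurveMult.hhMap_add']
        refine congrArg (fun φ => Cohom.hhMap k φ n x) ?_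
        refine Scheme.Modules.hom_ext _ _ fun V => AddCommGrpCat.ext fun m => ?_
        refine (Euler.smulMod_app M _ V m).trans ?_
        refine Eq.trans ?_ (congrArg₂ (· + ·) (Euler.smulMod_app M _ V m).symm (Euler.smulMod_app M _ V m).symm)
        show (Y.presheaf.map (homOfLE (le_top : V ≤ ⊤)).op (show Γ(Y, ⊤) from e (a + b))) • m = _
        rw [show (show Γ(Y, ⊤) from e (a + b)) = (show Γ(Y, ⊤) from e a) + (show Γ(Y, ⊤) from e b) from map_add e a b,
          map_add, add_smul]
      map_smul' := fun c a => by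
        rw [RingHom.id_apply, show (show Γ(Y, ⊤) from e (c • a)) =
          (show Γ(Y, ⊤) from Coh.toGlobal (Y ↘ Spec (CommRingCat.of k)) c) * (show Γ(Y, ⊤) from e a) from ProjCoh.H0top_smul _ c a]
        erw [← smulMod_mul]
        rw [Euler.hhMap_comp]
        exact hhMap_smul_scalar k M c n _ }
  refine LinearMap.finrank_le_finrank_of_injective (f := f) ((injective_iff_map_eq_zero f).2 fun r hr => ?_)
  by_contra h0
  obtain ⟨b, hb⟩ := (isField_Γ k (Y := Y)).mul_inv_cancel (a := (show Γ(Y, ⊤) from e r))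
    (fun h => h0 (e.injective (h.trans (map_zero e).symm)))
  refine hx ?_
  have h1 : Cohom.hhMap k (Euler.smulMod M (show Γ(Y, ⊤) from e r) ≫ Euler.smulMod M b) n x = 0 := by
    rw [Euler.hhMap_comp]
    exact (congrArg _ hr).trans (map_zero _)
  rw [smulMod_mul] at h1
  rw [show (b * (show Γ(Y, ⊤) from e r) : Coh.Γtop Y) = (1 : Coh.Γtop Y) from (mul_comm b _).trans hb, smulMod_one] at h1
  exact (Euler.hhMap_id (A := k) M n x).symm.trans h1

variable {k}

/-- The linear identification of `H⁰(O)` with the global functions, as a bare equivalence. -/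
theorem finrank_H0_le_of_ringHom {Y D : Scheme.{u}} [Y.Over (Spec (CommRingCat.of k))]
    [D.Over (Spec (CommRingCat.of k))] [IsProper (Y ↘ Spec (CommRingCat.of k))]
    [IsProper (D ↘ Spec (CommRingCat.of k))] [AlgebraicGeometry.IsReduced Y] [ConnectedSpace Y] [Nonempty D]
    (ι : D ⟶ Y) (hι : ι ≫ (Y ↘ Spec (CommRingCat.of k)) = D ↘ Spec (CommRingCat.of k)) :
    Module.finrank k (Coh.HH Y (Coh.structureModule Y) 0) ≤ Module.finrank k (Coh.HH D (Coh.structureModule D) 0) ∧
      (Module.finrank k (Coh.HH D (Coh.structureModule D) 0) ≤ Module.finrank k (Coh.HH Y (Coh.structureModule Y) 0) ↔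
        Function.Bijective ι.appTop) := by
  haveI : Nonempty (⊤ : D.Opens) := ⟨⟨Classical.arbitrary D, trivial⟩⟩
  haveI : Nontrivial Γ(D, ⊤) := inferInstance
  letI : Field Γ(Y, ⊤) := (isField_Γ k (Y := Y)).toField
  have hinj : Function.Injective ι.appTop.hom := RingHom.injective _
  let eY := ProjCoh.H0top (Coh.structureModule Y)
  let eD := ProjCoh.H0top (Coh.structureModule D)
  haveI := Euler.finiteDimensional_HH k (Euler.isCoh_of_isInvertible (Euler.isInvertible_structure (X := D))) 0
  haveI := Euler.finiteDimensional_HH k (Euler.isCoh_of_isInvertible (Euler.isInvertible_structure (X := Y))) 0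
  let g : Coh.HH Y (Coh.structureModule Y) 0 →ₗ[k] Coh.HH D (Coh.structureModule D) 0 :=
    { toFun := fun r => eD.symm (show Γ(Coh.structureModule D, ⊤) from ι.appTop (show Γ(Y, ⊤) from eY r))
      map_add' := fun a b => by
        rw [← map_add eD.symm]
        refine congrArg eD.symm ?_
        show ι.appTop.hom (show Γ(Y, ⊤) from eY (a + b)) = _
        rw [show (show Γ(Y, ⊤) from eY (a + b)) = (show Γ(Y, ⊤) from eY a) + (show Γ(Y, ⊤) from eY b) from map_add eY a b,
          map_add]
      map_smul' := fun c a => by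
        apply eD.injective
        refine ((eD.apply_symm_apply _).trans ?_).trans (ProjCoh.H0top_smul _ c _).symm
        refine Eq.trans ?_ (congrArg (fun z => _ • z) (eD.apply_symm_apply _).symm)
        rw [show (show Γ(Y, ⊤) from eY (c • a)) =
            (show Γ(Y, ⊤) from Coh.toGlobal (Y ↘ Spec (CommRingCat.of k)) c) * (show Γ(Y, ⊤) from eY a) from ProjCoh.H0top_smul _ c a]
        show ι.appTop.hom (_ * _) = (show Γ(D, ⊤) from Coh.toGlobal (D ↘ Spec (CommRingCat.of k)) c) * ι.appTop.hom _
        rw [map_mul]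
        congr 1
        rw [← hι]
        rfl }
  have hg : Function.Injective g := fun a b h => eY.injective (hinj (eD.symm.injective h))
  refine ⟨LinearMap.finrank_le_finrank_of_injective hg, fun hle => ⟨hinj, fun t => ?_⟩, fun hb => ?_⟩
  · obtain ⟨r, hr⟩ := ((LinearMap.injective_iff_surjective_of_finrank_eq_finrank
      (le_antisymm (LinearMap.finrank_le_finrank_of_injective hg) hle)).1 hg)
      (eD.symm (show Γ(Coh.structureModule D, ⊤) from t))
    exact ⟨_, eD.symm.injective hr⟩
  · refine LinearMap.finrank_le_finrank_of_surjective (f := g) fun z => ?_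
    obtain ⟨r, hr⟩ := hb.2 (show Γ(D, ⊤) from eD z)
    refine ⟨eY.symm (show Γ(Coh.structureModule Y, ⊤) from r), eD.injective ?_⟩
    show eD (eD.symm _) = _
    rw [AddEquiv.apply_symm_apply, AddEquiv.apply_symm_apply]
    exact hr

/-- A finite discrete scheme whose functions form a field is one reduced point. -/
theorem point_of_isField {D : Scheme.{u}} [DiscreteTopology D] (h : IsField Γ(D, ⊤)) :
    Subsingleton D ∧ AlgebraicGeometry.IsReduced D := by
  have hsub : Subsingleton D := ⟨fun a b => by
    by_contra hne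
    obtain ⟨t, h1, h0⟩ := exists_indicator (A := ({a} : Set D)) ⟨isClosed_discrete _, isOpen_discrete _⟩
    obtain ⟨s, hs⟩ := h.mul_inv_cancel (a := t) (fun ht => by
      have := h1 a rfl
      rw [ht, map_zero] at this
      exact zero_ne_one this)
    have := congrArg (D.presheaf.germ ⊤ b trivial) hs
    rw [map_mul, map_one, h0 b (fun e => hne (Set.mem_singleton_iff.1 e).symm), zero_mul] at this
    exact zero_ne_one this⟩
  refine ⟨hsub, ⟨fun U => ?_⟩⟩
  by_cases hU : (U : Set D).Nonempty
  · obtain rfl : U = ⊤ := TopologicalSpace.Opens.ext (Set.eq_univ_of_forall fun y => by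
      obtain ⟨z, hz⟩ := hU
      rwa [hsub.elim y z])
    letI := h.toField
    infer_instance
  · obtain rfl : U = ⊥ := TopologicalSpace.Opens.ext (Set.not_nonempty_iff_eq_empty.1 hU)
    infer_instance

variable {X : Scheme.{u}} [X.Over (Spec (CommRingCat.of k))] [IsProper (X ↘ Spec (CommRingCat.of k))]
  [AlgebraicGeometry.IsReduced X]

/-- The closure of the complement, as the kernel of the open immersion. -/
theorem ker_opens_ι (U : X.Opens) :
    U.ι.ker = Scheme.IdealSheafData.vanishingIdeal (X := X) ⟨closure (U : Set X), isClosed_closure⟩ := by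
  rw [SchImage.ker_eq_vanishingIdeal]
  congr 1
  apply Closeds.ext
  show closure (Set.range U.ι) = closure (U : Set X)
  rw [Scheme.Opens.range_ι]

include k in
theorem discrete_meet [ConnectedSpace X] (hdim : topologicalKrullDim X = 1) {S : Set X} (hS : S ⊆ genericPoints (X : Type u)) :
    Finite (JJ S ⊔ JJ (compS S)).subscheme ∧ DiscreteTopology (JJ S ⊔ JJ (compS S)).subscheme := by
  have := Euler.isNoetherian_of_proper (X := X) k
  have hng : ∀ η ∈ genericPoints (X : Type u), η ∉ ((JJ S ⊔ JJ (compS S)).support : Set X) := fun η hη h => by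
    rw [Scheme.IdealSheafData.support_sup] at h
    exact notMem_support_compS hS (mem_of_mem_closure hS hη ((support_JJ S) ▸ h.1)) h.2
  obtain ⟨hfin, hcl⟩ := finite_of_notMem_genericPoints k hdim.le (JJ S ⊔ JJ (compS S)).support.isClosed hng
  let ι := (JJ S ⊔ JJ (compS S)).subschemeι
  haveI : Finite (JJ S ⊔ JJ (compS S)).subscheme := by
    haveI := hfin.to_subtype
    exact Finite.of_injective (fun y => (⟨ι y, (Scheme.IdealSheafData.range_subschemeι _).le ⟨y, rfl⟩⟩ :
      ((JJ S ⊔ JJ (compS S)).support : Set X))) fun a b hab => ι.isClosedEmbedding.injective (congrArg Subtype.val hab)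
  haveI : T1Space (JJ S ⊔ JJ (compS S)).subscheme := ⟨fun y => by
    rw [← ι.isClosedEmbedding.injective.preimage_image {y}, Set.image_singleton]
    exact (hcl _ ((Scheme.IdealSheafData.range_subschemeι _).le ⟨y, rfl⟩)).preimage ι.continuous⟩
  exact ⟨inferInstance, inferInstance⟩

/-- The field of functions of a subcurve bounds its meeting with the rest. -/
theorem le_meet (J J' : X.IdealSheafData) [AlgebraicGeometry.IsReduced J.subscheme] [ConnectedSpace J.subscheme]
    (h : 0 < Module.finrank k (Coh.HH X (ClSub.quotMod (J ⊔ J')) 0)) :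
    Module.finrank k (Coh.HH X (ClSub.quotMod J) 0) ≤ Module.finrank k (Coh.HH X (ClSub.quotMod (J ⊔ J')) 0) ∧
      (Module.finrank k (Coh.HH X (ClSub.quotMod (J ⊔ J')) 0) ≤ Module.finrank k (Coh.HH X (ClSub.quotMod J) 0) ↔
        Function.Bijective (Scheme.IdealSheafData.inclusion (le_sup_left : J ≤ J ⊔ J')).appTop) := by
  have := Euler.isNoetherian_of_proper (X := X) k
  letI : J.subscheme.Over (Spec (CommRingCat.of k)) := ⟨J.subschemeι ≫ X ↘ Spec (CommRingCat.of k)⟩
  haveI : IsProper (J.subscheme ↘ Spec (CommRingCat.of k)) :=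
    inferInstanceAs (IsProper (J.subschemeι ≫ X ↘ Spec (CommRingCat.of k)))
  letI : (J ⊔ J').subscheme.Over (Spec (CommRingCat.of k)) := ⟨(J ⊔ J').subschemeι ≫ X ↘ Spec (CommRingCat.of k)⟩
  haveI : IsProper ((J ⊔ J').subscheme ↘ Spec (CommRingCat.of k)) :=
    inferInstanceAs (IsProper ((J ⊔ J').subschemeι ≫ X ↘ Spec (CommRingCat.of k)))
  haveI : Nonempty (J ⊔ J').subscheme := by
    by_contra hn
    haveI : IsEmpty (J ⊔ J').subscheme := not_nonempty_iff.1 hn
    have h0 : Subsingleton Γ((J ⊔ J').subscheme, ⊤) :=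
      ⟨fun a b => TopCat.Presheaf.section_ext (C := CommRingCat.{u}) (X := (J ⊔ J').subscheme.carrier)
        (J ⊔ J').subscheme.sheaf ⊤ a b fun z _ => isEmptyElim z⟩
    haveI : Subsingleton Γ(Coh.structureModule (J ⊔ J').subscheme, ⊤) := h0
    haveI := (ProjCoh.H0top (Coh.structureModule (J ⊔ J').subscheme)).toEquiv.subsingleton
    rw [finrank_quotMod_eq k, Module.finrank_zero_of_subsingleton] at h
    omega
  rw [finrank_quotMod_eq k, finrank_quotMod_eq k]
  exact finrank_H0_le_of_ringHom (Scheme.IdealSheafData.inclusion le_sup_left)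
    (show Scheme.IdealSheafData.inclusion le_sup_left ≫ J.subschemeι ≫ _ = (J ⊔ J').subschemeι ≫ _ by
      rw [← Category.assoc, Scheme.IdealSheafData.inclusion_subschemeι])

theorem h1_zero_or_le (J : X.IdealSheafData) [AlgebraicGeometry.IsReduced J.subscheme] [ConnectedSpace J.subscheme] :
    Module.finrank k (Coh.HH X (ClSub.quotMod J) 1) = 0 ∨
      Module.finrank k (Coh.HH X (ClSub.quotMod J) 0) ≤ Module.finrank k (Coh.HH X (ClSub.quotMod J) 1) := by
  letI : J.subscheme.Over (Spec (CommRingCat.of k)) := ⟨J.subschemeι ≫ X ↘ Spec (CommRingCat.of k)⟩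
  haveI : IsProper (J.subscheme ↘ Spec (CommRingCat.of k)) :=
    inferInstanceAs (IsProper (J.subschemeι ≫ X ↘ Spec (CommRingCat.of k)))
  rw [finrank_quotMod_eq k J 1, finrank_quotMod_eq k J 0]
  rcases subsingleton_or_nontrivial (Coh.HH J.subscheme (Coh.structureModule J.subscheme) 1) with h | h
  · exact Or.inl Module.finrank_zero_of_subsingleton
  · exact Or.inr (le_finrank_of_nontrivial k (Euler.isCoh_of_isInvertible Euler.isInvertible_structure) 1)

end GrothLib.CurveSerre11
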