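import Groth.Agent.Lib.CurveSerre11.Tails
import Groth.Agent.Lib.NodeSplit16.Chain

/-!
# The dualizing module on curves without rational tails
-/

set_option autoImplicit false
set_option backward.isDefEq.respectTransparency false
set_option linter.all false
set_option maxHeartbeats 1000000

universe u

open CategoryTheory CategoryTheory.Limits AlgebraicGeometry TopologicalSpace Opposite
attribute [local instance] HasDerivedCategory.standard

noncomputable section

namespace GrothLib.CurveSerre11

open GrothLib.QCoh (stalkLin)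
open GrothLib.Euler (tF)
open GrothLib.SubCurve16

variable {k : Type u} [Field k] {X : Scheme.{u}} [X.Over (Spec (CommRingCat.of k))]
  [IsProper (X ↘ Spec (CommRingCat.of k))] [AlgebraicGeometry.IsReduced X]

/-- `h⁰` of the meeting of a union of components with the rest. -/
abbrev meet (k : Type u) [Field k] [X.Over (Spec (CommRingCat.of k))] (S : Set X) : ℕ :=
  Module.finrank k (Coh.HH X (ClSub.quotMod (JJ S ⊔ JJ (compS S))) 0)

theorem dvd_meet (J J' : X.IdealSheafData) [AlgebraicGeometry.IsReduced J.subscheme] [ConnectedSpace J.subscheme] :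
    Module.finrank k (Coh.HH X (ClSub.quotMod J) 0) ∣ Module.finrank k (Coh.HH X (ClSub.quotMod (J ⊔ J')) 0) := by
  letI : J.subscheme.Over (Spec (CommRingCat.of k)) := ⟨J.subschemeι ≫ X ↘ Spec (CommRingCat.of k)⟩
  haveI : IsProper (J.subscheme ↘ Spec (CommRingCat.of k)) :=
    inferInstanceAs (IsProper (J.subschemeι ≫ X ↘ Spec (CommRingCat.of k)))
  letI : (J ⊔ J').subscheme.Over (Spec (CommRingCat.of k)) := ⟨(J ⊔ J').subschemeι ≫ X ↘ Spec (CommRingCat.of k)⟩
  rw [finrank_quotMod_eq k, finrank_quotMod_eq k]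
  let i := Scheme.IdealSheafData.inclusion (le_sup_left : J ≤ J ⊔ J')
  have hi : i ≫ (J.subscheme ↘ Spec (CommRingCat.of k)) = (J ⊔ J').subscheme ↘ Spec (CommRingCat.of k) :=
    show i ≫ J.subschemeι ≫ _ = (J ⊔ J').subschemeι ≫ _ by
      rw [← Category.assoc, Scheme.IdealSheafData.inclusion_subschemeι]
  letI : Field Γ(J.subscheme, ⊤) := (isField_Γ k (Y := J.subscheme)).toField
  letI : Algebra k Γ(J.subscheme, ⊤) := (Coh.toGlobal (J.subscheme ↘ Spec (CommRingCat.of k))).toAlgebra
  letI : Algebra k Γ((J ⊔ J').subscheme, ⊤) := (Coh.toGlobal ((J ⊔ J').subscheme ↘ Spec (CommRingCat.of k))).toAlgebra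
  letI : Algebra Γ(J.subscheme, ⊤) Γ((J ⊔ J').subscheme, ⊤) := i.appTop.hom.toAlgebra
  haveI : IsScalarTower k Γ(J.subscheme, ⊤) Γ((J ⊔ J').subscheme, ⊤) := IsScalarTower.of_algebraMap_eq fun c => by
    show Coh.toGlobal ((J ⊔ J').subscheme ↘ Spec (CommRingCat.of k)) c = i.appTop.hom (Coh.toGlobal (J.subscheme ↘ Spec (CommRingCat.of k)) c)
    rw [← hi]
    rfl
  let e1 : Coh.HH J.subscheme (Coh.structureModule J.subscheme) 0 ≃ₗ[k] Γ(J.subscheme, ⊤) :=
    { ProjCoh.H0top (Coh.structureModule J.subscheme) with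
      map_smul' := fun a h => (ProjCoh.H0top_smul (Coh.structureModule J.subscheme) a h).trans
        (Algebra.smul_def (R := k) (A := Γ(J.subscheme, ⊤)) a (ProjCoh.H0top (Coh.structureModule J.subscheme) h)).symm }
  let e2 : Coh.HH (J ⊔ J').subscheme (Coh.structureModule (J ⊔ J').subscheme) 0 ≃ₗ[k] Γ((J ⊔ J').subscheme, ⊤) :=
    { ProjCoh.H0top (Coh.structureModule (J ⊔ J').subscheme) with
      map_smul' := fun a h => (ProjCoh.H0top_smul (Coh.structureModule (J ⊔ J').subscheme) a h).trans
        (Algebra.smul_def (R := k) (A := Γ((J ⊔ J').subscheme, ⊤)) a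
          (ProjCoh.H0top (Coh.structureModule (J ⊔ J').subscheme) h)).symm }
  rw [e1.finrank_eq, e2.finrank_eq]
  exact ⟨_, (Module.finrank_mul_finrank k Γ(J.subscheme, ⊤) Γ((J ⊔ J').subscheme, ⊤)).symm⟩

theorem two_mul_le_meet {J J' : X.IdealSheafData} [AlgebraicGeometry.IsReduced J.subscheme] [ConnectedSpace J.subscheme]
    (h : Module.finrank k (Coh.HH X (ClSub.quotMod J) 0) < Module.finrank k (Coh.HH X (ClSub.quotMod (J ⊔ J')) 0)) :
    2 * Module.finrank k (Coh.HH X (ClSub.quotMod J) 0) ≤ Module.finrank k (Coh.HH X (ClSub.quotMod (J ⊔ J')) 0) := by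
  obtain ⟨m, hm⟩ := dvd_meet (k := k) J J'
  rw [hm] at h ⊢
  rcases m with _ | _ | m
  · simp at h
  · simp at h
  · nlinarith

theorem nonempty_of_finrank_pos {J : X.IdealSheafData}
    (h : 0 < Module.finrank k (Coh.HH X (ClSub.quotMod J) 0)) : Nonempty J.subscheme := by
  by_contra hn
  haveI : IsEmpty J.subscheme := not_nonempty_iff.1 hn
  haveI h0 : Subsingleton Γ(J.subscheme, ⊤) :=
    ⟨fun a b => TopCat.Presheaf.section_ext (C := CommRingCat.{u}) (X := J.subscheme.carrier)
      J.subscheme.sheaf ⊤ a b fun z _ => isEmptyElim z⟩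
  haveI : Subsingleton Γ(Coh.structureModule J.subscheme, ⊤) := h0
  letI : J.subscheme.Over (Spec (CommRingCat.of k)) := ⟨J.subschemeι ≫ X ↘ Spec (CommRingCat.of k)⟩
  haveI := (ProjCoh.H0top (Coh.structureModule J.subscheme)).toEquiv.subsingleton
  rw [finrank_quotMod_eq k, Module.finrank_zero_of_subsingleton] at h
  omega

omit [AlgebraicGeometry.IsReduced X] in
include k in
theorem finrank_pos_of_nonempty {J : X.IdealSheafData} [Nonempty J.subscheme] :
    0 < Module.finrank k (Coh.HH X (ClSub.quotMod J) 0) := by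
  letI : J.subscheme.Over (Spec (CommRingCat.of k)) := ⟨J.subschemeι ≫ X ↘ Spec (CommRingCat.of k)⟩
  haveI : IsProper (J.subscheme ↘ Spec (CommRingCat.of k)) :=
    inferInstanceAs (IsProper (J.subschemeι ≫ X ↘ Spec (CommRingCat.of k)))
  rw [finrank_quotMod_eq k]
  exact finrank_H0_pos k

theorem eq_gen_of_meet_zero [ConnectedSpace X] {S : Set X} (hS : S ⊆ genericPoints (X : Type u)) (hne : S.Nonempty)
    (h0 : meet k S = 0) : S = genericPoints (X : Type u) := by
  have := Euler.isNoetherian_of_proper (X := X) k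
  have hdisj : ∀ x, x ∈ closure S → x ∉ closure (compS S) := fun x hx hx' => by
    have : x ∈ ((JJ S ⊔ JJ (compS S)).support : Set X) := by
      rw [Scheme.IdealSheafData.support_sup]; exact ⟨hx, hx'⟩
    rw [← Scheme.IdealSheafData.range_subschemeι] at this
    haveI : Nonempty (JJ S ⊔ JJ (compS S)).subscheme := ⟨this.choose⟩
    exact (finrank_pos_of_nonempty (k := k) (J := JJ S ⊔ JJ (compS S))).ne' h0
  have hcl : IsClopen (closure S) := by
    refine ⟨isClosed_closure, ?_⟩
    have : closure S = (closure (compS S))ᶜ := Set.Subset.antisymm hdisj fun x hx => by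
      have hx' : x ∈ closure (genericPoints (X : Type u)) := by rw [genericPoints.closure]; trivial
      rw [← Set.union_sdiff_cancel hS, closure_union] at hx'
      exact hx'.resolve_right hx
    rw [this]
    exact isClosed_closure.isOpen_compl
  have huniv := (isClopen_iff.1 hcl).resolve_left fun he => hne.closure.ne_empty he
  refine hS.antisymm fun η hη => ?_
  by_contra hn
  exact hdisj η (huniv ▸ Set.mem_univ η) (subset_closure ⟨hη, hn⟩)

include k in
theorem vanishingIdeal_compl [ConnectedSpace X] (hdim : topologicalKrullDim X = 1) {S : Set X}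
    (hS : S ⊆ genericPoints (X : Type u)) :
    Scheme.IdealSheafData.vanishingIdeal (X := X) ⟨closure ((closure S)ᶜ), isClosed_closure⟩ = JJ (compS S) := by
  have := Euler.isNoetherian_of_proper (X := X) k
  refine congrArg _ (Closeds.ext (Set.Subset.antisymm (closure_minimal (fun x hx => ?_) isClosed_closure)
    (closure_mono fun η hη h => hη.2 (mem_of_mem_closure hS hη.1 h))))
  have hx' : x ∈ closure (genericPoints (X : Type u)) := by rw [genericPoints.closure]; trivial
  rw [← Set.union_sdiff_cancel hS, closure_union] at hx'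
  exact hx'.resolve_left hx

include k in
theorem component_data [ConnectedSpace X] (hdim : topologicalKrullDim X = 1) (C : Set X)
    (hC : C ∈ irreducibleComponents (X : Type u)) :
    ∃ η ∈ genericPoints (X : Type u), closure ({η} : Set X) = C ∧
      Scheme.IdealSheafData.vanishingIdeal ⟨C, isClosed_of_mem_irreducibleComponents C hC⟩ = JJ {η} ∧
      (Scheme.Opens.ι (⟨Cᶜ, (isClosed_of_mem_irreducibleComponents C hC).isOpen_compl⟩ : X.Opens)).ker =
        JJ (compS ({η} : Set X)) := by
  have := Euler.isNoetherian_of_proper (X := X) k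
  obtain ⟨η, rfl⟩ : ∃ η : X, closure ({η} : Set X) = C :=
    ⟨hC.1.genericPoint, hC.1.genericPoint_closure_eq.trans (isClosed_of_mem_irreducibleComponents C hC).closure_eq⟩
  refine ⟨η, hC, rfl, rfl, ?_⟩
  rw [ker_opens_ι, ← vanishingIdeal_compl (k := k) hdim (Set.singleton_subset_iff.2 hC)]
  rfl

omit [AlgebraicGeometry.IsReduced X] in
theorem isRationalTail_of (C : Set X) (hC : C ∈ irreducibleComponents (X : Type u)) {J : X.IdealSheafData}
    (e : (Scheme.Opens.ι (⟨Cᶜ, (isClosed_of_mem_irreducibleComponents C hC).isOpen_compl⟩ : X.Opens)).ker = J)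
    (hh : (J.support : Set X).Nonempty ∧
      Nonempty (Scheme.IdealSheafData.vanishingIdeal ⟨C, isClosed_of_mem_irreducibleComponents C hC⟩ ⊔ J).subscheme ∧
      Subsingleton (Scheme.IdealSheafData.vanishingIdeal ⟨C, isClosed_of_mem_irreducibleComponents C hC⟩ ⊔ J).subscheme ∧
      AlgebraicGeometry.IsReduced (Scheme.IdealSheafData.vanishingIdeal ⟨C, isClosed_of_mem_irreducibleComponents C hC⟩ ⊔ J).subscheme ∧
      (∀ c : (Scheme.IdealSheafData.vanishingIdeal ⟨C, isClosed_of_mem_irreducibleComponents C hC⟩ ⊔ J).subscheme,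
        Function.Bijective
          ((Scheme.IdealSheafData.vanishingIdeal ⟨C, isClosed_of_mem_irreducibleComponents C hC⟩).subscheme.evaluation ⊤
            ((Scheme.IdealSheafData.inclusion (le_sup_left :
              Scheme.IdealSheafData.vanishingIdeal ⟨C, isClosed_of_mem_irreducibleComponents C hC⟩ ≤
              Scheme.IdealSheafData.vanishingIdeal ⟨C, isClosed_of_mem_irreducibleComponents C hC⟩ ⊔ J)).base c) trivial)) ∧
      Subsingleton (Coh.HH (Scheme.IdealSheafData.vanishingIdeal ⟨C, isClosed_of_mem_irreducibleComponents C hC⟩).subscheme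
        (Coh.structureModule _) 1)) :
    Curv2.IsRationalTail X C hC := by
  subst e
  exact hh

/-- Conversely: equality with the field of functions makes a tail. -/
theorem tail_conds [ConnectedSpace X] (hdim : topologicalKrullDim X = 1) {η : X}
    (hη : η ∈ genericPoints (X : Type u))
    (h1 : Module.finrank k (Coh.HH X (ClSub.quotMod (JJ ({η} : Set X))) 1) = 0)
    (hpos : 0 < meet k ({η} : Set X))
    (hle : meet k ({η} : Set X) ≤ Module.finrank k (Coh.HH X (ClSub.quotMod (JJ ({η} : Set X))) 0)) :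
    ((JJ (compS ({η} : Set X))).support : Set X).Nonempty ∧
      Nonempty (JJ {η} ⊔ JJ (compS ({η} : Set X))).subscheme ∧
      Subsingleton (JJ {η} ⊔ JJ (compS ({η} : Set X))).subscheme ∧
      AlgebraicGeometry.IsReduced (JJ {η} ⊔ JJ (compS ({η} : Set X))).subscheme ∧
      (∀ c : (JJ {η} ⊔ JJ (compS ({η} : Set X))).subscheme, Function.Bijective
        ((JJ {η}).subscheme.evaluation ⊤ ((Scheme.IdealSheafData.inclusion
          (le_sup_left : JJ {η} ≤ JJ {η} ⊔ JJ (compS ({η} : Set X)))).base c) trivial)) ∧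
      Subsingleton (Coh.HH (JJ {η}).subscheme (Coh.structureModule (JJ {η}).subscheme) 1) := by
  have := Euler.isNoetherian_of_proper (X := X) k
  obtain ⟨hr, hirr, hconn, hd1⟩ := irreducible_JJ k hdim hη
  haveI := hr
  haveI := hconn
  haveI hn : Nonempty (JJ {η} ⊔ JJ (compS ({η} : Set X))).subscheme := nonempty_of_finrank_pos hpos
  let i := Scheme.IdealSheafData.inclusion (le_sup_left : JJ {η} ≤ JJ {η} ⊔ JJ (compS ({η} : Set X)))
  have hφ : Function.Bijective i.appTop := (le_meet (k := k) (JJ {η}) (JJ (compS ({η} : Set X))) hpos).2.1 hle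
  letI : (JJ {η}).subscheme.Over (Spec (CommRingCat.of k)) := ⟨(JJ {η}).subschemeι ≫ X ↘ Spec (CommRingCat.of k)⟩
  haveI : IsProper ((JJ {η}).subscheme ↘ Spec (CommRingCat.of k)) :=
    inferInstanceAs (IsProper ((JJ {η}).subschemeι ≫ X ↘ Spec (CommRingCat.of k)))
  have hF := isField_Γ k (Y := (JJ {η}).subscheme)
  have hFD : IsField Γ((JJ {η} ⊔ JJ (compS ({η} : Set X))).subscheme, ⊤) :=
    (RingEquiv.ofBijective i.appTop.hom hφ).symm.toMulEquiv.isField hF
  haveI := (discrete_meet (k := k) hdim (Set.singleton_subset_iff.2 hη)).2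
  obtain ⟨hsub, hred⟩ := point_of_isField hFD
  refine ⟨?_, hn, hsub, hred, fun c => ?_, ?_⟩
  · obtain ⟨y⟩ := hn
    have := (Scheme.IdealSheafData.range_subschemeι _).le ⟨y, rfl⟩
    rw [Scheme.IdealSheafData.support_sup] at this
    exact ⟨_, this.2⟩
  · letI := hF.toField
    refine ⟨RingHom.injective ((JJ {η}).subscheme.evaluation ⊤ (i.base c) trivial).hom, fun v => ?_⟩
    obtain ⟨s, hs⟩ := Scheme.residue_surjective _ c (i.residueFieldMap c v)
    obtain ⟨U, hU, t, rfl⟩ := TopCat.Presheaf.exists_germ_eq (JJ {η} ⊔ JJ (compS ({η} : Set X))).subscheme.presheaf s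
    obtain rfl : U = ⊤ := TopologicalSpace.Opens.ext (Set.eq_univ_of_forall fun y => by rwa [hsub.elim y c])
    obtain ⟨r, rfl⟩ := hφ.2 t
    refine ⟨r, (i.residueFieldMap c).hom.injective ?_⟩
    exact (Scheme.evaluation_naturality_apply i c (V := ⊤) trivial r).trans hs
  · haveI := Euler.finiteDimensional_HH k
      (Euler.isCoh_of_isInvertible (Euler.isInvertible_structure (X := (JJ {η}).subscheme))) 1
    rw [finrank_quotMod_eq k] at h1
    exact Module.finrank_zero_iff.1 h1

/-- A rational tail meets the rest in a scheme of degree `h⁰(O_C)`. -/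
theorem meet_le_of_tail [ConnectedSpace X] {J J' : X.IdealSheafData} [AlgebraicGeometry.IsReduced J.subscheme]
    [ConnectedSpace J.subscheme] (hn : Nonempty (J ⊔ J').subscheme) (hsub : Subsingleton (J ⊔ J').subscheme)
    (hred : AlgebraicGeometry.IsReduced (J ⊔ J').subscheme)
    (hev : ∀ c : (J ⊔ J').subscheme, Function.Bijective
      (J.subscheme.evaluation ⊤ ((Scheme.IdealSheafData.inclusion (le_sup_left : J ≤ J ⊔ J')).base c) trivial)) :
    Module.finrank k (Coh.HH X (ClSub.quotMod (J ⊔ J')) 0) ≤ Module.finrank k (Coh.HH X (ClSub.quotMod J) 0) := by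
  have := Euler.isNoetherian_of_proper (X := X) k
  haveI := hn
  haveI := hred
  let i := Scheme.IdealSheafData.inclusion (le_sup_left : J ≤ J ⊔ J')
  haveI : IsClosedImmersion i := by
    haveI : IsClosedImmersion (i ≫ J.subschemeι) := by
      rw [Scheme.IdealSheafData.inclusion_subschemeι]; infer_instance
    exact IsClosedImmersion.of_comp i J.subschemeι
  obtain ⟨c⟩ := hn
  refine (le_meet (k := k) J J' (finrank_pos_of_nonempty (k := k))).2.2 ⟨?_, fun t => ?_⟩
  · letI : J.subscheme.Over (Spec (CommRingCat.of k)) := ⟨J.subschemeι ≫ X ↘ Spec (CommRingCat.of k)⟩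
    haveI : IsProper (J.subscheme ↘ Spec (CommRingCat.of k)) :=
      inferInstanceAs (IsProper (J.subschemeι ≫ X ↘ Spec (CommRingCat.of k)))
    letI := (isField_Γ k (Y := J.subscheme)).toField
    haveI : Nonempty (⊤ : (J ⊔ J').subscheme.Opens) := ⟨⟨c, trivial⟩⟩
    haveI : Nontrivial Γ((J ⊔ J').subscheme, ⊤) := inferInstance
    exact RingHom.injective i.appTop.hom
  · obtain ⟨s', hs'⟩ := i.stalkMap_surjective c ((J ⊔ J').subscheme.presheaf.germ ⊤ c trivial t)
    obtain ⟨r, hr⟩ := (hev c).2 (J.subscheme.residue (i.base c) s')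
    refine ⟨r, ?_⟩
    have key : (J ⊔ J').subscheme.evaluation ⊤ c trivial (i.appTop r) =
        (J ⊔ J').subscheme.evaluation ⊤ c trivial t := by
      refine (Scheme.evaluation_naturality_apply i c (V := ⊤) trivial r).symm.trans ?_
      refine (congrArg (i.residueFieldMap c) hr).trans ?_
      refine (ConcreteCategory.congr_hom (Scheme.residue_residueFieldMap i c) s').trans ?_
      show (J ⊔ J').subscheme.residue c (i.stalkMap c s') = _
      rw [hs']
      rfl
    refine sub_eq_zero.1 ((basicOpen_eq_bot_iff _).1 (eq_bot_iff.2 fun y hy => ?_))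
    obtain rfl : y = c := hsub.elim y c
    have h0 : (J ⊔ J').subscheme.evaluation ⊤ y trivial (i.appTop r - t) = 0 := by
      rw [map_sub, key, sub_self]
    exact absurd (((Scheme.mem_basicOpen _ (i.appTop r - t) y (show y ∈ (⊤ : (J ⊔ J').subscheme.Opens) from trivial)).1 hy).map
      ((J ⊔ J').subscheme.residue y).hom) (by erw [h0]; exact not_isUnit_zero)

variable [ConnectedSpace X] (hdim : topologicalKrullDim X = 1)
  [DCoh.HasRpush (X ↘ Spec (CommRingCat.of k))] (h : DCoh.RpushPreservesQCoh (X ↘ Spec (CommRingCat.of k)))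
  [DCoh.HasShriek (X ↘ Spec (CommRingCat.of k)) h]
  (OY : DCoh.DQCoh (Spec (CommRingCat.of k)))
  (hOY : Nonempty (OY.obj ≅ DCoh.inD (Spec (CommRingCat.of k)) (Coh.structureModule (Spec (CommRingCat.of k)))))
  (hω : PicF.IsInvertible (DCoh.dualizingMod (X ↘ Spec (CommRingCat.of k)) h OY 1))

include hdim hOY hω in
/-- `deg(ω|S) = 2h¹ - 2h⁰ + δ`. -/
theorem degS_omega {S : Set X} (hS : S ⊆ genericPoints (X : Type u)) :
    degS k (DCoh.dualizingMod (X ↘ Spec (CommRingCat.of k)) h OY 1) S =
      2 * (Module.finrank k (Coh.HH X (ClSub.quotMod (JJ S)) 1) : ℤ) -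
        2 * (Module.finrank k (Coh.HH X (ClSub.quotMod (JJ S)) 0) : ℤ) + (meet k S : ℤ) := by
  have := Euler.isNoetherian_of_proper (X := X) k
  haveI := (Snapper.isCoh_quotMod k (JJ S)).1
  rw [degS, euler_PP_omega h OY hOY hdim.le hω hS, Euler.euler_eq_sub k hdim.le]
  show _ = _ + ((meet k S : ℕ) : ℤ)
  simp only [meet]
  ring

include hdim hOY hω in
theorem degS_omega_gen (h0 : Module.finrank k (Coh.HH X (Coh.structureModule X) 0) = 1) :
    degS k (DCoh.dualizingMod (X ↘ Spec (CommRingCat.of k)) h OY 1) (genericPoints (X : Type u)) =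
      2 * (Curv2.genus k X : ℤ) - 2 ∧
    Module.finrank k (Coh.HH X (ClSub.quotMod (JJ (genericPoints (X : Type u)))) 1) = Curv2.genus k X := by
  have := Euler.isNoetherian_of_proper (X := X) k
  haveI := (Euler.isCoh_of_isInvertible (Euler.isInvertible_structure (X := X))).1
  refine ⟨?_, ?_⟩
  · rw [degS_univ, Curv2.deg, Nat.cast_one, one_mul, euler_omega_eq_neg h OY hOY hdim.le hω,
      Euler.euler_eq_sub k hdim.le, h0]
    show _ = 2 * (Module.finrank k (Coh.HH X (Coh.structureModule X) 1) : ℤ) - 2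
    push_cast
    ring
  · obtain ⟨e⟩ := quotMod_univ_iso (X := X)
    exact (Euler.hhEquiv (A := k) e 1).finrank_eq.symm

omit [DCoh.HasRpush (X ↘ Spec (CommRingCat.of k))] [ConnectedSpace X] in
theorem degS_nonneg (hd : topologicalKrullDim X ≤ 1) {L : X.Modules} (hL : PicF.IsInvertible L)
    (h : ∀ η ∈ genericPoints (X : Type u), 0 ≤ degS k L {η})
    {S : Set X} (hS : S ⊆ genericPoints (X : Type u)) : 0 ≤ degS k L S := by
  have := Euler.isNoetherian_of_proper (X := X) k
  have hfin : S.Finite := (genericPoints.finite NoetherianSpace.finite_irreducibleComponents).subset hS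
  induction S, hfin using Set.Finite.induction_on with
  | empty => simp [degS_empty k hd hL]
  | @insert η R hη hR ih =>
    rw [degS_union k hd hL hS (T := {η}) (Set.singleton_subset_iff.2 (Set.mem_insert η R)),
      Set.insert_sdiff_self_of_notMem hη]
    exact add_nonneg (h η (hS (Set.mem_insert η R))) (ih fun x hx => hS (Set.mem_insert_of_mem η hx))

variable (h0 : Module.finrank k (Coh.HH X (Coh.structureModule X) 0) = 1)
  (hnt : ∀ (C : Set X) (hC : C ∈ irreducibleComponents (X : Type u)), ¬ Curv2.IsRationalTail X C hC)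

include hdim hOY hω h0 hnt in
/-- Without tails every component has nonnegative degree (for genus at least one). -/
theorem comp_nonneg {η : X} (hη : η ∈ genericPoints (X : Type u))
    (hg : ({η} : Set X) = genericPoints (X : Type u) → 1 ≤ Curv2.genus k X) :
    0 ≤ degS k (DCoh.dualizingMod (X ↘ Spec (CommRingCat.of k)) h OY 1) {η} := by
  have := Euler.isNoetherian_of_proper (X := X) k
  have hS : ({η} : Set X) ⊆ genericPoints (X : Type u) := Set.singleton_subset_iff.2 hη
  rcases Nat.eq_zero_or_pos (meet k ({η} : Set X)) with hz | hp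
  · have he := eq_gen_of_meet_zero hS ⟨η, rfl⟩ hz
    rw [he, (degS_omega_gen hdim h OY hOY hω h0).1]
    have := hg he
    omega
  · rw [degS_omega hdim h OY hOY hω hS]
    obtain ⟨hr, hirr, hconn, hd1⟩ := irreducible_JJ k hdim hη
    haveI := hr
    haveI := hconn
    have ha := (le_meet (k := k) (JJ {η}) (JJ (compS ({η} : Set X))) hp).1
    rcases h1_zero_or_le (k := k) (JJ ({η} : Set X)) with h1 | h1
    · by_contra hneg
      have hC : closure ({η} : Set X) ∈ irreducibleComponents (X : Type u) := hη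
      refine hnt _ hC ?_
      have hle : meet k ({η} : Set X) ≤ Module.finrank k (Coh.HH X (ClSub.quotMod (JJ ({η} : Set X))) 0) := by
        by_contra hgt
        have hdvd : 2 * Module.finrank k (Coh.HH X (ClSub.quotMod (JJ ({η} : Set X))) 0) ≤ meet k ({η} : Set X) := by
          exact two_mul_le_meet (k := k) (lt_of_not_ge hgt)
        omega
      refine isRationalTail_of _ hC ?_ (tail_conds hdim hη h1 hp hle)
      rw [ker_opens_ι]
      exact vanishingIdeal_compl (k := k) hdim hS
    · omega

end GrothLib.CurveSerre11
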